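import Cfsg.Agent.H657.DS.LieSmall_m3
import Cfsg.Agent.H704.S8.Defs_m3
import Cfsg.Agent.H740.FiveBase
import Cfsg.Agent.UGT.C.BalON
import Cfsg.Agent.Lib.PackCol
import Cfsg.Agent.H29.AltRow
import Cfsg.Agent.H284.SepOrd
import Cfsg.Agent.OrdDiv.Table
import Cfsg.Agent.H670.S8.SharpEng2
import Cfsg.Agent.H433.Fpr.Fi23
import Cfsg.Agent.H343.LD.KB_m3
import Cfsg.Agent.H50.S8.FrobOf_m3
import Cfsg.Agent.H435.S8.MTwelve_m3
import Cfsg.Agent.Lib.SieveFast
import Cfsg.Agent.H299.K4.SuzX
import Cfsg.Agent.PermChar.SymAlt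
import Cfsg.Agent.H606.PQR.Pieces_m3
import Cfsg.Agent.H646.Restrict
import Cfsg.Agent.H905.PCover
import Cfsg.Agent.CharactersDeep.IrrEquiv
import Cfsg.Agent.S2048
import Cfsg.Agent.LThreeCo1.FourCo1
import Cfsg.Agent.H447.CTabLam_m3
import Cfsg.Agent.H693.Defl
import Cfsg.Agent.H843.IMC.Frame3_m3
import Cfsg.Agent.H812.SuzSeven_m3
import Cfsg.Agent.LThreeCo1.QEv
import Cfsg.Agent.H481.EP.Fi22_m3
import Cfsg.Agent.H843.IMC.Co3A
import Cfsg.Agent.H511.Ore.WRow_m3
import Cfsg.Agent.H715.Fpr.M23_m3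
import Cfsg.Agent.H352.NoECo
import Cfsg.Agent.H678.Constit
import Cfsg.Agent.H850.Cod.Basic
import Cfsg.Agent.FastGrp
import Cfsg.Agent.Prune
set_option linter.all false

section
prune_inst 0x7ff1fef9d9a8f9deffff7e3fffd9dff9d1ebcfffe6dffbcbffe1ebbf7f9f232339c56ba59de0d0fede56e2b410b87803fb7eeeffe86fdc7ffffdfff41ffbee0fb7ef310151d084241ffc6fff93e1778a6f3ffffffffffffffffffffffffffffffffdfbfeffff

-- part: H690/S8/Lie
section
set_option linter.all false
open scoped Cfsg.Agent.FastGrp

/-!
# S4908, SOC1LIE: socles of Lie type (helper690)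

* `st_mem` : the Steinberg degree `|S|_p` of a normal subgroup `S` of Lie type is a degree of `A`;
* `lie_none` : impossible if the degree set `D` contains no prime power;
* `lie_false` : the same if the prime powers in `D` are primes `p > 5` with `p + 1, 2 (p + 1) ∉ D`, or `16`, `32` under
  the conditions `17 ∤ d`, `31 ∤ d`.
-/

set_option autoImplicit false

namespace Cfsg.Agent.H690.S8

open Cfsg Cfsg.Agent.H704 Cfsg.Agent.NotCT Cfsg.Agent.H657.DS
open Cfsg.Agent.H691.AN (AlmostSimple)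

universe u

variable {D : Set ℕ} {A : Type u} [Group A] [Finite A]

/-- the Steinberg degree -/
theorem st_mem (S : Subgroup A) [S.Normal] [IsSimpleGroup S] (h : charDegrees A ⊆ D) {p : ℕ} (hp : p.Prime)
    (hl : IsLieTypeChar p S) : p ^ (Nat.card S).factorization p ∈ D := by
  have := Fact.mk hp
  obtain ⟨χ, hχ, -, hχ1⟩ := H691.StExt.exists_ext S (H996.AllSplit.hasSplit_of_lie hp hl)
  obtain ⟨Q⟩ := (inferInstance : Nonempty (Sylow p S))
  have h1 := hχ1 Q
  rw [Q.card_eq_multiplicity] at h1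
  exact h (H681.DegBasic.mem_charDegrees.2 ⟨χ, hχ, h1⟩)

/-- the type of the group -/
theorem typ_mem_D (S : Subgroup A) [S.Normal] [IsSimpleGroup S] (h : charDegrees A ⊆ D) {p : ℕ} (hp : p.Prime)
    (hl : IsLieTypeChar p S) :
    ∃ (t : Typ) (k : ℕ), t.Valid p k ∧ IsTyp t (p ^ k) S ∧ 0 < k * t.N ∧ p ^ (k * t.N) ∈ D := by
  obtain ⟨t, k, hv, ht⟩ := exists_typ hp hl
  have ho := card_eq hp hv ht
  have h0 := H808.SmallSylow.ordProj_eq hp Nat.card_pos.ne' (dvd_card hp hv ho) (not_dvd_card hp hv ho)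
  refine ⟨t, k, hv, ht, Nat.mul_pos (one_le_k hv) (N_pos hv), ?_⟩
  rw [← h0]
  exact st_mem S h hp hl

/-- over a degree of `S` -/
theorem over_mem (S : Subgroup A) [S.Normal] (h : charDegrees A ⊆ D) {c : ℕ} (hc : c ∈ charDegrees S) :
    ∃ d ∈ D, c ∣ d ∧ d / c ∣ S.index := by
  obtain ⟨d, hd, h1, h2⟩ := H424.DegTools.clifford_up S hc
  exact ⟨d, h hd, h1, h2⟩

theorem typs_one : ∀ t ∈ typs 1, t.N = 1 → t = Typ.L 2 ∨ t = .S 1 ∨ t = .U 2 ∨ t = .OO 1 := by decide +kernel

theorem typ_prime {p : ℕ} {t : Typ} {k : ℕ} (hv : t.Valid p k) (hk : k * t.N = 1) : t = Typ.L 2 ∧ k = 1 := by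
  have h1 : k = 1 := Nat.eq_one_of_mul_eq_one_right hk
  have h2 : t.N = 1 := Nat.eq_one_of_mul_eq_one_left hk
  refine ⟨?_, h1⟩
  rcases typs_one t (mem_typs hv hk) h2 with rfl | rfl | rfl | rfl
  · rfl
  · exact absurd hv.2.1 (by norm_num)
  · exact absurd hv.2.1 (by norm_num)
  · exact absurd hv.2.1 (by norm_num)

theorem typ_32 {t : Typ} {k : ℕ} (hv : t.Valid 2 k) (hk : k * t.N = 5) : (t, k) ∈ [(Typ.L 2, 5)] :=
  typ_mem 2 5 _ (by decide +kernel) hv hk

/-- **Lie type.** -/
theorem lie_false (hpr : ∀ p : ℕ, p.Prime → p ∈ D → 5 < p ∧ p + 1 ∉ D ∧ 2 * (p + 1) ∉ D)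
    (hpp : ∀ p a : ℕ, p.Prime → 2 ≤ a → p ^ a ∈ D → p = 2 ∧ (a = 4 ∨ a = 5))
    (h16 : 16 ∈ D → ∀ d ∈ D, ¬ 17 ∣ d) (h32 : 32 ∈ D → ∀ d ∈ D, ¬ 31 ∣ d)
    {S : Subgroup A} (hA : AlmostSimple A S) (h : charDegrees A ⊆ D) {p : ℕ} (hp : p.Prime)
    (hl : IsLieTypeChar p S) : False := by
  have := hA.normal
  have := hA.simple
  have hi : S.index ∣ Nat.card (Cfsg.Out S) := H816.OutEmb.index_dvd S (by rw [hA.cent]; exact bot_le)
  obtain ⟨t, k, hv, ht, h1, h2⟩ := typ_mem_D S h hp hl
  rcases (show k * t.N = 1 ∨ 2 ≤ k * t.N by omega) with ha | ha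
  · obtain ⟨rfl, rfl⟩ := typ_prime hv ha
    rw [ha, pow_one] at h2
    obtain ⟨h3, h4, h5⟩ := hpr p hp h2
    obtain ⟨F, _, _, hF, ⟨e⟩⟩ := ht
    rw [pow_one] at hF
    obtain ⟨-, h6, -⟩ := H664.R1.PSLTwo.degrees_odd (F := F)
      (by rw [hF]; exact hp.odd_of_ne_two (by omega)) (by rw [hF]; exact h3)
    rw [hF] at h6
    have : Fact p.Prime := ⟨hp⟩
    have ho : Nat.card (Out S) = 2 := by
      rw [Nat.card_congr (H234.OutGood.outCongr e).toEquiv,
        H60.HalfPsl.card_out (F := F) (p := p) (f := 1) (by norm_num) (by rw [pow_one]; exact hF)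
          (by rw [pow_one]; omega), pow_one, mul_one]
      obtain ⟨m, hm⟩ := hp.odd_of_ne_two (by omega)
      exact Nat.gcd_eq_left ⟨m, by omega⟩
    rw [ho] at hi
    obtain ⟨d, h7, ⟨c, h8⟩, h9⟩ := over_mem S h (mem_equiv e h6)
    subst h8
    rw [Nat.mul_div_cancel_left _ (by omega)] at h9
    have h10 : c ∣ 2 := h9.trans hi
    rcases (Nat.dvd_prime Nat.prime_two).1 h10 with rfl | rfl
    · rw [mul_one] at h7; exact h4 h7
    · rw [mul_comm] at h7; exact h5 h7
  · obtain ⟨rfl, h3⟩ := hpp p _ hp ha h2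
    rcases h3 with h3 | h3
    · have h4 := typ_16 hv h3
      simp only [List.mem_cons, List.not_mem_nil, or_false, Prod.mk.injEq] at h4
      obtain ⟨rfl, rfl⟩ := h4
      obtain ⟨F, _, _, hF, ⟨e⟩⟩ := ht
      have : CharP F 2 := H175.Eight.charP_of_card Nat.prime_two hF
      obtain ⟨-, h17, -⟩ := H664.R1.PSLTwo.degrees_even (F := F) (by rw [hF]; norm_num)
      rw [hF] at h17
      obtain ⟨d, h7, h8, -⟩ := over_mem S h (mem_equiv e h17)
      rw [h3] at h2
      exact h16 h2 d h7 h8
    · have h4 := typ_32 hv h3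
      simp only [List.mem_cons, List.not_mem_nil, or_false, Prod.mk.injEq] at h4
      obtain ⟨rfl, rfl⟩ := h4
      obtain ⟨F, _, _, hF, ⟨e⟩⟩ := ht
      have : CharP F 2 := H175.Eight.charP_of_card Nat.prime_two hF
      obtain ⟨-, -, h31⟩ := H664.R1.PSLTwo.degrees_even (F := F) (by rw [hF]; norm_num)
      rw [hF] at h31
      obtain ⟨d, h7, h8, -⟩ := over_mem S h (mem_equiv e h31)
      rw [h3] at h2
      exact h32 h2 d h7 h8

/-! ### the check for an explicit superset of `D` -/

/-- the primes up to `71` -/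
def prs : List ℕ := [2, 3, 5, 7, 11, 13, 17, 19, 23, 29, 31, 37, 41, 43, 47, 53, 59, 61, 67, 71]

theorem prs_prime : ∀ m ∈ prs, m.Prime := by
  intro m hm
  simp only [prs, List.mem_cons, List.not_mem_nil, or_false] at hm
  rcases hm with rfl | rfl | rfl | rfl | rfl | rfl | rfl | rfl | rfl | rfl | rfl | rfl | rfl | rfl | rfl | rfl | rfl |
    rfl | rfl | rfl <;> norm_num

/-- two different small prime divisors -/
def npp (m : ℕ) : Bool := prs.any fun a => m % a == 0 && prs.any fun b => a != b && m % b == 0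

theorem not_pp {m : ℕ} (h : npp m = true) {p a : ℕ} (hp : p.Prime) : m ≠ p ^ a := by
  rintro rfl
  simp only [npp, List.any_eq_true, Bool.and_eq_true, beq_iff_eq, bne_iff_ne] at h
  obtain ⟨x, hx, h1, y, hy, h2, h3⟩ := h
  have h4 := (Nat.prime_dvd_prime_iff_eq (prs_prime x hx) hp).1
    ((prs_prime x hx).dvd_of_dvd_pow (Nat.dvd_of_mod_eq_zero h1))
  have h5 := (Nat.prime_dvd_prime_iff_eq (prs_prime y hy) hp).1
    ((prs_prime y hy).dvd_of_dvd_pow (Nat.dvd_of_mod_eq_zero h3))
  exact h2 (h4.trans h5.symm)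

/-- the check -/
def chk (L : List ℕ) : Bool := L.all fun m => m == 1 || npp m ||
  (prs.contains m && Nat.blt 5 m && !L.contains (m + 1) && !L.contains (2 * (m + 1))) ||
  (m == 16 && L.all fun d => d % 17 != 0) || (m == 32 && L.all fun d => d % 31 != 0)

theorem chk_spec {L : List ℕ} (h : chk L = true) {p a : ℕ} (hp : p.Prime) (ha : 0 < a) (hm : p ^ a ∈ L) :
    (a = 1 ∧ 5 < p ∧ p + 1 ∉ L ∧ 2 * (p + 1) ∉ L) ∨ (p = 2 ∧ a = 4 ∧ ∀ d ∈ L, ¬ 17 ∣ d) ∨
      (p = 2 ∧ a = 5 ∧ ∀ d ∈ L, ¬ 31 ∣ d) := by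
  have h1 := List.all_eq_true.1 h _ hm
  simp only [Bool.or_eq_true, Bool.and_eq_true, beq_iff_eq, List.contains_iff_mem, Nat.blt_eq, Bool.not_eq_true',
    List.all_eq_true, bne_iff_ne] at h1
  rcases h1 with (((h1 | h1) | ⟨⟨⟨h1, h2⟩, h3⟩, h4⟩) | ⟨h1, h2⟩) | ⟨h1, h2⟩
  · exfalso
    exact (Nat.one_lt_pow ha.ne' hp.one_lt).ne' h1
  · exact absurd rfl (not_pp h1 hp)
  · left
    have h5 := prs_prime _ h1
    have h6 : a = 1 := by
      by_contra hcon
      have h7 : 2 ≤ a := by omega
      exact Nat.Prime.not_prime_pow h7 h5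
    subst h6
    rw [pow_one] at h2 h3 h4
    refine ⟨rfl, h2, ?_, ?_⟩
    · intro hc; rw [← List.contains_iff_mem, h3] at hc; exact Bool.noConfusion hc
    · intro hc; rw [← List.contains_iff_mem, h4] at hc; exact Bool.noConfusion hc
  · right; left
    have h3 : (2 : ℕ) ∣ p ^ a := by rw [h1]; norm_num
    have h4 : p = 2 := ((Nat.prime_dvd_prime_iff_eq Nat.prime_two hp).1 (Nat.prime_two.dvd_of_dvd_pow h3)).symm
    subst h4
    refine ⟨rfl, Nat.pow_right_injective (le_refl 2) (h1.trans (by norm_num)), fun d hd hc => h2 d hd ?_⟩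
    exact Nat.mod_eq_zero_of_dvd hc
  · right; right
    have h3 : (2 : ℕ) ∣ p ^ a := by rw [h1]; norm_num
    have h4 : p = 2 := ((Nat.prime_dvd_prime_iff_eq Nat.prime_two hp).1 (Nat.prime_two.dvd_of_dvd_pow h3)).symm
    subst h4
    refine ⟨rfl, Nat.pow_right_injective (le_refl 2) (h1.trans (by norm_num)), fun d hd hc => h2 d hd ?_⟩
    exact Nat.mod_eq_zero_of_dvd hc

/-- **Lie type, with an explicit superset of `D`.** -/
theorem lie_false_list {L : List ℕ} (hL : ∀ d ∈ D, d ∈ L) (hc : chk L = true)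
    {S : Subgroup A} (hA : AlmostSimple A S) (h : charDegrees A ⊆ D) {p : ℕ} (hp : p.Prime)
    (hl : IsLieTypeChar p S) : False := by
  refine lie_false ?_ ?_ ?_ ?_ hA h hp hl
  · intro p hp h1
    have h2 := hL p h1
    rcases chk_spec hc hp (a := 1) one_pos (by rwa [pow_one]) with ⟨-, h3, h4, h5⟩ | ⟨-, h3, -⟩ | ⟨-, h3, -⟩
    · exact ⟨h3, fun h => h4 (hL _ h), fun h => h5 (hL _ h)⟩
    · omega
    · omega
  · intro p a hp ha h1
    rcases chk_spec hc hp (a := a) (by omega) (hL _ h1) with ⟨h3, -⟩ | ⟨h2, h3, -⟩ | ⟨h2, h3, -⟩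
    · omega
    · exact ⟨h2, Or.inl h3⟩
    · exact ⟨h2, Or.inr h3⟩
  · intro h1 d hd
    rcases chk_spec hc Nat.prime_two (a := 4) (by norm_num) (hL _ h1) with ⟨h3, -⟩ | ⟨-, -, h3⟩ | ⟨-, h3, -⟩
    · omega
    · exact h3 d (hL d hd)
    · omega
  · intro h1 d hd
    rcases chk_spec hc Nat.prime_two (a := 5) (by norm_num) (hL _ h1) with ⟨h3, -⟩ | ⟨-, h3, -⟩ | ⟨-, -, h3⟩
    · omega
    · omega
    · exact h3 d (hL d hd)

end Cfsg.Agent.H690.S8

private theorem dce_2ca72df28da7 : _root_.True := by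
  try have : _root_.True := by simp only [_root_.Cfsg.Agent.H690.S8.prs.eq_1]
  try have : _root_.True := by simp only [_root_.Cfsg.Agent.H690.S8.npp.eq_1]
  exact _root_.True.intro
end

-- part: H62/S8/ONWord
section
set_option linter.all false
open scoped Cfsg.Agent.FastGrp

/-!
# An element of order 31 of the presented O'Nan group inverted by an outer automorphism (helper62)

`xx : ON` is the element of the word `w = u (bt u)⁻¹`; `order_xx`, `bt_xx`.
-/

set_option autoImplicit false
set_option maxRecDepth 100000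
set_option Elab.async false

namespace Cfsg.Agent.H62.S8.ONWord

open Cfsg
open Cfsg.Spor (ON)
open Cfsg.Spor.ON (Gen)
open Cfsg.Agent.Lib.PackMat Cfsg.Agent.SporadicB.ON45Data Cfsg.Agent.SporadicB.ON45Word
  Cfsg.Agent.Schreier.ONRel Cfsg.Agent.ONType.TupRow Cfsg.Agent.UGT.C.BalON

/-- the word `u` -/
def uw : List Gen := [.c, .g, .e, .b, .g]

/-- the word of `u (bt u)⁻¹` -/
def ww : List Gen := [.c, .g, .e, .b, .g, .d, .g, .g, .g, .d, .g, .g, .g, .d, .c, .g, .g, .g, .c, .b, .g, .e, .g, .g, .d, .g, .g, .g, .d, .c, .g, .g, .g, .d]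

/-- its matrix -/
def gw : ℕ := 0x100c0100100300c0040300600401802800000008008010020180300300001802804004008020050000040180000c014020020040180200000201800000006010008010040080080200a018020030020000300200c0000080000a000028020000180200100a0100000600801402801008000028030000140280600a0000100100a008020040060000180100000c0180300a0100180500001400803000010010050020040300400200c01805008018010000080000080000001400805006010030030060000200300a0080080400800002802004018000010020140280000a00800802008004000000060040000400c018010030000000180000400801003000014010000040000000000000403002006000000060060100100000800c008030060040280000000c0300100a0180080500a0040280200401001006000014000060080040280500a00c010060080140080300a0100180300601000000004010000050040140200000400002802004018008040060140280500601000002006010028020040040300300c00c0280200c0140180200c00003000006018030040040080280400c0080180000a00c0080600600c018000080140200200c004000060060080200100c014020000080000100200c0100080200400c0180500800801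80000200c0200500201402805002000008000000040200000a000000060080080180200c0000000300a000008000040100000500000c0180500600c030010020140180600a0140080200400c02801004008030060060180100500a00802003004008000060000140080000a00c0280100400c02003002000008000000000100100c00402802002008010030080100100000a018008040000080200200600c0200200800c020030000180080000600002000004008008020080180000100001400804008010020000060040100400c01002005000004020050020080100000a0100300400600c0100400400c0180600a0000280600a00002004006018008020020140080000201800805008018030040000140180600a014030010000000200200c00c03004000010020050060000280000a0180000300a00c030040000040100200a0180200200000c01001008008020010080040000400c00400802006004028050060040200400a008000060000080180600a0100000300600c000010060180300500201403000002000018040060180000100800000806006018008060040000280500201403000002014028050020040100000600801004000004018050080080100000600c018060060080280600000c02004006014008030080100300000a014028050000140080100000c020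0500201801003000008010010060000300300601800006008000020060000100200100a00c0000300a004008060060080300100a0180000500c004008060040180100200a0000000600a014000060000080100600c0000200400c00402004006000010000080040100600200802806008000000060060140200200a0080300300400001805004014020060080080200200a0140280200601800000006018030060000000280100c010028010080100100100401002000004008000030040040080300c0080200500001000803006000000000040100200200c0140280300600c028050080180280100c0040000000200c010040060100180600a01401805008000008020060040200300a0140100000a0080080000600802000000008008060040180000500c008010060020080100600000402005008014008010040140000400800803001008004008000040140280400c0100300500c0140100000a00c008030040080200200400801805008014028010040140300200a0080180500200802801002014018010000000180100600c000050040140000300201400804000004018000080000080400a01402006006014008020060080080000800c0200000a010020040000140280200400403005006010020030080040000100a0100100400801800806000008018020040040080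400a0180000400a0000280300a00c03003008008008020040140200300a0180180200200c018000000040200100c0000300200201801803008000028020000180100000c008010020000080000300c0040080400c0140280100600802005008018018050020040280000a0080280200400801000004000000000080180080100400001800006008030050040180200300c0180280400200001003004008010030040100200300c010018050080180280000000802002004000030040000040100200400c0100200200c000020060100000500c0180280300400001001000014008060060140180100a01801801000000018010060100280300a00c0100200600c0080200800002001000008030030020040280400800c0200000600c03006004018030020040100280500a0000200100a0180280300200800004006004010010080000300600400c0080400600c0100300800802805004004030020060000100200000c0000100c00c0100600400c02002000010000040000080300100c00c0280600800001005000010010010000100200300400401004002018018000040140100200c014030020000100000300c010000060080140080300c0100300600c0100280400000c00804000010030000080180100600c0100280200201401004002000010010000180180600000801805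00c0080000200600c00800006014030020020180280400a00c030020080040100600800801001004000018010020040100100a0040100400600c0100600800803001006000008060040140100000c0000300400c01001806008018010060000000100100400c0100000000c00000006000030010060040000300201800002008008018020020180000000a00801800008010028050000080080500c01401800000008020030040180100000c01402003008008020060000080080000600c00005004010010060020140180500c004030060080040100000000c030030020000100100c000008010000000000500800c018010040000280000a0000180400c0100300600a010008050040140280500c0000000200001001801004010018020000180180000a00c0080400801402000002000030020080040100200800c0080200c0040200300a0100180600a014010060040100200400a004020030040180200600c0000300600a010000050000180180300c000018030060040280300a0180280600a00c0100300a01803001002004008060060140000200000c01800000010020060060100080400c004028000060040080200200400805008004028050060140200000000c020060080040300100c0000180500001002804006000008050040180200600600800000004010028030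0600c0300200a000028030040180300200200c0300500a0000200400a00c0280500001803001008018030010040180100500c010000060000080280400a010008060040000280500a000028050040000200000a01002006006000020050040000080200c00001800000004028050020080300400a0100080000000c028030000040280000800c030040040180000500200800001008010028010020000100400400c01801008014020040020000300000a018030030040080280300200c01805004018030020060140280000200c0200500000c01004006000030010040140280500000c02006008010020030000080000300c0140280100a0180200500001400006000010010060040180080000600c02004006014020040080100200000c014018060040100000500401800805000000018000000100200300000c0300100a01800803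

theorem chk1 : eqW (ww ++ btw uw) uw = true := by (rewrite [show @Cfsg.Agent.UGT.C.BalON.eqW = delta% @Cfsg.Agent.UGT.C.BalON.eqW from by delta Cfsg.Agent.UGT.C.BalON.eqW; rfl, show @Cfsg.Agent.ONType.TupRow.eqM = delta% @Cfsg.Agent.ONType.TupRow.eqM from by delta Cfsg.Agent.ONType.TupRow.eqM; rfl, Cfsg.Agent.Lib.PackCol.checkEq_col]; decide +kernel)

theorem chk31 : eqW (List.replicate 31 ww).flatten [] = true := by (rewrite [show @Cfsg.Agent.UGT.C.BalON.eqW = delta% @Cfsg.Agent.UGT.C.BalON.eqW from by delta Cfsg.Agent.UGT.C.BalON.eqW; rfl, show @Cfsg.Agent.ONType.TupRow.eqM = delta% @Cfsg.Agent.ONType.TupRow.eqM from by delta Cfsg.Agent.ONType.TupRow.eqM; rfl, Cfsg.Agent.Lib.PackCol.checkEq_col]; decide +kernel)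

theorem okg : okG C45 gw = true := by decide +kernel

theorem chkM : checkEq C45 (mats ww) [gw] 0 45 = true := by decide +kernel

theorem dgne : (dg 11 gw (0 + 45 * 1)) = 2 := by decide +kernel

/-- the element of order 31 -/
noncomputable def xx : ON := (ww.map on).prod

theorem xx_ne : xx ≠ 1 := by
  have h : LW xx [gw] := (LW.word ww).change (by simp [okg]) chkM
  refine LW.ne_one h ⟨0, by norm_num⟩ ⟨1, by norm_num⟩ (by decide) ?_
  have h1 := dgne
  show ((dg 11 gw (0 + 45 * 1) : ℕ) : ZMod 7) ≠ 0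
  rw [h1]
  decide

theorem pow_word (l : List Gen) (n : ℕ) : (((List.replicate n l).flatten).map on).prod = ((l.map on).prod) ^ n := by
  induction n with
  | zero => simp
  | succ n ih =>
    rw [List.replicate_succ, List.flatten_cons, List.map_append, List.prod_append, ih, pow_succ']

theorem xx_pow (hs : IsSimpleGroup ON) : xx ^ 31 = 1 := by
  have h := eqW_spec hs chk31
  rw [pow_word] at h
  show ((ww.map on).prod) ^ 31 = 1
  simpa using h

theorem order_xx (hs : IsSimpleGroup ON) : orderOf xx = 31 := by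
  have : Fact (Nat.Prime 31) := ⟨by norm_num⟩
  exact orderOf_eq_prime (xx_pow hs) xx_ne

/-- the outer automorphism inverts `xx` -/
theorem bt_xx (hON : IsON ON) : bt hON xx = xx⁻¹ := by
  have h := eqW_spec hON.1 chk1
  rw [List.map_append, List.prod_append] at h
  have h1 : xx * bt hON ((uw.map on).prod) = (uw.map on).prod := by
    rw [bt_word]
    exact h
  have h2 : xx = (uw.map on).prod * (bt hON ((uw.map on).prod))⁻¹ := eq_mul_inv_of_mul_eq h1
  rw [h2, map_mul, map_inv, bt_bt', mul_inv_rev, inv_inv]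

end Cfsg.Agent.H62.S8.ONWord
end

-- part: H52/S8/LieExp
section
set_option linter.all false
open scoped Cfsg.Agent.FastGrp

-- part: H52/S8/Ext
section
/-!
# Degrees of an almost simple group from characters of the socle which extend to `Aut S` (helper52, S4908)

* `mem_of_ext` : the degree of a character of `S` which extends to `Aut S` is a degree of `A`;
* `lie_mem` : the Steinberg degree; `alt_mem` : the degrees `n - 1`, `n (n - 3) / 2`, `(n - 1) (n - 2) / 2`.
-/

set_option autoImplicit false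

open Cfsg Subgroup
open Cfsg.Agent.Characters.Core Cfsg.Agent.H691.AN Cfsg.Agent.H681.DegBasic Cfsg.Agent.H671.H5

namespace Cfsg.Agent.H52.S8

universe u

variable {A : Type u} [Group A] [Finite A] {S : Subgroup A}

/-- **A character of the socle which extends to `Aut S` gives a degree of `A`.** -/
theorem mem_of_ext (hA : AlmostSimple A S) {θ : IrrCharacter S} (h : ExtAut θ) :
    charDegree (θ : S → ℂ) ∈ charDegrees A := by
  have := hA.normal
  obtain ⟨ψ, hψ⟩ := h
  have h1 : IsCharacter A ((ψ : MulAut S → ℂ) ∘ (MulAut.conjNormal : A →* MulAut S)) :=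
    isCharacter_comp _ (isIrr_isCharacter ψ.2)
  have h2 : ((ψ : MulAut S → ℂ) ∘ (MulAut.conjNormal : A →* MulAut S)) ∘ S.subtype = (θ : S → ℂ) := by
    funext s
    have h5 : (MulAut.conjNormal (s : A) : MulAut S) = MulAut.conj s := by
      ext t
      simp
    rw [← hψ s, ← h5]
    rfl
  have h3 : IsIrrCharacter A ((ψ : MulAut S → ℂ) ∘ (MulAut.conjNormal : A →* MulAut S)) :=
    CharactersDeep.MaxInduced.isIrr_of_comp S.subtype h1 (by rw [h2]; exact θ.2)
  refine mem_charDegrees.2 ⟨_, h3, ?_⟩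
  have h4 : ((ψ : MulAut S → ℂ) ∘ (MulAut.conjNormal : A →* MulAut S)) 1 = (θ : S → ℂ) 1 := by
    rw [← h2]; rfl
  rw [h4]
  obtain ⟨n, hn⟩ := isCharacter_apply_one (isIrr_isCharacter θ.2)
  rw [hn]
  unfold charDegree
  rw [hn]
  simp

/-- **Lie type: the Steinberg degree.** -/
theorem lie_mem (hA : AlmostSimple A S) {p : ℕ} (hp : p.Prime) (h : Cfsg.IsLieTypeChar p S) :
    p ^ (Nat.card S).factorization p ∈ charDegrees A := by
  have : Fact p.Prime := ⟨hp⟩
  have := hA.simple
  obtain ⟨θ, h1, h2⟩ := H761.LieExt.lie_ext hA.nonab h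
  rw [← h1]
  exact mem_of_ext hA h2

end Cfsg.Agent.H52.S8
end

-- part: H52/S8/LieExp
section
/-!
# The Steinberg degree of a group of Lie type: the exponents 1 and 5 (helper52, S4908)
-/

set_option autoImplicit false

open Cfsg
open Cfsg.Agent.H902 Cfsg.Agent.H902.Art

namespace Cfsg.Agent.H52.S8

universe u

/-- the exponent of the characteristic in the order -/
theorem lie_exp {S : Type u} [Group S] {p : ℕ} (hp : p.Prime) (h : IsLieTypeChar p S) :
    ∃ (X : Sh) (f : ℕ), Art.Real X p f (Nat.card S) ∧ (Nat.card S).factorization p = f * NN X := by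
  obtain ⟨X, f, hr⟩ := H284.SepOrd.real_of_lie OrdDiv.table hp h
  refine ⟨X, f, hr, ?_⟩
  have h1 := hr.P_self
  rw [P, ← pow_mul] at h1
  exact Nat.pow_right_injective hp.two_le h1

theorem tri {n k : ℕ} (h : n * (n - 1) / 2 = k) (hk : k < 6) : n ≤ 3 := by
  by_contra hcon
  have h1 : 4 * 3 ≤ n * (n - 1) := Nat.mul_le_mul (by omega) (by omega)
  omega

theorem sq_lt {n k : ℕ} (h : n ^ 2 = k) (hk : k < 9) : n ≤ 2 := by
  by_contra hcon
  have h1 : 3 ^ 2 ≤ n ^ 2 := Nat.pow_le_pow_left (by omega) 2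
  omega

theorem dd_lt {n k : ℕ} (h : n * (n - 1) = k) (hk : k < 12) : n ≤ 3 := by
  by_contra hcon
  have h1 : 4 * 3 ≤ n * (n - 1) := Nat.mul_le_mul (by omega) (by omega)
  omega

/-- only `L₂` has exponent 1 -/
theorem NN_one {X : Sh} {p f M : ℕ} (hr : Art.Real X p f M) (h : NN X = 1) : X = .L 2 := by
  have hok := hr.ok
  rcases X with n | n | n | n | n | _ | _ | _ | _ | _ | _ | _ | _ | _ | _
  · have h1 := tri (n := n) h (by norm_num)
    have h2 : 2 ≤ n := hok.1
    have h3 : n = 2 ∨ n = 3 := by omega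
    rcases h3 with rfl | rfl
    · rfl
    · exact absurd h (by decide)
  · have h1 := sq_lt (n := n) h (by norm_num)
    have h2 : 2 ≤ n := hok.1
    have h3 : n = 2 := by omega
    subst h3
    exact absurd h (by decide)
  · have h1 := tri (n := n) h (by norm_num)
    have h2 : 3 ≤ n := hok.1
    have h3 : n = 3 := by omega
    subst h3
    exact absurd h (by decide)
  · have h1 := dd_lt (n := n) h (by norm_num)
    have h2 : 4 ≤ n := hok
    omega
  · have h1 := dd_lt (n := n) h (by norm_num)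
    have h2 : 4 ≤ n := hok
    omega
  all_goals exact absurd h (by decide)

/-- no shape has exponent 5 -/
theorem NN_five {X : Sh} {p f M : ℕ} (hr : Art.Real X p f M) (h : NN X = 5) : False := by
  have hok := hr.ok
  rcases X with n | n | n | n | n | _ | _ | _ | _ | _ | _ | _ | _ | _ | _
  · have h1 := tri (n := n) h (by norm_num)
    have h2 : 2 ≤ n := hok.1
    have h3 : n = 2 ∨ n = 3 := by omega
    rcases h3 with rfl | rfl
    · exact absurd h (by decide)
    · exact absurd h (by decide)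
  · have h1 := sq_lt (n := n) h (by norm_num)
    have h2 : 2 ≤ n := hok.1
    have h3 : n = 2 := by omega
    subst h3
    exact absurd h (by decide)
  · have h1 := tri (n := n) h (by norm_num)
    have h2 : 3 ≤ n := hok.1
    have h3 : n = 3 := by omega
    subst h3
    exact absurd h (by decide)
  · have h1 := dd_lt (n := n) h (by norm_num)
    have h2 : 4 ≤ n := hok
    omega
  · have h1 := dd_lt (n := n) h (by norm_num)
    have h2 : 4 ≤ n := hok
    omega
  all_goals exact absurd h (by decide)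

/-- the characteristic divides the order at least twice -/
theorem exp_ne_one {S : Type u} [Group S] (h : IsLieTypeChar 2 S) : (Nat.card S).factorization 2 ≠ 1 := by
  obtain ⟨X, f, hr, h1⟩ := lie_exp Nat.prime_two h
  intro h2
  rw [h2] at h1
  have h3 := Nat.eq_one_of_mul_eq_one_right h1.symm
  have h4 := Nat.eq_one_of_mul_eq_one_left h1.symm
  have h5 : X = .L 2 := NN_one hr h4
  subst h5
  subst h3
  have h6 := (L2_eq hr).1
  norm_num at h6

/-- the exponent 5 in characteristic 5: `L₂(5⁵)` -/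
theorem exp_five {S : Type u} [Group S] (h : IsLieTypeChar 5 S) (h5 : (Nat.card S).factorization 5 = 5) :
    521 ∣ Nat.card S := by
  obtain ⟨X, f, hr, h1⟩ := lie_exp (by norm_num) h
  rw [h5] at h1
  have h2 : f ∣ 5 := ⟨_, h1⟩
  rcases (Nat.dvd_prime (by norm_num : Nat.Prime 5)).1 h2 with rfl | rfl
  · exact (NN_five hr (by omega)).elim
  · have h3 : X = .L 2 := NN_one hr (by omega)
    subst h3
    rcases (L2_eq hr).2 with ⟨h4, -⟩ | ⟨-, -, h4⟩
    · exact absurd h4 (by norm_num)
    · norm_num at h4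
      have h6 : 521 ∣ 2 * Nat.card S := by rw [h4]; norm_num
      exact (Nat.Coprime.dvd_of_dvd_mul_left (by norm_num) h6)

end Cfsg.Agent.H52.S8
end
end

-- part: H305/S8/Fi23K
section
set_option linter.all false
open scoped Cfsg.Agent.FastGrp

/-!
# A crude upper bound for the number of classes of `Fi23` (helper305, for S4908)

`k_le : k(Fi23) ≤ 30000000` from the centralizers of the elements of order 23, 17, 13, 11, 7.
-/

set_option autoImplicit false

namespace Cfsg.Agent.H305.S8.Fi23K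

open Cfsg Subgroup Cfsg.Agent.H670.S8 Cfsg.Agent.H961.SepFi23

/-- one prime -/
theorem step {T : Type*} [Group T] [Finite T] {p P c : ℕ} (hp : p.Prime) (hd : p ∣ Nat.card T) (hc : p.Coprime P)
    (hC : ∀ R : Subgroup T, Nat.card R = p → Nat.card (centralizer (R : Set T)) ≤ c) : nd T P ≤ c + nd T (P * p) := by
  have : Fact p.Prime := ⟨hp⟩
  obtain ⟨x, hx⟩ := exists_prime_orderOf_dvd_card' (G := T) p hd
  have h1 := hC (zpowers x) (by rw [Nat.card_zpowers, hx])
  have h2 : centralizer ((zpowers x : Subgroup T) : Set T) = centralizer ({x} : Set T) := by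
    rw [zpowers_eq_closure, centralizer_closure]
  rw [h2] at h1
  have h3 := nd_step hp hc hx
  omega

theorem k_le : Nat.card (ConjClasses Cfsg.Spor.Fi23) ≤ 30000000 := by
  have := fin
  have hcard := card
  have h23 := step (T := Cfsg.Spor.Fi23) (p := 23) (P := 1) (c := 23) (by norm_num) (by rw [hcard]; decide +kernel) (by norm_num)
    (fun R hR => (data23 hR).1.le)
  have h17 := step (T := Cfsg.Spor.Fi23) (p := 17) (P := 23) (c := 17) (by norm_num) (by rw [hcard]; decide +kernel) (by norm_num)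
    (fun R hR => (data17 hR).1.le)
  have h13 := step (T := Cfsg.Spor.Fi23) (p := 13) (P := 391) (c := 78) (by norm_num) (by rw [hcard]; decide +kernel) (by norm_num)
    (fun R hR => (data13 hR).1.le)
  have h11 := step (T := Cfsg.Spor.Fi23) (p := 11) (P := 5083) (c := 88) (by norm_num) (by rw [hcard]; decide +kernel) (by norm_num)
    (fun R hR => Nat.le_of_dvd (by norm_num) (data11 hR).1)
  have h7 := step (T := Cfsg.Spor.Fi23) (p := 7) (P := 55913) (c := 5040) (by norm_num) (by rw [hcard]; decide +kernel) (by norm_num)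
    (fun R hR => by
      rw [← Cfsg.Agent.H433.Fpr.Fi23.n7 hR]
      exact card_le_of_le (centralizer_le_normalizer _))
  have h0 : nd Cfsg.Spor.Fi23 391391 * 153186914881 ≤ 4089470473293004800 := by
    have h1 := nd_mul_le (T := Cfsg.Spor.Fi23) (P := 391391)
    have h2 : Nat.card Cfsg.Spor.Fi23 = 4089470473293004800 := hcard.trans (by decide +kernel)
    rw [h2] at h1
    exact h1
  have e1 : 1 * 23 = 23 := rfl
  have e2 : 23 * 17 = 391 := rfl
  have e3 : 391 * 13 = 5083 := rfl
  have e4 : 5083 * 11 = 55913 := rfl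
  have e5 : 55913 * 7 = 391391 := rfl
  rw [e1] at h23
  rw [e2] at h17
  rw [e3] at h13
  rw [e4] at h11
  rw [e5] at h7
  rw [← nd_one]
  generalize nd Cfsg.Spor.Fi23 391391 = a at *
  generalize nd Cfsg.Spor.Fi23 55913 = b at *
  generalize nd Cfsg.Spor.Fi23 5083 = c at *
  generalize nd Cfsg.Spor.Fi23 391 = d at *
  generalize nd Cfsg.Spor.Fi23 23 = e at *
  generalize nd Cfsg.Spor.Fi23 1 = f at *
  clear hcard
  omega

end Cfsg.Agent.H305.S8.Fi23K
end

-- part: H559/S8/FiInv
section
set_option linter.all false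
open scoped Cfsg.Agent.FastGrp

/-!
# S4908, Fi22 (helper559): the degree `1360800` of `Fi22` and of `Aut Fi22`

The character of degree `1360800` with value `78 / 3510` of the central character at the transpositions is unique: with
two of them the principal 11-block has the exceptional degree `4499104`.
-/

set_option autoImplicit false
set_option linter.unusedSectionVars false

open Cfsg

namespace Cfsg.Agent.H559.S8.FiInv

open Cfsg.Agent.LThreeFi22 Cfsg.Agent.H618.LD.Tw Cfsg.Agent.H618.LD.Ev Cfsg.Agent.H618.LD.Blk Cfsg.Agent.H618.LD.Num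
  Cfsg.Agent.H618.LD.Prin Cfsg.Agent.H618.LD.Find Cfsg.Agent.H618.LD Cfsg.Agent.H618.LD.Mom
open Cfsg.Agent.KFacts.FiTT (TK)

universe u

variable {G : Type u} [Group G] [Finite G]

theorem mem_eps {e : G ≃* Spor.Fi22} [Fact (Nat.Prime 11)] {P : Sylow 11 G} {K : Subgroup G}
    {NE X : Finset (IrrCharacter G)} {ε : IrrCharacter G → ℤ} {d : ℤ} {k : G} (D : D11 (TK e) P K NE X ε d k)
    {χ : IrrCharacter G} {n : ℕ} {s : ℤ} (hs : s = 1 ∨ s = -1) (hn : charDegree (χ : G → ℂ) = n)
    (h1 : ¬ (11 : ℤ) ∣ n) (h2 : ¬ (11 : ℤ) ∣ ww (TK e) (χ : G → ℂ) + 1) (h3 : ¬ (11 : ℤ) ∣ n - 5)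
    (h4 : ¬ (11 : ℤ) ∣ n + 5) (h5 : ¬ (11 : ℤ) ∣ -s * n - 1) : χ ∈ NE ∧ ε χ = s := by
  have C := Inst.ctx e
  have hd := dg_eq hn
  have hNE : χ ∈ NE := by
    rcases D.tri C χ with h | h | h | h
    · rw [hd] at h; exact absurd h h1
    · exact absurd h h2
    · exact h
    · exfalso
      have h6 := D.B.congX χ h
      rw [hd] at h6
      rcases D.B.sd with h7 | h7 <;> rw [h7] at h6
      · apply h3
        have : (1 : ℤ) * (n : ℤ) - ((5 : ℕ) : ℤ) = n - 5 := by push_cast; ring
        rwa [this] at h6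
      · apply h4
        have : (-1 : ℤ) * (n : ℤ) - ((5 : ℕ) : ℤ) = -(n + 5) := by push_cast; ring
        rw [this, dvd_neg] at h6
        exact h6
  refine ⟨hNE, ?_⟩
  have h6 := D.B.cong χ hNE
  rw [hd] at h6
  rcases D.B.sg χ hNE with h7 | h7 <;> rw [h7] at h6 ⊢ <;> rcases hs with rfl | rfl
  · rfl
  · exact absurd (by simpa using h6) h5
  · exact absurd (by simpa using h6) h5
  · rfl

variable [IsSimpleGroup G]

/-- the character of degree `1360800` is invariant -/
theorem exists_inv (hna : ¬ IsMulCommutative G) (e : G ≃* Spor.Fi22) :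
    ∃ χ : IrrCharacter G, charDegree (χ : G → ℂ) = 1360800 ∧ H954.LD.Inv χ := by
  classical
  have i11 : Fact (Nat.Prime 11) := ⟨by norm_num⟩
  obtain ⟨-, ⟨κ, d2, w2⟩⟩ := exists_pair e
  obtain ⟨P, K, NE, X, ε, d, k, D⟩ := exists_D11 e
  obtain ⟨⟨β, hβ, hβw, -⟩, κ', hκ', hκw⟩ := find11 hna e D d2 w2
  have C := Inst.ctx e
  refine ⟨κ', hκ', ?_⟩
  intro b s
  by_cases hcon : H954.LD.tw b κ' = κ'
  · rw [← H954.LD.tw_apply, hcon]
  exfalso
  set κ₂ := H954.LD.tw b κ' with hκ₂
  have hd₂ : charDegree (κ₂ : G → ℂ) = 1360800 := (H954.LD.charDegree_tw b κ').trans hκ'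
  have hw₂ : ww (TK e) (κ₂ : G → ℂ) = 78 := by rw [hκ₂, ww_tw]; exact hκw
  obtain ⟨m1, e1⟩ := mem_eps (n := 13650) (s := -1) D (by norm_num) d2 (by norm_num) (by
    rcases w2 with h | h <;> rw [h] <;> norm_num) (by norm_num) (by norm_num) (by norm_num)
  obtain ⟨m2, e2⟩ := mem_eps (n := 1791153) (s := 1) D (by norm_num) hβ (by norm_num) (by
    intro h
    have h3 := dvd_sub h hβw
    have h4 : ww (TK e) (β : G → ℂ) + 1 - (ww (TK e) (β : G → ℂ) - 1) = 2 := by ring
    rw [h4] at h3
    revert h3; norm_num) (by norm_num) (by norm_num) (by norm_num)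
  obtain ⟨m3, e3⟩ := mem_eps (n := 1360800) (s := 1) D (by norm_num) hκ' (by norm_num) (by
    rw [hκw]; norm_num) (by norm_num) (by norm_num) (by norm_num)
  obtain ⟨m4, e4⟩ := mem_eps (n := 1360800) (s := 1) D (by norm_num) hd₂ (by norm_num) (by
    rw [hw₂]; norm_num) (by norm_num) (by norm_num) (by norm_num)
  have n01 : Blk.one G ≠ κ := ne_of_deg deg_one d2 (by norm_num)
  have n02 : Blk.one G ≠ β := ne_of_deg deg_one hβ (by norm_num)
  have n03 : Blk.one G ≠ κ' := ne_of_deg deg_one hκ' (by norm_num)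
  have n04 : Blk.one G ≠ κ₂ := ne_of_deg deg_one hd₂ (by norm_num)
  have n12 : κ ≠ β := ne_of_deg d2 hβ (by norm_num)
  have n13 : κ ≠ κ' := ne_of_deg d2 hκ' (by norm_num)
  have n14 : κ ≠ κ₂ := ne_of_deg d2 hd₂ (by norm_num)
  have n23 : β ≠ κ' := ne_of_deg hβ hκ' (by norm_num)
  have n24 : β ≠ κ₂ := ne_of_deg hβ hd₂ (by norm_num)
  have n34 : κ' ≠ κ₂ := fun h => hcon h.symm
  have hNE : NE = {Blk.one G, κ, β, κ', κ₂} := by
    symm
    apply Finset.eq_of_subset_of_card_le
    · intro χ h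
      simp only [Finset.mem_insert, Finset.mem_singleton] at h
      rcases h with rfl | rfl | rfl | rfl | rfl
      · exact D.B.one
      · exact m1
      · exact m2
      · exact m3
      · exact m4
    · rw [D.B.cNE, Finset.card_insert_of_notMem (by simp [n01, n02, n03, n04]),
        Finset.card_insert_of_notMem (by simp [n12, n13, n14]), Finset.card_insert_of_notMem (by simp [n23, n24]),
        Finset.card_pair n34]
  obtain ⟨Θ, hΘ⟩ : X.Nonempty := by rw [← Finset.card_pos, D.B.cX]; norm_num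
  have h0 := moment0 D.B hΘ
  rw [hNE, Finset.sum_insert (by simp [n01, n02, n03, n04]), Finset.sum_insert (by simp [n12, n13, n14]),
    Finset.sum_insert (by simp [n23, n24]), Finset.sum_pair n34, D.B.eone, e1, e2, e3, e4, dg_one, dg_eq d2, dg_eq hβ,
    dg_eq hκ', dg_eq hd₂] at h0
  have hdv := Blocks.Knorr.charDegree_dvd Θ.2
  have hcard : Nat.card G = 64561751654400 := by
    rw [Nat.card_congr e.toEquiv]
    exact Cfsg.Agent.S1696.result.2
  rw [hcard] at hdv
  have h5 : charDegree (Θ : G → ℂ) = 4499104 := by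
    have h6 : (0 : ℤ) ≤ dg Θ := by unfold dg; positivity
    have h7 : dg Θ = 4499104 := by
      rcases D.B.sd with h7 | h7 <;> rw [h7] at h0 <;> push_cast at h0 <;> omega
    unfold dg at h7
    exact_mod_cast h7
  rw [h5] at hdv
  revert hdv
  norm_num

end Cfsg.Agent.H559.S8.FiInv
end

-- part: H670/S8/J4Num2
section
set_option linter.all false

/-! # A part of the computation for `J₄` (helper670) -/

set_option autoImplicit false

namespace Cfsg.Agent.H670.S8.J4

theorem num2 : part 6 5 = true := part_fast (by decide +kernel)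

end Cfsg.Agent.H670.S8.J4
end

-- part: H810/S8/FiData
section
prune_inst 0x4010000
set_option linter.all false
open scoped Cfsg.Agent.FastGrp

-- part: H810/S8/EngTwo
section
/-!
# S4908, SOLV: the numerical engine for `X` and `Aut X` at once (helper810)

The entries of `W` are lists of alternatives `(w, divisors of w)`; one of them is a degree. `solv_two` : all `D` with
`Deg 2 X D`.
-/

set_option autoImplicit false

namespace Cfsg.Agent.H810.S8

open Cfsg Cfsg.Agent.H681 Cfsg.Agent.H681.DegBasic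
open Cfsg.Agent.H511.Ore Cfsg.Agent.H653.Sieve Cfsg.Agent.H651.Two

universe u v

open scoped commutatorElement

/-- no `f * (w / t)`, `t ∣ gcd w f`, is admissible; `B` bounds the squares of the degrees -/
def badC (adm : ℕ → Bool) (B f : ℕ) (w : ℕ × List ℕ) : Bool :=
  bif Nat.ble B ((f * (w.1 / Nat.gcd f w.1)) ^ 2) then true else
    w.2.all fun t => !(Nat.beq (f % t) 0) || !(adm (f * (w.1 / t)))

/-- no power `p ^ m`, `0 < m`, divides `ww` with `f ∣ p ^ m - 1` -/
def npC (f p ww : ℕ) : Bool :=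
  bif Nat.ble (Nat.gcd ww (p ^ 200)) f then true else npB f p ww 200 p

theorem npC_of {f p ww : ℕ} (hp : p.Prime) (hf : f < 2 ^ 100) (hw : 0 < ww) (h : npC f p ww = true) {m : ℕ} (hm : 0 < m)
    (hd : p ^ m ∣ ww) : ¬ f ∣ p ^ m - 1 := by
  intro hfd
  have hf0 : 0 < f := by
    rcases Nat.eq_zero_or_pos f with h0 | h0
    · exfalso
      rw [h0, zero_dvd_iff] at hfd
      have := Nat.one_lt_pow hm.ne' hp.one_lt
      omega
    · exact h0
  have h1 : 1 < p ^ m := Nat.one_lt_pow hm.ne' hp.one_lt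
  have h2 : f < p ^ m := by
    have := Nat.le_of_dvd (by omega) hfd
    omega
  rw [npC] at h
  by_cases hle : Nat.ble (Nat.gcd ww (p ^ 200)) f = true
  · have h3 := Nat.le_of_ble_eq_true hle
    have hg : 0 < Nat.gcd ww (p ^ 200) := Nat.gcd_pos_of_pos_left _ hw
    by_cases h200 : m ≤ 200
    · have h4 : p ^ m ∣ Nat.gcd ww (p ^ 200) := Nat.dvd_gcd hd (pow_dvd_pow p h200)
      have := Nat.le_of_dvd hg h4
      omega
    · have h4 : p ^ 200 ∣ Nat.gcd ww (p ^ 200) := Nat.dvd_gcd ((pow_dvd_pow p (by omega)).trans hd) dvd_rfl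
      have h5 := Nat.le_of_dvd hg h4
      have h6 : 2 ^ 100 ≤ p ^ 200 :=
        (Nat.pow_le_pow_right (by norm_num) (by norm_num : 100 ≤ 200)).trans (Nat.pow_le_pow_left hp.two_le 200)
      omega
  · rw [Bool.eq_false_iff.2 hle, cond_false] at h
    obtain ⟨j, rfl⟩ : ∃ j, m = j + 1 := ⟨m - 1, by omega⟩
    have h5 := np_of _ _ h j
    have e : p * p ^ j = p ^ (j + 1) := by ring
    rw [e] at h5
    exact h5 hd hfd

/-- the final check with the bad entries -/
def finB (P : List ℕ) (f : ℕ) (acc : List (List (ℕ × List ℕ))) : Bool :=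
  P.all fun p =>
    (Nat.beq (f % p) 0 || acc.any fun l => l.all fun w => npC f p (w.1 * w.1)) &&
    (!(Nat.beq (p ^ 100 % f) 0) || acc.any fun l => l.all fun w => !(Nat.beq (w.1 % p) 0))

/-- the certificate for `f` -/
def goB (adm : ℕ → Bool) (B : ℕ) (P : List ℕ) (f : ℕ) :
    List (List (ℕ × List ℕ)) → List (List (ℕ × List ℕ)) → Bool
  | [], _ => false
  | l :: W, acc =>
    bif l.all (badC adm B f) then (bif finB P f (l :: acc) then true else goB adm B P f W (l :: acc)) else
      goB adm B P f W acc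

theorem go_spec {adm : ℕ → Bool} {B : ℕ} {P : List ℕ} {f : ℕ} : ∀ {W acc : List (List (ℕ × List ℕ))},
    goB adm B P f W acc = true → (∀ l ∈ acc, l.all (badC adm B f) = true) →
    ∃ A : List (List (ℕ × List ℕ)), A ≠ [] ∧ (∀ l ∈ A, (l ∈ W ∨ l ∈ acc) ∧ l.all (badC adm B f) = true) ∧
      finB P f A = true
  | [], acc, h, _ => by simp [goB] at h
  | l :: W, acc, h, hacc => by
    rw [goB] at h
    by_cases hl : l.all (badC adm B f) = true
    · have hacc' : ∀ l' ∈ l :: acc, l'.all (badC adm B f) = true := by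
        intro l' h'
        rcases List.mem_cons.1 h' with rfl | h'
        exacts [hl, hacc l' h']
      rw [hl, cond_true] at h
      by_cases hf : finB P f (l :: acc) = true
      · refine ⟨l :: acc, by simp, fun l' h' => ⟨?_, hacc' l' h'⟩, hf⟩
        rcases List.mem_cons.1 h' with rfl | h'
        exacts [Or.inl List.mem_cons_self, Or.inr h']
      · rw [Bool.eq_false_iff.2 hf, cond_false] at h
        obtain ⟨A, h1, h2, h3⟩ := go_spec h hacc'
        refine ⟨A, h1, fun l' h' => ⟨?_, (h2 l' h').2⟩, h3⟩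
        rcases (h2 l' h').1 with h4 | h4
        · exact Or.inl (List.mem_cons_of_mem _ h4)
        · rcases List.mem_cons.1 h4 with rfl | h4
          exacts [Or.inl List.mem_cons_self, Or.inr h4]
    · rw [Bool.eq_false_iff.2 hl, cond_false] at h
      obtain ⟨A, h1, h2, h3⟩ := go_spec h hacc
      refine ⟨A, h1, fun l' h' => ⟨?_, (h2 l' h').2⟩, h3⟩
      rcases (h2 l' h').1 with h4 | h4
      exacts [Or.inl (List.mem_cons_of_mem _ h4), Or.inr h4]

theorem perfect_of_go {𝒟 : Set ℕ} {adm : ℕ → Bool} {B : ℕ} {P : List ℕ} {W : List (List (ℕ × List ℕ))}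
    (hadm : ∀ d ∈ 𝒟, adm d = true) (hB : ∀ d ∈ 𝒟, d * d < B) (hW : ∀ l ∈ W, ∃ w ∈ l, w.1 ∈ 𝒟)
    (hWd : ∀ l ∈ W, ∀ w ∈ l, ∀ t, t ∣ w.1 → t ∈ w.2)
    (hP : ∀ p : ℕ, p.Prime → ∀ d ∈ 𝒟, p ∣ d → p ∈ P)
    (hchk : ∀ f ∈ 𝒟, 1 < f → f < 2 ^ 100 ∧ goB adm B P f W [] = true)
    {G : Type u} [Group G] [Finite G] (h : charDegrees G = 𝒟) : ⁅commutator G, commutator G⁆ = commutator G := by
  classical
  have := Fintype.ofFinite G
  by_contra hcon
  obtain ⟨p, f, hp, hf1, hc⟩ := cases_of_not_perfect_dvd hcon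
  rw [h] at hc
  have one_mem' : (1 : ℕ) ∈ 𝒟 := h ▸ (one_mem : (1 : ℕ) ∈ charDegrees G)
  have pos' : ∀ {d : ℕ}, d ∈ 𝒟 → 0 < d := fun {d} hd => pos_of_mem (G := G) (h.symm ▸ hd)
  -- a bad witness
  have hbad : ∀ l ∈ W, ∀ w ∈ l, w.1 ∈ 𝒟 → badC adm B f w = true → ∀ e : ℕ, e ∣ w.1 → w.1 / e ∣ f → f * e ∉ 𝒟 := by
    intro l hl w hw hwD hb e he hef hm
    have hw0 := pos' hwD
    have h1 : w.1 / e ∣ w.1 := Nat.div_dvd_of_dvd he
    have h3 : w.1 / (w.1 / e) = e := Nat.div_div_self he hw0.ne'
    rw [badC] at hb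
    by_cases hle : Nat.ble B ((f * (w.1 / Nat.gcd f w.1)) ^ 2) = true
    · have h4 := Nat.le_of_ble_eq_true hle
      have h5 := hB _ hm
      have h6 : w.1 / e ≤ Nat.gcd f w.1 := Nat.le_of_dvd (Nat.gcd_pos_of_pos_right _ hw0) (Nat.dvd_gcd hef h1)
      have h7 : w.1 / Nat.gcd f w.1 ≤ e := by
        have h8 : 0 < w.1 / e := Nat.div_pos (Nat.le_of_dvd hw0 he) (Nat.pos_of_dvd_of_pos he hw0)
        have h9 := Nat.div_le_div_left h6 h8 (a := w.1)
        rwa [h3] at h9
      have h10 := Nat.mul_le_mul_left f h7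
      have h11 := Nat.mul_le_mul h10 h10
      rw [sq] at h4
      omega
    · rw [Bool.eq_false_iff.2 hle, cond_false] at hb
      have h2 := (List.all_eq_true.1 hb) _ (hWd l hl w hw _ h1)
      rw [h3, hadm _ hm, Bool.not_true, Bool.or_false, Bool.not_eq_true', ← Bool.not_eq_true, Nat.beq_eq] at h2
      exact h2 (Nat.mod_eq_zero_of_dvd hef)
  rcases hc with ⟨⟨b, hb⟩, hc⟩ | ⟨hfp, N, hN, hNf, m, hm, hfm, hfd, hc⟩
  · -- the `p`-group case
    have hfD : f ∈ 𝒟 := by
      rcases hc 1 one_mem' with h1 | h1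
      · exact absurd (Nat.dvd_one.1 h1) hp.one_lt.ne'
      · rwa [mul_one] at h1
    obtain ⟨hf40, hcert⟩ := hchk f hfD hf1
    obtain ⟨A, -, hA, hfin⟩ := go_spec hcert (by simp)
    have hb0 : b ≠ 0 := by
      rintro rfl
      rw [pow_zero] at hb
      omega
    have hpf : p ∣ f := by rw [hb]; exact dvd_pow_self p hb0
    have hb40 : b ≤ 100 := by
      by_contra hlt
      have h1 : 2 ^ 100 ≤ p ^ b := (Nat.pow_le_pow_left hp.two_le 100).trans (Nat.pow_le_pow_right hp.pos (by omega))
      omega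
    have hff : f ∣ p ^ 100 := by rw [hb]; exact pow_dvd_pow p hb40
    have h2 := (List.all_eq_true.1 hfin) p (hP p hp f hfD hpf)
    rw [Bool.and_eq_true] at h2
    have h3 := h2.2
    rw [Bool.or_eq_true, Bool.not_eq_true', ← Bool.not_eq_true, Nat.beq_eq] at h3
    rcases h3 with h3 | h3
    · exact h3 (Nat.mod_eq_zero_of_dvd hff)
    · obtain ⟨l, hl, h4⟩ := List.any_eq_true.1 h3
      obtain ⟨h5, h6⟩ := hA l hl
      have hlW : l ∈ W := h5.resolve_right (by simp)
      obtain ⟨w, hw, hwD⟩ := hW l hlW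
      have h7 := (List.all_eq_true.1 h4) w hw
      rw [Bool.not_eq_true', ← Bool.not_eq_true, Nat.beq_eq] at h7
      rcases hc w.1 hwD with h8 | h8
      · exact h7 (Nat.mod_eq_zero_of_dvd h8)
      · refine hbad l hlW w hw hwD ((List.all_eq_true.1 h6) w hw) w.1 dvd_rfl ?_ h8
        rw [Nat.div_self (pos' hwD)]
        exact one_dvd _
  · -- the Frobenius case
    have := Fintype.ofFinite N
    have hcN : ∀ e ∈ charDegrees N, p ^ m ∣ e ^ 2 ∨ f * e ∈ 𝒟 := by
      intro e he
      obtain ⟨ψ, hψ, hψe⟩ := mem_charDegrees.1 he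
      exact hc ψ hψ e hψe
    have hfD : f ∈ 𝒟 := by
      rcases hcN 1 one_mem with h1 | h1
      · rw [one_pow] at h1
        have := Nat.le_of_dvd one_pos h1
        omega
      · rwa [mul_one] at h1
    obtain ⟨hf100, hcert⟩ := hchk f hfD hf1
    obtain ⟨A, hA0, hA, hfin⟩ := go_spec hcert (by simp)
    -- each bad witness is divisible
    have key : ∀ l ∈ A, ∃ w ∈ l, w.1 ∈ 𝒟 ∧ p ^ m ∣ w.1 * w.1 := by
      intro l hl
      obtain ⟨h5, h6⟩ := hA l hl
      have hlW : l ∈ W := h5.resolve_right (by simp)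
      obtain ⟨w, hw, hwD⟩ := hW l hlW
      refine ⟨w, hw, hwD, ?_⟩
      have hdG : w.1 ∈ charDegrees G := by rw [h]; exact hwD
      obtain ⟨χ, hχ, hχd⟩ := mem_charDegrees.1 hdG
      obtain ⟨ψ, e, hψ, hψe, -, he1, he2⟩ := exists_constituent N hχ hχd
      rw [hNf] at he2
      have heN : e ∈ charDegrees N := mem_charDegrees.2 ⟨ψ, hψ, hψe⟩
      rcases hcN e heN with h1 | h1
      · rw [← sq]
        exact h1.trans (pow_dvd_pow_of_dvd he1 2)
      · exact absurd h1 (hbad l hlW w hw hwD ((List.all_eq_true.1 h6) w hw) e he1 he2)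
    have hpf : ¬ p ∣ f := fun h1 => by
      have h2 := (Nat.Prime.coprime_iff_not_dvd hp).1 hfp.symm
      exact h2 h1
    obtain ⟨l0, hl0⟩ := List.exists_mem_of_ne_nil A hA0
    obtain ⟨w0, -, hw0D, hk0⟩ := key l0 hl0
    have hpd : p ∣ w0.1 := by
      have h1 := (dvd_pow_self p hm.ne').trans hk0
      rcases (Nat.Prime.dvd_mul hp).1 h1 with h2 | h2 <;> exact h2
    have h2 := (List.all_eq_true.1 hfin) p (hP p hp w0.1 hw0D hpd)
    rw [Bool.and_eq_true] at h2
    have h3 := h2.1
    rw [Bool.or_eq_true, Nat.beq_eq] at h3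
    rcases h3 with h3 | h3
    · exact hpf (Nat.dvd_of_mod_eq_zero h3)
    · obtain ⟨l, hl, h4⟩ := List.any_eq_true.1 h3
      obtain ⟨w, hw, hwD', hk⟩ := key l hl
      have h7 := (List.all_eq_true.1 h4) w hw
      have hw0 := pos' hwD'
      exact npC_of hp hf100 (Nat.mul_pos hw0 hw0) h7 hm hk hfd

/-- no solvable group has the degree set `𝒟` -/
theorem solv_of_go {𝒟 : Set ℕ} {adm : ℕ → Bool} {B : ℕ} {P : List ℕ} {W : List (List (ℕ × List ℕ))}
    (hadm : ∀ d ∈ 𝒟, adm d = true) (hB : ∀ d ∈ 𝒟, d * d < B) (hW : ∀ l ∈ W, ∃ w ∈ l, w.1 ∈ 𝒟)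
    (hWd : ∀ l ∈ W, ∀ w ∈ l, ∀ t, t ∣ w.1 → t ∈ w.2)
    (hP : ∀ p : ℕ, p.Prime → ∀ d ∈ 𝒟, p ∣ d → p ∈ P)
    (hchk : ∀ f ∈ 𝒟, 1 < f → f < 2 ^ 100 ∧ goB adm B P f W [] = true)
    {w : ℕ} (hw : w ∈ 𝒟) (hw1 : 1 < w) : Cfsg.Agent.H704.S8.Solv.{u} 𝒟 := by
  intro G _ _ hs h
  have h1 := perfect_of_go hadm hB hW hWd hP hchk h
  have h2 : commutator G = ⊥ := Cfsg.Agent.H691.AN.eq_bot_of_perfect h1
    (Group.isSolvable_of_isSolvable_injective (f := (commutator G).subtype) Subtype.val_injective)
  have h3 : w ∈ charDegrees G := h ▸ hw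
  have hc : ∀ a b : G, a * b = b * a := by
    intro a b
    have h4 : ⁅a, b⁆ ∈ commutator G := by
      rw [commutator_def]
      exact Subgroup.commutator_mem_commutator (Subgroup.mem_top a) (Subgroup.mem_top b)
    rw [h2, Subgroup.mem_bot, commutatorElement_eq_one_iff_mul_comm] at h4
    exact h4
  have h5 := H424.DegTools.ito h3 (⊤ : Subgroup G) (fun a _ b _ => hc a b)
  rw [Subgroup.index_top, Nat.dvd_one] at h5
  omega

/-- the superset of the degrees of `X` and `Aut X` -/
def adm2 (N : ℕ) (ex : List ℕ) (cd : List CD) (d : ℕ) : Bool :=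
  admB N ex cd d || (Nat.beq (d % 2) 0 && (Nat.blt 2 d && admB N ex cd (d / 2)))

/-- the test for the divisors `d` of `N` -/
def tst2 (N : ℕ) (ex : List ℕ) (cd : List CD) (P : List ℕ) (W : List (List (ℕ × List ℕ))) (d : ℕ) : Bool :=
  bif Nat.ble d 1 then true else
    bif resB cd d && !(ex.any fun x => Nat.beq d x) then
      goB (adm2 N ex cd) (4 * N) P d W [] && goB (adm2 N ex cd) (4 * N) P (2 * d) W [] else true

/-- **SOLV for `X` and `Aut X` from the degree sieve.** -/
theorem solv_two {X : Type v} [Group X] [Finite X] [IsSimpleGroup X] (hX : ¬ IsMulCommutative X)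
    (hi : (MulAut.conj : X →* MulAut X).range.index ≤ 2) (N : ℕ) (hN : Nat.card X = N) (hN80 : N ≤ 2 ^ 198)
    (L : List (ℕ × ℕ)) (hL : (L.all fun pa => Nat.Prime pa.1) = true) (hLN : facProd L = N) (h2N : 2 ∣ N) (cd : List CD)
    (hcd : (cd.all (CD.ok N)) = true) (hx : ∀ d ∈ cd, d.Has X) {ex : List ℕ} (hex : NoDeg X ex)
    {W : List (List (ℕ × List ℕ))}
    (hW : ∀ l ∈ W, ∃ n ∈ charDegrees X, (∃ w ∈ l, w.1 = n) ∧ ∃ w ∈ l, w.1 = 2 * n)
    (hWd : ∀ l ∈ W, ∀ w ∈ l, ∀ t, t ∣ w.1 → t ∈ w.2)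
    {w : ℕ} (hw : w ∈ charDegrees X) (hw1 : 1 < w)
    (h : allDiv N (tst2 N ex cd (L.map Prod.fst) W) L 1 = true) (D : Set ℕ) (hD : Cfsg.Agent.H704.S8.Deg 2 X D) :
    Cfsg.Agent.H704.S8.Solv.{u} D := by
  have hL' : ∀ pa ∈ L, pa.1.Prime := fun pa hpa => of_decide_eq_true (List.all_eq_true.1 hL pa hpa)
  have hadm := adm_of hX hN cd hcd hx hex
  have hperf : commutator X = ⊤ := by
    rcases IsSimpleGroup.eq_bot_or_eq_top_of_normal (commutator X) inferInstance with h1 | h1
    · exfalso
      apply hX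
      refine ⟨⟨fun a b => ?_⟩⟩
      have h4 : ⁅a, b⁆ ∈ commutator X := by
        rw [commutator_def]
        exact Subgroup.commutator_mem_commutator (Subgroup.mem_top a) (Subgroup.mem_top b)
      rw [h1, Subgroup.mem_bot, commutatorElement_eq_one_iff_mul_comm] at h4
      exact h4
    · exact h1
  have hz : Subgroup.center X = ⊥ := by
    rcases IsSimpleGroup.eq_bot_or_eq_top_of_normal (Subgroup.center X) inferInstance with h1 | h1
    · exact h1
    · exfalso
      apply hX
      refine ⟨⟨fun a b => ?_⟩⟩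
      have h4 : b ∈ Subgroup.center X := by rw [h1]; trivial
      exact Subgroup.mem_center_iff.1 h4 a
  obtain ⟨tw1, tw2⟩ := H242.S8.twin hperf hz hi
  -- the members
  have hmem : ∀ d ∈ D, d ∈ charDegrees X ∨ ∃ n ∈ charDegrees X, n ≠ 1 ∧ d = 2 * n := by
    rcases hD with rfl | ⟨-, rfl⟩
    · exact fun d hd => Or.inl hd
    · exact tw2
  have hmem' : ∀ n ∈ charDegrees X, n ∈ D ∨ 2 * n ∈ D := by
    rcases hD with rfl | ⟨-, rfl⟩
    · exact fun d hd => Or.inl hd
    · exact tw1
  have hsq : ∀ n ∈ charDegrees X, n * n < N := fun n hn => Nat.le_of_ble_eq_true (hadm n hn).1.1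
  have hpos : ∀ n ∈ charDegrees X, 0 < n := fun n hn => pos_of_mem hn
  obtain ⟨w', hw', hw1'⟩ : ∃ w' ∈ D, 1 < w' := by
    rcases hmem' w hw with h1 | h1
    · exact ⟨_, h1, hw1⟩
    · exact ⟨_, h1, by omega⟩
  have hadm1 : ∀ n ∈ charDegrees X, admB N ex cd n = true := by
    intro d hd
    obtain ⟨⟨h1, h2⟩, h3, h4⟩ := hadm d hd
    rw [admB, h1, h3, h4, Nat.mod_eq_zero_of_dvd h2]
    rfl
  intro G _ _ hs hG
  refine solv_of_go (adm := adm2 N ex cd) (B := 4 * N) (P := L.map Prod.fst) (W := W) ?_ ?_ ?_ hWd ?_ ?_ hw' hw1' hs hG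
  · intro d hd
    rcases hmem d hd with h1 | ⟨n, h1, h2, rfl⟩
    · rw [adm2, hadm1 d h1]
      rfl
    · have h3 : 2 * n / 2 = n := Nat.mul_div_cancel_left n (by norm_num)
      have h4 : 2 * n % 2 = 0 := Nat.mul_mod_right 2 n
      have h5 : Nat.blt 2 (2 * n) = true := by
        have := hpos n h1
        exact Nat.ble_eq_true_of_le (by omega)
      rw [adm2, h3, h4, h5, hadm1 n h1]
      cases admB N ex cd (2 * n) <;> rfl
  · intro d hd
    rcases hmem d hd with h1 | ⟨n, h1, h2, rfl⟩
    · have := hsq d h1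
      omega
    · have := hsq n h1
      have e : 2 * n * (2 * n) = 4 * (n * n) := by ring
      omega
  · intro l hl
    obtain ⟨n, hn, ⟨x, hx1, hx2⟩, ⟨y, hy1, hy2⟩⟩ := hW l hl
    rcases hmem' n hn with h1 | h1
    · exact ⟨x, hx1, by rw [hx2]; exact h1⟩
    · exact ⟨y, hy1, by rw [hy2]; exact h1⟩
  · intro p hp d hd hpd
    have hpN : p ∣ N := by
      rcases hmem d hd with h1 | ⟨n, h1, h2, rfl⟩
      · exact hpd.trans (hadm d h1).1.2
      · rcases (Nat.Prime.dvd_mul hp).1 hpd with h3 | h3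
        · exact h3.trans h2N
        · exact h3.trans (hadm n h1).1.2
    exact mem_fst_of_dvd hL' hp (hLN ▸ hpN)
  · have hlt : ∀ n ∈ charDegrees X, n < 2 ^ 99 := by
      intro n hn
      by_contra hcon
      push Not at hcon
      have h1 := Nat.mul_le_mul hcon hcon
      have e : (2 : ℕ) ^ 99 * 2 ^ 99 = 2 ^ 198 := by norm_num
      have := hsq n hn
      omega
    have hgo : ∀ n ∈ charDegrees X, 1 < n →
        goB (adm2 N ex cd) (4 * N) (L.map Prod.fst) n W [] = true ∧
        goB (adm2 N ex cd) (4 * N) (L.map Prod.fst) (2 * n) W [] = true := by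
      intro f hf hf1
      obtain ⟨⟨h1, h2⟩, h3, h4⟩ := hadm f hf
      have h5 := allDiv_spec hL' h f (by rw [hLN]; exact h2) (by rw [one_mul]; exact hsq f hf)
      have h6 : Nat.ble f 1 = false := by
        rw [Bool.eq_false_iff]; intro h; have := Nat.le_of_ble_eq_true h; omega
      rw [one_mul, tst2, h6, h3, h4] at h5
      exact Bool.and_eq_true_iff.1 h5
    intro f hf hf1
    rcases hmem f hf with h1 | ⟨n, h1, h2, rfl⟩
    · have := hlt f h1
      exact ⟨by omega, (hgo f h1 hf1).1⟩
    · have := hlt n h1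
      have h3 := hpos n h1
      exact ⟨by omega, (hgo n h1 (by omega)).2⟩

end Cfsg.Agent.H810.S8
end

-- part: H810/S8/FiData
section
/-!
# S4908, SOLV: the numerical data for FiT (helper810)
-/

set_option autoImplicit false
set_option maxRecDepth 1000000

namespace Cfsg.Agent.H810.S8.FiT

open Cfsg.Agent.H511.Ore Cfsg.Agent.H653.Sieve Cfsg.Agent.H651.Two

def cd : List CD :=
  [⟨29, 1, 14, 2, [(0, 0), (1, 2), (14, -1), (15, 1), (28, -2)], 2, true⟩,
   ⟨23, 1, 11, 2, [(0, 0), (1, 2), (11, -1), (12, 1), (22, -2)], 2, true⟩,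
   ⟨17, 1, 16, 1, [(0, 0), (1, 1), (16, -1)], 0, false⟩]

def fac : List (ℕ × ℕ) := [(29, 1), (23, 1), (17, 1), (13, 1), (11, 1), (7, 3), (5, 2), (3, 16), (2, 21)]

def ex : List ℕ := [392]

/-- the divisors of 197813862400 -/
def l0 : List ℕ :=
  [1, 2, 4, 5, 7, 8, 10, 11, 14, 16, 20, 22, 25, 28, 32, 35, 40, 44, 49, 50, 55, 56, 64, 70, 77, 80, 88, 98,
    100, 110, 112, 128, 140, 154, 160, 175, 176, 196, 200, 220, 224, 245, 256, 275, 280, 308, 320, 343, 350, 352,
    385, 392, 400, 440, 448, 490, 512, 539, 550, 560, 616, 640, 686, 700, 704, 770, 784, 800, 880, 896, 980,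
    1024, 1078, 1100, 1120, 1225, 1232, 1280, 1372, 1400, 1408, 1540, 1568, 1600, 1715, 1760, 1792, 1925, 1960,
    2048, 2156, 2200, 2240, 2450, 2464, 2560, 2695, 2744, 2800, 2816, 3080, 3136, 3200, 3430, 3520, 3584, 3773,
    3850, 3920, 4096, 4312, 4400, 4480, 4900, 4928, 5120, 5390, 5488, 5600, 5632, 6160, 6272, 6400, 6860, 7040,
    7168, 7546, 7700, 7840, 8192, 8575, 8624, 8800, 8960, 9800, 9856, 10240, 10780, 10976, 11200, 11264, 12320,
    12544, 12800, 13475, 13720, 14080, 14336, 15092, 15400, 15680, 16384, 17150, 17248, 17600, 17920, 18865,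
    19600, 19712, 20480, 21560, 21952, 22400, 22528, 24640, 25088, 25600, 26950, 27440, 28160, 28672, 30184,
    30800, 31360, 32768, 34300, 34496, 35200, 35840, 37730, 39200, 39424, 40960, 43120, 43904, 44800, 45056,
    49280, 50176, 51200, 53900, 54880, 56320, 57344, 60368, 61600, 62720, 65536, 68600, 68992, 70400, 71680,
    75460, 78400, 78848, 81920, 86240, 87808, 89600, 90112, 94325, 98560, 100352, 102400, 107800, 109760, 112640,
    114688, 120736, 123200, 125440, 131072, 137200, 137984, 140800, 143360, 150920, 156800, 157696, 163840,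
    172480, 175616, 179200, 180224, 188650, 197120, 200704, 204800, 215600, 219520, 225280, 229376, 241472,
    246400, 250880, 262144, 274400, 275968, 281600, 286720, 301840, 313600, 315392, 327680, 344960, 351232,
    358400, 360448, 377300, 394240, 401408, 409600, 431200, 439040, 450560, 458752, 482944, 492800, 501760,
    524288, 548800, 551936, 563200, 573440, 603680, 627200, 630784, 655360, 689920, 702464, 716800, 720896,
    754600, 788480, 802816, 819200, 862400, 878080, 901120, 917504, 965888, 985600, 1003520, 1048576, 1097600,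
    1103872, 1126400, 1146880, 1207360, 1254400, 1261568, 1310720, 1379840, 1404928, 1433600, 1441792, 1509200,
    1576960, 1605632, 1638400, 1724800, 1756160, 1802240, 1835008, 1931776, 1971200, 2007040, 2097152, 2195200,
    2207744, 2252800, 2293760, 2414720, 2508800, 2523136, 2621440, 2759680, 2809856, 2867200, 2883584, 3018400,
    3153920, 3211264, 3276800, 3449600, 3512320, 3604480, 3670016, 3863552, 3942400, 4014080, 4390400, 4415488,
    4505600, 4587520, 4829440, 5017600, 5046272, 5242880, 5519360, 5619712, 5734400, 5767168, 6036800, 6307840,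
    6422528, 6553600, 6899200, 7024640, 7208960, 7340032, 7727104, 7884800, 8028160, 8780800, 8830976, 9011200,
    9175040, 9658880, 10035200, 10092544, 10485760, 11038720, 11239424, 11468800, 11534336, 12073600, 12615680,
    12845056, 13107200, 13798400, 14049280, 14417920, 14680064, 15454208, 15769600, 16056320, 17561600, 17661952,
    18022400, 18350080, 19317760, 20070400, 20185088, 22077440, 22478848, 22937600, 23068672, 24147200, 25231360,
    25690112, 26214400, 27596800, 28098560, 28835840, 30908416, 31539200, 32112640, 35123200, 35323904, 36044800,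
    36700160, 38635520, 40140800, 40370176, 44154880, 44957696, 45875200, 48294400, 50462720, 51380224, 52428800,
    55193600, 56197120, 57671680, 61816832, 63078400, 64225280, 70246400, 70647808, 72089600, 73400320, 77271040,
    80281600, 80740352, 88309760, 89915392, 91750400, 96588800, 100925440, 102760448, 110387200, 112394240,
    115343360, 123633664, 126156800, 128450560, 140492800, 141295616, 144179200, 154542080, 160563200, 161480704,
    176619520, 179830784, 183500800, 193177600, 201850880, 220774400, 224788480, 247267328, 252313600, 256901120,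
    280985600, 282591232, 288358400, 309084160, 321126400, 353239040, 359661568, 367001600, 386355200, 403701760,
    441548800, 449576960, 494534656, 504627200, 513802240, 561971200, 565182464, 576716800, 618168320, 642252800,
    706478080, 719323136, 772710400, 807403520, 883097600, 899153920, 989069312, 1009254400, 1123942400,
    1130364928, 1236336640, 1284505600, 1412956160, 1545420800, 1766195200, 1798307840, 1978138624, 2018508800,
    2247884800, 2472673280, 2569011200, 2825912320, 3090841600, 3532390400, 3596615680, 3956277248, 4037017600,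
    4495769600, 4945346560, 5651824640, 6181683200, 7064780800, 7912554496, 8991539200, 9890693120, 12363366400,
    14129561600, 17983078400, 19781386240, 24726732800, 28259123200, 39562772480, 49453465600, 98906931200,
    197813862400]

theorem mem0 : ∀ t, t ∣ 197813862400 → t ∈ l0 := by
  refine mem_of_dvd_of_chk (L := [(11, 1), (7, 3), (5, 2), (2, 21)]) ?_ ?_ ?_
  · simp only [List.all_cons, List.all_nil, Bool.and_true]; norm_num
  · decide +kernel
  · exact SieveFast.mem_all 197813862400 10 (by decide +kernel)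

/-- the divisors of 395627724800 -/
def l1 : List ℕ :=
  [1, 2, 4, 5, 7, 8, 10, 11, 14, 16, 20, 22, 25, 28, 32, 35, 40, 44, 49, 50, 55, 56, 64, 70, 77, 80, 88, 98,
    100, 110, 112, 128, 140, 154, 160, 175, 176, 196, 200, 220, 224, 245, 256, 275, 280, 308, 320, 343, 350, 352,
    385, 392, 400, 440, 448, 490, 512, 539, 550, 560, 616, 640, 686, 700, 704, 770, 784, 800, 880, 896, 980,
    1024, 1078, 1100, 1120, 1225, 1232, 1280, 1372, 1400, 1408, 1540, 1568, 1600, 1715, 1760, 1792, 1925, 1960,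
    2048, 2156, 2200, 2240, 2450, 2464, 2560, 2695, 2744, 2800, 2816, 3080, 3136, 3200, 3430, 3520, 3584, 3773,
    3850, 3920, 4096, 4312, 4400, 4480, 4900, 4928, 5120, 5390, 5488, 5600, 5632, 6160, 6272, 6400, 6860, 7040,
    7168, 7546, 7700, 7840, 8192, 8575, 8624, 8800, 8960, 9800, 9856, 10240, 10780, 10976, 11200, 11264, 12320,
    12544, 12800, 13475, 13720, 14080, 14336, 15092, 15400, 15680, 16384, 17150, 17248, 17600, 17920, 18865,
    19600, 19712, 20480, 21560, 21952, 22400, 22528, 24640, 25088, 25600, 26950, 27440, 28160, 28672, 30184,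
    30800, 31360, 32768, 34300, 34496, 35200, 35840, 37730, 39200, 39424, 40960, 43120, 43904, 44800, 45056,
    49280, 50176, 51200, 53900, 54880, 56320, 57344, 60368, 61600, 62720, 65536, 68600, 68992, 70400, 71680,
    75460, 78400, 78848, 81920, 86240, 87808, 89600, 90112, 94325, 98560, 100352, 102400, 107800, 109760, 112640,
    114688, 120736, 123200, 125440, 131072, 137200, 137984, 140800, 143360, 150920, 156800, 157696, 163840,
    172480, 175616, 179200, 180224, 188650, 197120, 200704, 204800, 215600, 219520, 225280, 229376, 241472,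
    246400, 250880, 262144, 274400, 275968, 281600, 286720, 301840, 313600, 315392, 327680, 344960, 351232,
    358400, 360448, 377300, 394240, 401408, 409600, 431200, 439040, 450560, 458752, 482944, 492800, 501760,
    524288, 548800, 551936, 563200, 573440, 603680, 627200, 630784, 655360, 689920, 702464, 716800, 720896,
    754600, 788480, 802816, 819200, 862400, 878080, 901120, 917504, 965888, 985600, 1003520, 1048576, 1097600,
    1103872, 1126400, 1146880, 1207360, 1254400, 1261568, 1310720, 1379840, 1404928, 1433600, 1441792, 1509200,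
    1576960, 1605632, 1638400, 1724800, 1756160, 1802240, 1835008, 1931776, 1971200, 2007040, 2097152, 2195200,
    2207744, 2252800, 2293760, 2414720, 2508800, 2523136, 2621440, 2759680, 2809856, 2867200, 2883584, 3018400,
    3153920, 3211264, 3276800, 3449600, 3512320, 3604480, 3670016, 3863552, 3942400, 4014080, 4194304, 4390400,
    4415488, 4505600, 4587520, 4829440, 5017600, 5046272, 5242880, 5519360, 5619712, 5734400, 5767168, 6036800,
    6307840, 6422528, 6553600, 6899200, 7024640, 7208960, 7340032, 7727104, 7884800, 8028160, 8780800, 8830976,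
    9011200, 9175040, 9658880, 10035200, 10092544, 10485760, 11038720, 11239424, 11468800, 11534336, 12073600,
    12615680, 12845056, 13107200, 13798400, 14049280, 14417920, 14680064, 15454208, 15769600, 16056320, 17561600,
    17661952, 18022400, 18350080, 19317760, 20070400, 20185088, 20971520, 22077440, 22478848, 22937600, 23068672,
    24147200, 25231360, 25690112, 26214400, 27596800, 28098560, 28835840, 29360128, 30908416, 31539200, 32112640,
    35123200, 35323904, 36044800, 36700160, 38635520, 40140800, 40370176, 44154880, 44957696, 45875200, 46137344,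
    48294400, 50462720, 51380224, 52428800, 55193600, 56197120, 57671680, 61816832, 63078400, 64225280, 70246400,
    70647808, 72089600, 73400320, 77271040, 80281600, 80740352, 88309760, 89915392, 91750400, 96588800,
    100925440, 102760448, 104857600, 110387200, 112394240, 115343360, 123633664, 126156800, 128450560, 140492800,
    141295616, 144179200, 146800640, 154542080, 160563200, 161480704, 176619520, 179830784, 183500800, 193177600,
    201850880, 205520896, 220774400, 224788480, 230686720, 247267328, 252313600, 256901120, 280985600, 282591232,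
    288358400, 309084160, 321126400, 322961408, 353239040, 359661568, 367001600, 386355200, 403701760, 441548800,
    449576960, 494534656, 504627200, 513802240, 561971200, 565182464, 576716800, 618168320, 642252800, 706478080,
    719323136, 734003200, 772710400, 807403520, 883097600, 899153920, 989069312, 1009254400, 1027604480,
    1123942400, 1130364928, 1153433600, 1236336640, 1284505600, 1412956160, 1438646272, 1545420800, 1614807040,
    1766195200, 1798307840, 1978138624, 2018508800, 2247884800, 2260729856, 2472673280, 2569011200, 2825912320,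
    3090841600, 3532390400, 3596615680, 3956277248, 4037017600, 4495769600, 4945346560, 5138022400, 5651824640,
    6181683200, 7064780800, 7193231360, 7912554496, 8074035200, 8991539200, 9890693120, 11303649280, 12363366400,
    14129561600, 15825108992, 17983078400, 19781386240, 24726732800, 28259123200, 35966156800, 39562772480,
    49453465600, 56518246400, 79125544960, 98906931200, 197813862400, 395627724800]

theorem mem1 : ∀ t, t ∣ 395627724800 → t ∈ l1 := by
  refine mem_of_dvd_of_chk (L := [(11, 1), (7, 3), (5, 2), (2, 22)]) ?_ ?_ ?_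
  · simp only [List.all_cons, List.all_nil, Bool.and_true]; norm_num
  · decide +kernel
  · exact SieveFast.mem_all 395627724800 10 (by decide +kernel)

/-- the divisors of 57477 -/
def l2 : List ℕ :=
  [1, 3, 7, 17, 21, 23, 49, 51, 69, 119, 147, 161, 357, 391, 483, 833, 1127, 1173, 2499, 2737, 3381, 8211,
    19159, 57477]

theorem mem2 : ∀ t, t ∣ 57477 → t ∈ l2 := by
  refine mem_of_dvd_of_chk (L := [(23, 1), (17, 1), (7, 2), (3, 1)]) ?_ ?_ ?_
  · simp only [List.all_cons, List.all_nil, Bool.and_true]; norm_num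
  · decide +kernel
  · decide +kernel

/-- the divisors of 114954 -/
def l3 : List ℕ :=
  [1, 2, 3, 6, 7, 14, 17, 21, 23, 34, 42, 46, 49, 51, 69, 98, 102, 119, 138, 147, 161, 238, 294, 322, 357, 391,
    483, 714, 782, 833, 966, 1127, 1173, 1666, 2254, 2346, 2499, 2737, 3381, 4998, 5474, 6762, 8211, 16422,
    19159, 38318, 57477, 114954]

theorem mem3 : ∀ t, t ∣ 114954 → t ∈ l3 := by
  refine mem_of_dvd_of_chk (L := [(23, 1), (17, 1), (7, 2), (3, 1), (2, 1)]) ?_ ?_ ?_
  · simp only [List.all_cons, List.all_nil, Bool.and_true]; norm_num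
  · decide +kernel
  · decide +kernel

def W : List (List (ℕ × List ℕ)) := [[(197813862400, l0), (395627724800, l1)], [(57477, l2), (114954, l3)]]

theorem ok : (cd.all (CD.ok 1255205709190661721292800)) = true := by decide +kernel

theorem fac_prime : (fac.all fun pa => Nat.Prime pa.1) = true := by
  simp only [fac, List.all_cons, List.all_nil, Bool.and_true]
  norm_num

theorem fac_prod : facProd fac = 1255205709190661721292800 := by decide +kernel

/-- the test -/
def T : ℕ → Bool := tst2 1255205709190661721292800 ex cd (fac.map Prod.fst) W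

end Cfsg.Agent.H810.S8.FiT
end

private theorem dce_da57db59c745 : _root_.True := by
  try have : _root_.True := by simp only [_root_.Cfsg.Agent.H810.S8.FiT.fac.eq_1]
  try have : _root_.True := by simp only [_root_.Cfsg.Agent.H810.S8.goB.eq_1]
  try have : _root_.True := by simp only [_root_.Cfsg.Agent.H810.S8.npC.eq_1]
  try have : _root_.True := by simp only [_root_.Cfsg.Agent.H810.S8.adm2.eq_1]
  try have : _root_.True := by simp only [_root_.Cfsg.Agent.H810.S8.goB.eq_def]
  try have : _root_.True := by simp only [_root_.Cfsg.Agent.H810.S8.tst2.eq_1]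
  try have : _root_.True := by simp only [_root_.Cfsg.Agent.H810.S8.goB.eq_2]
  try have : _root_.True := by simp only [_root_.Cfsg.Agent.H810.S8.badC.eq_1]
  exact _root_.True.intro
end

-- part: H810/S8/FiAll
section
set_option linter.all false
open scoped Cfsg.Agent.FastGrp

-- part: H810/S8/FiAll
section
/-!
# S4908, SOLV: the numerical check for FiT (helper810; direct steps: helper10)
-/

set_option autoImplicit false
set_option maxRecDepth 1000000

namespace Cfsg.Agent.H810.S8.FiT

open Cfsg.Agent.H653.Sieve Cfsg.Agent.H651.Two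

/-- `npB` by direct steps -/
private noncomputable def npF (f ww k : ℕ) : ℕ → Bool :=
  Nat.rec (fun _ => false) (fun _ ih q => Nat.rec (Nat.rec false (fun _ _ => ih (Nat.mul q 2)) (Nat.mod (Nat.sub q 1) f))
    (fun _ _ => true) (Nat.mod ww q)) k

private theorem npF_eq (f ww : ℕ) : ∀ k q : ℕ, npF f ww k q = npB f 2 ww k q
  | 0, _ => rfl
  | k + 1, q => by
    rw [npB, ← npF_eq f ww k]
    show (Nat.rec (Nat.rec false (fun _ _ => npF f ww k (q * 2)) ((q - 1) % f)) (fun _ _ => true) (ww % q) : Bool) = _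
    cases ww % q <;> cases (q - 1) % f <;> rfl

/-- both -/
private noncomputable def an (a b : Bool) : Bool := Bool.rec false b a

private theorem an_true {a b : Bool} (h : an a b = true) : a = true ∧ b = true := by
  cases a
  · exact Bool.noConfusion h
  · exact ⟨rfl, h⟩

/-- the usual case of the certificate -/
private noncomputable def gF (f : ℕ) : Bool :=
  an (Nat.ble 2240719267727 (Nat.mul f (Nat.div 197813862400 (Nat.gcd f 197813862400))))
  (an (Nat.ble 2240719267727 (Nat.mul f (Nat.div 395627724800 (Nat.gcd f 395627724800))))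
  (an (Nat.ble 117649 f)
  (an (Nat.rec (an (Nat.ble 1 (Nat.mod 137806123398222701841183371720896367762643312000384664331464775521549852095523076769401159497458526446001 f))
    (an (Nat.ble 1 (Nat.mod 3234476509624757991344647769100216810857203198904625400933895331391691459636928060001 f))
    (an (Nat.ble 1 (Nat.mod 7888609052210118054117285652827862296732064351090230047702789306640625 f))
    (Nat.ble 1 (Nat.mod 1267650600228229401496703205376 f))))) (fun _ _ => true) (Nat.mod 4457306690140020583050849457630905732889282378909993913321564440063328532751990062116218241757307382563413326245692228660503853526519668913774980734708017833728654941914517446665702145060010000000000000000000000000000000000000000000000000000000000000000000000000000000000000000000000000000 f))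
  (Nat.rec true (fun _ _ => an (npF f 39130324157606133760000 200 2) (npF f 156521296630424535040000 200 2))
    (Nat.mod f 2)))))

private theorem np_le {f p ww : ℕ} (hf : Nat.ble 117649 f = true) (h : Nat.ble (Nat.gcd ww (p ^ 200)) 117649 = true) :
    npC f p ww = true := by
  rw [npC, Nat.ble_eq_true_of_le ((Nat.le_of_ble_eq_true h).trans (Nat.le_of_ble_eq_true hf))]
  rfl

private theorem np_two {f ww : ℕ} (h : npF f ww 200 2 = true) : npC f 2 ww = true := by
  rw [npC, ← npF_eq, h]
  cases Nat.ble (Nat.gcd ww (2 ^ 200)) f <;> rfl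

private theorem nz {a : ℕ} (h : Nat.ble 1 a = true) : Nat.beq a 0 = false := by
  cases a
  · exact Bool.noConfusion h
  · rfl

private theorem gF_spec {adm : ℕ → Bool} {f : ℕ} (h : gF f = true) :
    goB adm (4 * 1255205709190661721292800) (fac.map Prod.fst) f W [] = true := by
  obtain ⟨h1, h⟩ := an_true h
  obtain ⟨h2, h⟩ := an_true h
  obtain ⟨h3, h⟩ := an_true h
  obtain ⟨h0, h⟩ := an_true h
  have sq : ∀ {x : ℕ}, Nat.ble 2240719267727 x = true → Nat.ble (4 * 1255205709190661721292800) (x ^ 2) = true := fun h =>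
    Nat.ble_eq_true_of_le (le_trans (by decide) (Nat.pow_le_pow_left (Nat.le_of_ble_eq_true h) 2))
  have k0 : Nat.ble 1 (Nat.mod 137806123398222701841183371720896367762643312000384664331464775521549852095523076769401159497458526446001 f) = true ∧ Nat.ble 1 (Nat.mod 3234476509624757991344647769100216810857203198904625400933895331391691459636928060001 f) = true ∧
      Nat.ble 1 (Nat.mod 7888609052210118054117285652827862296732064351090230047702789306640625 f) = true ∧ Nat.ble 1 (Nat.mod 1267650600228229401496703205376 f) = true := by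
    cases k1 : Nat.mod 4457306690140020583050849457630905732889282378909993913321564440063328532751990062116218241757307382563413326245692228660503853526519668913774980734708017833728654941914517446665702145060010000000000000000000000000000000000000000000000000000000000000000000000000000000000000000000000000000 f with
    | zero =>
      rw [k1] at h0
      exact ⟨(an_true h0).1, (an_true (an_true h0).2).1, an_true (an_true (an_true h0).2).2⟩
    | succ n =>
      have k2 : ∀ {x : ℕ}, x ∣ 4457306690140020583050849457630905732889282378909993913321564440063328532751990062116218241757307382563413326245692228660503853526519668913774980734708017833728654941914517446665702145060010000000000000000000000000000000000000000000000000000000000000000000000000000000000000000000000000000 → Nat.ble 1 (Nat.mod x f) = true := fun {x} hx =>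
        Nat.ble_eq_true_of_le (Nat.pos_of_ne_zero fun k3 => Nat.succ_ne_zero n (k1.symm.trans
          (Nat.mod_eq_zero_of_dvd ((Nat.dvd_of_mod_eq_zero k3).trans hx))))
      exact ⟨k2 (by decide +kernel), k2 (by decide +kernel), k2 (by decide +kernel), k2 (by decide +kernel)⟩
  obtain ⟨h4, h5, h6, h7⟩ := k0
  have b1 : badC adm (4 * 1255205709190661721292800) f (197813862400, l0) = true := by
    rw [badC, show Nat.ble (4 * 1255205709190661721292800) ((f * (197813862400 / Nat.gcd f 197813862400)) ^ 2) = true from sq h1]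
    rfl
  have b2 : badC adm (4 * 1255205709190661721292800) f (395627724800, l1) = true := by
    rw [badC, show Nat.ble (4 * 1255205709190661721292800) ((f * (395627724800 / Nat.gcd f 395627724800)) ^ 2) = true from sq h2]
    rfl
  have n1 : ∀ p ∈ [29, 23, 17, 13, 11, 7, 5, 3], npC f p (197813862400 * 197813862400) = true ∧
      npC f p (395627724800 * 395627724800) = true := fun p hp =>
    ⟨np_le h3 (by revert p; decide +kernel), np_le h3 (by revert p; decide +kernel)⟩
  have n2 : (Nat.beq (f % 2) 0 || (npC f 2 (197813862400 * 197813862400) &&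
      npC f 2 (395627724800 * 395627724800))) = true := by
    replace h : (Nat.rec true (fun _ _ => an (npF f (197813862400 * 197813862400) 200 2)
      (npF f (395627724800 * 395627724800) 200 2)) (f % 2) : Bool) = true := h
    cases h8 : f % 2 with
    | zero => rfl
    | succ m =>
      rw [h8] at h
      obtain ⟨h9, h10⟩ := an_true h
      rw [np_two h9, np_two h10]
      rfl
  have e4 : Nat.beq (11 ^ 100 % f) 0 = false := nz h4
  have e5 : Nat.beq (7 ^ 100 % f) 0 = false := nz h5
  have e6 : Nat.beq (5 ^ 100 % f) 0 = false := nz h6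
  have e7 : Nat.beq (2 ^ 100 % f) 0 = false := nz h7
  have hf : finB (fac.map Prod.fst) f [[(197813862400, l0), (395627724800, l1)]] = true := by
    delta finB
    rw [show fac.map Prod.fst = [29, 23, 17, 13, 11, 7, 5, 3, 2] from rfl]
    simp only [List.all_cons, List.all_nil, List.any_cons, List.any_nil, Bool.and_true, Bool.or_false,
      n1 29 (by decide), n1 23 (by decide), n1 17 (by decide), n1 13 (by decide), n1 11 (by decide), n1 7 (by decide),
      n1 5 (by decide), n1 3 (by decide), n2, e4, e5, e6, e7, Bool.or_true, Bool.true_and, Bool.not_false, Bool.true_or,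
      Bool.and_eq_true, Bool.or_eq_true]
    exact ⟨.inr (by decide), .inr (by decide), .inr (by decide), .inr (by decide), .inr (by decide)⟩
  delta W
  rw [goB, List.all_cons, List.all_cons, b1, b2, hf]
  rfl

private theorem T_res {d : ℕ} (h : resB cd d = false) : T d = true := by
  delta T tst2
  rw [h]
  cases Nat.ble d 1 <;> rfl

private theorem TF_spec (d : ℕ) (h : @Bool.rec (fun _ => Bool) (T d) true (an (gF d) (gF (Nat.mul 2 d))) = true) : T d = true := by
  cases h4 : an (gF d) (gF (Nat.mul 2 d)) with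
  | false => rw [h4] at h; exact h
  | true =>
    obtain ⟨h5, h6⟩ := an_true h4
    delta T tst2
    rw [gF_spec h5, gF_spec (show gF (2 * d) = true from h6)]
    cases Nat.ble d 1 <;> cases (resB cd d && !(ex.any fun x => Nat.beq d x)) <;> rfl

theorem chk : allDiv 1255205709190661721292800 T fac 1 = true :=
  SieveFast.filtM 1120359633863 2 21 fac.dropLast (cd.map fun c => (c.r, c.wl.map Prod.fst)) rfl (fun d x hx h => by
    obtain ⟨c, hc, rfl⟩ := List.mem_map.1 hx
    refine T_res (Bool.eq_false_iff.2 fun h1 => h ?_)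
    obtain ⟨rw, h2, h3⟩ := List.any_eq_true.1 (List.all_eq_true.1 h1 c hc)
    exact List.mem_map.2 ⟨rw, h2, (Nat.eq_of_beq_eq_true h3).symm⟩) TF_spec (by decide +kernel)

end Cfsg.Agent.H810.S8.FiT
end
end

-- part: H859/S8/SuzTwo
section
prune_inst 0x40000000000000000000000002000000000000000000000000000000004000000020002000020000800000000040000000000000000000000400000000000880820060810000000006000002000000000000000000000000000000000000000000000
set_option linter.all false
open scoped Cfsg.Agent.FastGrp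

-- part: H759/S8/SuzSq
section
/-!
# S4908, `Suz`: faithful characters of degree 66 and 78 of the covers by a group of order 3 (helper759)

`C = C(e 1)` in `Co0`, `χ` its character of degree 12, `L = C'`; `χ χ̄ = 1 + ψ`, so the symmetric and the alternating
square of `χ` are irreducible on every group which maps onto `L`.

* `exists_sq` : a perfect central extension of `Suz` by a group `V` of order 3 has irreducible characters of degree 78 and
  66, nontrivial on `V`.
-/

set_option autoImplicit false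
set_option maxRecDepth 20000

namespace Cfsg.Agent.H759.S8.SuzSq

open Cfsg Cfsg.Agent.Characters.Core Cfsg.Agent.H843.IMC
open Cfsg.Agent.LThreeCo1.AGrp Cfsg.Agent.LThreeCo1.Rel Cfsg.Agent.LThreeCo1.Class
open Cfsg.Agent.H299.K4.Orb Cfsg.Agent.H299.K4.Wt Cfsg.Agent.H299.K4.SuzC Cfsg.Agent.H299.K4.Suz143
open Cfsg.Agent.H299.K4.SuzX
open Cfsg.Agent.CoOneType.ClosingFacts (mk mk_eq mk_mul)
open Cfsg.Agent.LThreeMB (XX Zx exists_mk mk_eq_mk)
open Cfsg.Agent.H80.Fpf
open scoped ComplexConjugate commutatorElement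

universe u v

/-! ### `e 1` is in the derived subgroup -/

theorem conj7 (v : V) : f (Multiplicative.ofAdd (lin c7 v)) =
    (⟨e 7, e7_mem⟩ : C) * f (Multiplicative.ofAdd v) * (⟨e 7, e7_mem⟩ : C)⁻¹ := by
  refine Subtype.ext ?_
  rw [f_val]
  show _ = e 7 * Ph a v * (e 7)⁻¹
  rw [cj_spec k_7]
  congr 2
  funext j i
  exact (c7_eq j i).symm

theorem conj11 (v : V) : f (Multiplicative.ofAdd (lin c11 v)) =
    (⟨e 11, e11_mem⟩ : C) * f (Multiplicative.ofAdd v) * (⟨e 11, e11_mem⟩ : C)⁻¹ := by
  refine Subtype.ext ?_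
  rw [f_val]
  show _ = e 11 * Ph a v * (e 11)⁻¹
  rw [cj_spec k_11]
  congr 2
  funext j i
  exact (c11_eq j i).symm

def v7 : V := ![0, 0, 0, 0, 0, 1]
def v11 : V := ![0, 0, 2, 2, 0, 1]

theorem e0_eq : (Pi.single 0 1 : V) = (lin c7 v7 + -v7) + (lin c11 v11 + -v11) := by
  funext i
  revert i
  decide +kernel

theorem s1_mem : s1 ∈ commutator C := by
  rw [← f_single, e0_eq, ofAdd_add, ofAdd_add, ofAdd_add, ofAdd_neg, ofAdd_neg, map_mul, map_mul, map_mul, map_inv,
    map_inv, conj7, conj11]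
  exact mul_mem (Subgroup.commutator_mem_commutator (Subgroup.mem_top _) (Subgroup.mem_top _))
    (Subgroup.commutator_mem_commutator (Subgroup.mem_top _) (Subgroup.mem_top _))

/-! ### the kernel of `C → X` -/

theorem ker_cases {g : C} (h : φ g = 1) : ∃ n : ℕ, g * s1 ^ n = 1 ∨ g * s1 ^ n = ng := by
  have hgh : φ g = φ 1 := by rw [h, map_one]
  obtain ⟨i, hi⟩ := (mk_eq_mk (comm_s g) (comm_s 1)).1 hgh
  obtain ⟨n, hn⟩ : ∃ n : ℕ, s ^ i = s ^ n := by
    refine ⟨(i % 3).toNat, ?_⟩
    have h1 : ((i % 3).toNat : ℤ) = i % 3 := Int.toNat_of_nonneg (Int.emod_nonneg i (by norm_num))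
    rw [← zpow_natCast, h1]
    conv_lhs => rw [← Int.emod_add_mul_ediv i 3, zpow_add, zpow_mul]
    have h2 : s ^ (3 : ℤ) = 1 := by
      have := s_cube
      exact_mod_cast this
    rw [h2, one_zpow, mul_one]
  rw [hn] at hi
  have h3 : mk (((g * s1 ^ n : C) : C) : Co0) = mk ((1 : C) : Co0) := by
    rw [← hi]
    rfl
  refine ⟨n, ?_⟩
  rcases (mk_eq _ _).1 h3 with h4 | h4
  · exact Or.inl (Subtype.ext h4)
  · right
    have h5 : g * s1 ^ n = 1 * ng := Subtype.ext h4
    rw [h5, one_mul]

theorem s1_comm (g : C) : s1 * g = g * s1 := Subtype.ext (mem_C.1 g.2).symm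

theorem ng_comm (g : C) : ng * g = g * ng :=
  Subtype.ext (Subgroup.mem_center_iff.1 Cfsg.Agent.SporadicA.Co1Simple.allOne_mem_center (g : Co0)).symm

theorem s1_center : s1 ∈ Subgroup.center C := Subgroup.mem_center_iff.2 fun g => (s1_comm g).symm

theorem ng_center : ng ∈ Subgroup.center C := Subgroup.mem_center_iff.2 fun g => (ng_comm g).symm

theorem ker_le : φ.ker ≤ Subgroup.center C := by
  intro g hg
  obtain ⟨n, h | h⟩ := ker_cases hg
  · have h1 : g = (s1 ^ n)⁻¹ := eq_inv_of_mul_eq_one_left h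
    rw [h1]
    exact inv_mem (pow_mem s1_center n)
  · have h1 : g = ng * (s1 ^ n)⁻¹ := eq_mul_inv_of_mul_eq h
    rw [h1]
    exact mul_mem ng_center (inv_mem (pow_mem s1_center n))

theorem perfS : commutator Spor.Suz = ⊤ :=
  Cfsg.Agent.H51.Tools.perfect_of_simple Cfsg.Agent.S1694.result.1 (by rw [Cfsg.Agent.S1694.result.2]; norm_num)

/-- `X ≅ Suz` -/
noncomputable def eX : X ≃* Spor.Suz := Classical.choice isoX

theorem perfX : commutator X = ⊤ := by
  have h := congrArg (fun K => Subgroup.map eX.symm.toMonoidHom K) perfS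
  simp only [commutator_def, Subgroup.map_commutator] at h
  rw [Subgroup.map_top_of_surjective _ eX.symm.surjective] at h
  exact h

/-- the derived subgroup -/
abbrev L : Type := ↥(commutator C)

theorem pcov : commutator L = ⊤ ∧ (commutator C).map φ = ⊤ :=
  H905.PCover.commutator_perfect perfX φ_surj ker_le

/-- `L → Suz` -/
noncomputable def πL : L →* Spor.Suz := eX.toMonoidHom.comp (φ.comp (commutator C).subtype)

theorem πL_apply (l : L) : πL l = eX (φ l) := rfl

theorem isCover_πL : IsCover πL where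
  surj := by
    intro y
    have h : eX.symm y ∈ (commutator C).map φ := by rw [pcov.2]; trivial
    obtain ⟨l, hl, h1⟩ := h
    refine ⟨⟨l, hl⟩, ?_⟩
    rw [πL_apply, h1, eX.apply_symm_apply]
  central := by
    intro l hl
    have h1 : φ (l : C) = 1 := by
      apply eX.injective
      rw [map_one]
      exact hl
    have h2 := Subgroup.mem_center_iff.1 (ker_le h1)
    rw [Subgroup.mem_center_iff]
    exact fun x => Subtype.ext (h2 x)
  perf := pcov.1

/-! ### the character of degree 12 on `L` -/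

theorem χ_ng1 : χ ng = -12 := by
  have h := χ_ng 1
  rwa [one_mul, χ_one] at h

theorem exists_mul (g : C) : ∃ l ∈ commutator C, g = l ∨ g = l * ng := by
  have h : φ g ∈ (commutator C).map φ := by rw [pcov.2]; trivial
  obtain ⟨l, hl, h1⟩ := h
  have h2 : φ (l⁻¹ * g) = 1 := by rw [map_mul, map_inv, h1, inv_mul_cancel]
  obtain ⟨n, h3 | h3⟩ := ker_cases h2
  · refine ⟨l * (s1 ^ n)⁻¹, mul_mem hl (inv_mem (pow_mem s1_mem n)), Or.inl ?_⟩
    rw [← eq_inv_of_mul_eq_one_left h3]
    group
  · refine ⟨l * (s1 ^ n)⁻¹, mul_mem hl (inv_mem (pow_mem s1_mem n)), Or.inr ?_⟩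
    have h4 : l⁻¹ * g = ng * (s1 ^ n)⁻¹ := eq_mul_inv_of_mul_eq h3
    have h5 : ng * (s1 ^ n)⁻¹ = (s1 ^ n)⁻¹ * ng := ng_comm _
    rw [h5] at h4
    rw [mul_assoc, ← h4]
    group

theorem irr_L : IsIrrCharacter L (fun l : L => χ l) := by
  classical
  have := Fintype.ofFinite C
  have := Fintype.ofFinite L
  refine H646.Restrict.isIrr_restrict (N := commutator C) ?_ isIrr_χ ?_
  · intro a b
    obtain ⟨a, rfl⟩ := QuotientGroup.mk_surjective a
    obtain ⟨b, rfl⟩ := QuotientGroup.mk_surjective b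
    rw [← QuotientGroup.mk_mul, ← QuotientGroup.mk_mul, QuotientGroup.eq]
    have h : (a * b)⁻¹ * (b * a) = ⁅b⁻¹, a⁻¹⁆ := by rw [commutatorElement_def]; group
    rw [h]
    exact Subgroup.commutator_mem_commutator (Subgroup.mem_top _) (Subgroup.mem_top _)
  · intro μ hμ
    have h1 : μ ((ng : C) : C ⧸ commutator C) = 1 := by
      have h := hμ ng
      exact (mul_eq_left₀ (by rw [χ_ng1]; norm_num)).1 h
    refine MonoidHom.ext fun g => ?_
    obtain ⟨g, rfl⟩ := QuotientGroup.mk_surjective g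
    obtain ⟨l, hl, rfl | rfl⟩ := exists_mul g
    · rw [(QuotientGroup.eq_one_iff g).2 hl, map_one, map_one]
    · rw [QuotientGroup.mk_mul, (QuotientGroup.eq_one_iff l).2 hl, one_mul, h1, MonoidHom.one_apply]

/-! ### `χ χ̄ = 1 + ψ` -/

theorem exists_psi : ∃ ψ : IrrCharacter X, (ψ : X → ℂ) ≠ (fun _ => 1) ∧ ∀ g : C, Θ g = 1 + (ψ : X → ℂ) (φ g) := by
  classical
  have hS : IsSimpleGroup X := by
    obtain ⟨g⟩ := isoX
    have : IsSimpleGroup Spor.Suz := Cfsg.Agent.S1694.result.1
    have : Nontrivial X := g.toEquiv.nontrivial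
    exact IsSimpleGroup.isSimpleGroup_of_surjective (G := Spor.Suz) g.symm.toMonoidHom g.symm.surjective
  have := Fintype.ofFinite C
  have hfin : Finite X := Finite.of_surjective φ φ_surj
  have := Fintype.ofFinite X
  obtain ⟨v0, hv0⟩ := f_ne
  have hl1 : ∀ p : PW, lam (W p.1.1 - W p.1.2) ≠ fun _ => 1 := by
    intro p h
    rw [← lam_zero] at h
    have h1 := lam_injective h
    exact p.2 (W_injective (sub_eq_zero.1 h1))
  have : Nonempty PW := ⟨⟨(0, 1), by decide⟩⟩
  obtain ⟨ψ, k, hψ1, hψ⟩ := exists_of_orbit (φ.comp f) isCharacter_WX (by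
    intro η hη
    obtain ⟨K, hK, hKm⟩ := Cfsg.Agent.Blocks.BlockKer.exists_kernel η.2
    have hKt : K = ⊤ := by
      refine (hK.eq_bot_or_eq_top).resolve_left fun h => hv0 ?_
      have h1 : φ (f v0) ∈ K := (hKm _).2 (hη v0)
      rw [h] at h1
      exact Subgroup.mem_bot.1 h1
    exact Cfsg.Agent.H633.Principal.eq_one_of_ker_top η fun g => (hKm g).1 (by rw [hKt]; exact Subgroup.mem_top g))
    (A := PW) (fun p => lam (W p.1.1 - W p.1.2)) (fun p => isIrr_lam _) (by
      intro p q h
      exact Subtype.ext (diff_inj p.2 q.2 (lam_injective h))) hl1 12 (by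
      rw [← Θ_f, ← WX_comp]
      rfl) (fun p q => (mvD_all p.2 q.2).comp φ)
  have h1 : IsIrrCharacter C ((ψ : X → ℂ) ∘ φ) := isIrr_comp φ φ_surj ψ.2
  have hk : (k : ℂ) = 1 := by
    have h2 : Θ = (k : ℂ) • (fun _ => (1 : ℂ)) + (ψ : X → ℂ) ∘ φ := by
      funext g
      rw [← WX_φ, hψ, Pi.add_apply, Pi.smul_apply, smul_eq_mul, mul_one]
      rfl
    have h3 : classInner Θ (fun _ => (1 : ℂ)) = classInner χ χ := by
      rw [classInner_def, classInner_def]
      congr 1
      refine Finset.sum_congr rfl fun g _ => ?_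
      rw [map_one, mul_one]
      rfl
    rw [classInner_irr_self isIrr_χ, h2, classInner_add_left, classInner_smul_left,
      classInner_irr_self Cfsg.Agent.Blocks.Basic.isIrrCharacter_one,
      classInner_irr_ne h1 Cfsg.Agent.Blocks.Basic.isIrrCharacter_one, add_zero, mul_one] at h3
    · exact h3
    · intro h4
      apply hψ1
      funext q
      obtain ⟨g, rfl⟩ := φ_surj q
      exact congrFun h4 g
  refine ⟨ψ, hψ1, fun g => ?_⟩
  rw [← WX_φ, hψ, hk]

/-! ### the squares -/

theorem irr_pair {G : Type*} [Group G] [Fintype G] {S A : G → ℂ} (hS : IsCharacter G S) (hA : IsCharacter G A)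
    (h1 : S 1 ≠ 0) (h2 : A 1 ≠ 0) (h : classInner (S + A) (S + A) = 2) : IsIrrCharacter G S ∧ IsIrrCharacter G A := by
  classical
  obtain ⟨a, ha⟩ := classInner_isNat hS hS
  obtain ⟨b, hb⟩ := classInner_isNat hA hA
  obtain ⟨c, hc⟩ := classInner_isNat hS hA
  obtain ⟨d, hd⟩ := classInner_isNat hA hS
  have key : ∀ {F : G → ℂ}, F 1 ≠ 0 → classInner F F ≠ 0 := by
    intro F hF h0
    rw [classInner_def] at h0
    have h3 : ∑ g : G, F g * conj (F g) = 0 := by
      rcases mul_eq_zero.1 h0 with h4 | h4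
      · exact absurd h4 (inv_ne_zero card_ne_zero_complex)
      · exact h4
    have h5 : ∑ g : G, Complex.normSq (F g) = 0 := by
      have h6 : ((∑ g : G, Complex.normSq (F g) : ℝ) : ℂ) = 0 := by
        rw [← h3]
        push_cast
        exact Finset.sum_congr rfl fun g _ => by rw [Complex.mul_conj]
      exact_mod_cast h6
    have h6 := (Finset.sum_eq_zero_iff_of_nonneg fun g _ => Complex.normSq_nonneg _).1 h5 1 (Finset.mem_univ _)
    exact hF (Complex.normSq_eq_zero.1 h6)
  have ha0 : a ≠ 0 := by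
    rintro rfl
    exact key h1 (by rw [ha, Nat.cast_zero])
  have hb0 : b ≠ 0 := by
    rintro rfl
    exact key h2 (by rw [hb, Nat.cast_zero])
  rw [classInner_add_left, classInner_add_right, classInner_add_right, ha, hb, hc, hd] at h
  have h3 : a + c + (d + b) = 2 := by exact_mod_cast h
  have ha1 : a = 1 := by omega
  have hb1 : b = 1 := by omega
  exact ⟨isIrr_of_classInner_self hS (by rw [ha, ha1, Nat.cast_one]),
    isIrr_of_classInner_self hA (by rw [hb, hb1, Nat.cast_one])⟩

theorem isIrr_of_comp {X Y : Type*} [Group X] [Group Y] [Finite X] [Finite Y] (f : Y →* X)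
    {χ : X → ℂ} (hχ : IsCharacter X χ) (h : IsIrrCharacter Y (χ ∘ f)) : IsIrrCharacter X χ := by
  obtain ⟨n, ρ, rfl⟩ := hχ
  refine isIrrCharacter_of_rep ρ ?_
  refine Cfsg.Agent.CharactersDeep.IrrEquiv.isIrreducible_of_comp ρ f ?_
  refine isIrreducible_of_isIrrCharacter (G := Y)
    (MonoidHom.comp ρ f : Representation ℂ Y (Fin n → ℂ)) ?_
  exact h

/-! ### the covers -/

theorem φ_s1 : φ s1 = 1 := by
  rw [← map_one φ]
  refine (mk_eq_mk (comm_s s1) (comm_s 1)).2 ⟨-1, ?_⟩
  show mk (e 1) * (mk (e 1)) ^ (-1 : ℤ) = mk ((1 : C) : Co0)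
  rw [zpow_neg, zpow_one, mul_inv_cancel]
  rfl

theorem χ_s1_one : χ s1 = 12 * ζ := by
  have h := χ_s1 1
  rw [one_mul, χ_one] at h
  rw [h, mul_comm]

theorem χ_s1_sq : χ (s1 * s1) = 12 * ζ ^ 2 := by
  rw [χ_s1, χ_s1_one]
  ring

theorem ζ_sq_ne : ζ ^ 2 ≠ 1 := by
  intro h
  have h1 := ζ_pow
  have h2 : ζ = 1 := by
    have h3 : ζ ^ 3 = ζ ^ 2 * ζ := by ring
    rw [h1, h, one_mul] at h3
    exact h3.symm
  exact ζ_prim.ne_one (by norm_num) h2

/-- the sixfold cover -/
theorem exists_six : ∃ (U : Type) (_ : Group U) (_ : Finite U) (υ : U →* Spor.Suz), IsCover υ ∧ Nat.card υ.ker = 6 := by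
  obtain ⟨U, hG, hF, σ, hσ, ⟨e⟩⟩ := Cfsg.Agent.S2048.result.1
  refine ⟨U, hG, hF, σ, ⟨hσ.1, hσ.2.1, ?_⟩, ?_⟩
  · have h1 : (commutator U).map σ = ⊤ := by
      rw [commutator_def, Subgroup.map_commutator, Subgroup.map_top_of_surjective σ hσ.1, ← commutator_def, perfS]
    rw [eq_top_iff]
    intro x _
    have h2 : σ x ∈ (commutator U).map σ := by rw [h1]; trivial
    obtain ⟨l, hl, h3⟩ := h2
    have h4 : l⁻¹ * x ∈ σ.ker := by rw [MonoidHom.mem_ker, map_mul, map_inv, h3, inv_mul_cancel]
    have h5 := mul_mem hl (hσ.2.2 h4)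
    rwa [mul_inv_cancel_left] at h5
  · rw [Nat.card_congr e.toEquiv, Nat.card_congr Multiplicative.toAdd, Nat.card_zmod]

theorem exists_sq0 {G : Type} [Group G] [Finite G] {π : G →* Spor.Suz} (hπ : IsCover π) (h3 : Nat.card π.ker = 3) :
    (∃ α : G → ℂ, IsIrrCharacter G α ∧ (∃ v ∈ π.ker, α v ≠ α 1) ∧ α 1 = (78 : ℕ)) ∧
      (∃ α : G → ℂ, IsIrrCharacter G α ∧ (∃ v ∈ π.ker, α v ≠ α 1) ∧ α 1 = (66 : ℕ)) := by
  classical
  have hSf : Finite Spor.Suz := Nat.finite_of_card_ne_zero (by rw [Cfsg.Agent.S1694.result.2]; norm_num)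
  obtain ⟨U, _, _, υ, hυ, hcard⟩ := exists_six
  have hm : MultDvd Spor.Suz 6 := multDvd_of_cyclic (by norm_num) Cfsg.Agent.S2048.result
  obtain ⟨θ, hθ, hθπ⟩ := exists_of_universal (by norm_num) hm hυ hcard hπ
  obtain ⟨η, hη, hηπ⟩ := exists_of_universal (by norm_num) hm hυ hcard isCover_πL
  have := Fintype.ofFinite U
  have := Fintype.ofFinite C
  -- the kernel of `θ`
  have hker : ∀ z, θ z = 1 → υ z = 1 := fun z hz => by rw [← hθπ, hz, map_one]
  have hzc : ∀ z, θ z = 1 → ∀ u, u * z = z * u := fun z hz u =>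
    Subgroup.mem_center_iff.1 (hυ.central (MonoidHom.mem_ker.2 (hker z hz))) u
  have hcardθ : Nat.card θ.ker = 2 := by
    have c1 := Subgroup.card_eq_card_quotient_mul_card_subgroup υ.ker
    have c2 := Subgroup.card_eq_card_quotient_mul_card_subgroup π.ker
    have c3 := Subgroup.card_eq_card_quotient_mul_card_subgroup θ.ker
    rw [Nat.card_congr (QuotientGroup.quotientKerEquivOfSurjective υ hυ.surj).toEquiv, hcard] at c1
    rw [Nat.card_congr (QuotientGroup.quotientKerEquivOfSurjective π hπ.surj).toEquiv, h3] at c2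
    rw [Nat.card_congr (QuotientGroup.quotientKerEquivOfSurjective θ hθ).toEquiv, c1, c2] at c3
    rw [Cfsg.Agent.S1694.result.2] at c3
    omega
  have hz2 : ∀ z, θ z = 1 → z * z = 1 := by
    intro z hz
    have h1 : (⟨z, hz⟩ : θ.ker) ^ Nat.card θ.ker = 1 := pow_card_eq_one'
    rw [hcardθ] at h1
    have h2 := congrArg Subtype.val h1
    rw [← pow_two]
    exact h2
  have hηz : ∀ z, θ z = 1 → ((η z : L) : C) = 1 ∨ ((η z : L) : C) = ng := by
    intro z hz
    have h1 : φ ((η z : L) : C) = 1 := by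
      apply eX.injective
      rw [map_one, ← πL_apply, hηπ, hker z hz]
    have h2 : ((η z : L) : C) * ((η z : L) : C) = 1 := by
      have h3 := congrArg (fun l : L => (l : C)) (congrArg η (hz2 z hz))
      simp only [map_mul, map_one] at h3
      exact h3
    obtain ⟨n, hn⟩ := ker_cases h1
    have hs3 := s1_cube
    have hcomm : Commute ((η z : L) : C) (s1 ^ n) := (Commute.pow_right (s1_comm _).symm n)
    have hng2 : ng * ng = 1 := Subtype.ext (Cfsg.Agent.SporadicA.Co0Mono.signCo0_mul_self _)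
    have h4 : s1 ^ n * s1 ^ n = 1 := by
      rcases hn with hn | hn
      · have h5 : (((η z : L) : C) * s1 ^ n) * (((η z : L) : C) * s1 ^ n) = 1 := by rw [hn, one_mul]
        rw [hcomm.symm.mul_mul_mul_comm, h2, one_mul] at h5
        exact h5
      · have h5 : (((η z : L) : C) * s1 ^ n) * (((η z : L) : C) * s1 ^ n) = 1 := by rw [hn, hng2]
        rw [hcomm.symm.mul_mul_mul_comm, h2, one_mul] at h5
        exact h5
    have h6 : s1 ^ n = 1 := by
      have h7 : (s1 ^ n) ^ 3 = 1 := by rw [← pow_mul, mul_comm, pow_mul, hs3, one_pow]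
      have h8 : (s1 ^ n) ^ 3 = (s1 ^ n * s1 ^ n) * s1 ^ n := by rw [pow_succ, pow_two]
      rw [h8, h4, one_mul] at h7
      exact h7
    rw [h6, mul_one] at hn
    exact hn
  -- the character of degree 12
  let a : U → ℂ := fun u => χ (η u : L)
  have ha : IsIrrCharacter U a := isIrr_comp η hη irr_L
  have ha1 : a 1 = 12 := by
    show χ ((η 1 : L) : C) = 12
    rw [map_one]
    exact χ_one
  have haz : ∀ z, θ z = 1 → ∀ u, a (u * z) = a u ∨ a (u * z) = -a u := by
    intro z hz u
    have h1 : a (u * z) = χ (((η u : L) : C) * ((η z : L) : C)) := by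
      show χ ((η (u * z) : L) : C) = _
      rw [map_mul]
      rfl
    rcases hηz z hz with h | h
    · left
      rw [h1, h, mul_one]
    · right
      rw [h1, h, χ_ng]
  have hS := PermChar.SymAlt.isCharacter_symSq (isIrr_isCharacter ha)
  have hA := PermChar.SymAlt.isCharacter_altSq (isIrr_isCharacter ha)
  let S : U → ℂ := fun u => (a u ^ 2 + a (u * u)) / 2
  let A : U → ℂ := fun u => (a u ^ 2 - a (u * u)) / 2
  have hS1 : S 1 = 78 := by
    show (a 1 ^ 2 + a (1 * 1)) / 2 = 78
    rw [one_mul, ha1]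
    norm_num
  have hA1 : A 1 = 66 := by
    show (a 1 ^ 2 - a (1 * 1)) / 2 = 66
    rw [one_mul, ha1]
    norm_num
  have hSA : S + A = fun u => a u ^ 2 := by
    funext u
    show (a u ^ 2 + a (u * u)) / 2 + (a u ^ 2 - a (u * u)) / 2 = a u ^ 2
    ring
  -- the norm of the square
  obtain ⟨ψ, hψ1, hψ⟩ := exists_psi
  have hq : Function.Surjective (fun u : U => φ ((η u : L) : C)) := by
    intro x
    obtain ⟨u, hu⟩ := hυ.surj (eX x)
    refine ⟨u, ?_⟩
    apply eX.injective
    show eX (φ ((η u : L) : C)) = eX x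
    rw [← πL_apply, hηπ, hu]
  let q : U →* X := (φ.comp (commutator C).subtype).comp η
  have hψq : IsIrrCharacter U ((ψ : X → ℂ) ∘ q) := isIrr_comp q hq ψ.2
  have hne : (ψ : X → ℂ) ∘ q ≠ fun _ => 1 := by
    intro h
    apply hψ1
    funext x
    obtain ⟨u, rfl⟩ := hq x
    exact congrFun h u
  have hone : IsIrrCharacter U (fun _ => (1 : ℂ)) := Cfsg.Agent.Blocks.Basic.isIrrCharacter_one
  have haa : (fun u => a u * conj (a u)) = (fun _ => (1 : ℂ)) + (ψ : X → ℂ) ∘ q := by
    funext u
    exact hψ _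
  have hnorm : classInner (S + A) (S + A) = 2 := by
    have h1 : classInner (S + A) (S + A) = classInner (fun u => a u * conj (a u)) (fun u => a u * conj (a u)) := by
      rw [hSA, classInner_def, classInner_def]
      congr 1
      refine Finset.sum_congr rfl fun u _ => ?_
      rw [map_pow, map_mul, Complex.conj_conj]
      ring
    rw [h1, haa, classInner_add_left, classInner_add_right, classInner_add_right, classInner_irr_self hone,
      classInner_irr_self hψq, classInner_irr_ne hone hψq hne.symm, classInner_irr_ne hψq hone hne]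
    norm_num
  obtain ⟨iS, iA⟩ := irr_pair (S := S) (A := A) hS hA (by rw [hS1]; norm_num) (by rw [hA1]; norm_num) hnorm
  -- descent
  have hinv : ∀ (F : U → ℂ), (∀ z, θ z = 1 → ∀ u, F (u * z) = F u) → ∀ u, F (Function.surjInv hθ (θ u)) = F u := by
    intro F hF u
    have h1 : θ (u⁻¹ * Function.surjInv hθ (θ u)) = 1 := by
      rw [map_mul, Function.surjInv_eq hθ (θ u), map_inv, inv_mul_cancel]
    have h2 := hF _ h1 u
    rwa [mul_inv_cancel_left] at h2
  have hsq : ∀ z, θ z = 1 → ∀ u, a (u * z) ^ 2 = a u ^ 2 ∧ a (u * z * (u * z)) = a (u * u) := by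
    intro z hz u
    constructor
    · rcases haz z hz u with h | h
      · rw [h]
      · rw [h, neg_sq]
    · congr 1
      have h1 := hzc z hz u
      calc u * z * (u * z) = u * (z * u) * z := by group
        _ = u * u * (z * z) := by rw [← h1]; group
        _ = u * u := by rw [hz2 z hz, mul_one]
  have hSz : ∀ z, θ z = 1 → ∀ u, S (u * z) = S u := by
    intro z hz u
    show (a (u * z) ^ 2 + a (u * z * (u * z))) / 2 = (a u ^ 2 + a (u * u)) / 2
    rw [(hsq z hz u).1, (hsq z hz u).2]
  have hAz : ∀ z, θ z = 1 → ∀ u, A (u * z) = A u := by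
    intro z hz u
    show (a (u * z) ^ 2 - a (u * z * (u * z))) / 2 = (a u ^ 2 - a (u * u)) / 2
    rw [(hsq z hz u).1, (hsq z hz u).2]
  obtain ⟨u0, hu0⟩ := hη ⟨s1, s1_mem⟩
  have hυ0 : π (θ u0) = 1 := by
    rw [hθπ, ← hηπ, hu0, πL_apply, φ_s1, map_one]
  have hau0 : a u0 = 12 * ζ := by
    show χ ((η u0 : L) : C) = _
    rw [hu0]
    exact χ_s1_one
  have hau00 : a (u0 * u0) = 12 * ζ ^ 2 := by
    show χ ((η (u0 * u0) : L) : C) = _
    rw [map_mul, hu0]
    exact χ_s1_sq
  have main : ∀ (F : U → ℂ) (d : ℕ), IsIrrCharacter U F → (∀ z, θ z = 1 → ∀ u, F (u * z) = F u) → F 1 = d → d ≠ 0 →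
      F u0 = d * ζ ^ 2 → ∃ α : G → ℂ, IsIrrCharacter G α ∧ (∃ v ∈ π.ker, α v ≠ α 1) ∧ α 1 = d := by
    intro F d hF hFz hF1 hd hF0
    let α : G → ℂ := fun g => F (Function.surjInv hθ g)
    have hα : ∀ u, α (θ u) = F u := hinv F hFz
    have hcomp : α ∘ θ = F := funext hα
    have h1 : IsCharacter G α := isCharacter_of_comp θ hθ (by rw [hcomp]; exact isIrr_isCharacter hF)
    have h2 : IsIrrCharacter G α := isIrr_of_comp θ h1 (by rw [hcomp]; exact hF)
    have h3 : α 1 = d := by rw [← map_one θ, hα, hF1]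
    refine ⟨α, h2, ⟨θ u0, hυ0, ?_⟩, h3⟩
    rw [h3, hα, hF0]
    intro h
    apply ζ_sq_ne
    have hd' : (d : ℂ) ≠ 0 := Nat.cast_ne_zero.2 hd
    exact mul_left_cancel₀ hd' (by rw [h, mul_one])
  refine ⟨main S 78 iS hSz (by rw [hS1]; norm_num) (by norm_num) ?_, main A 66 iA hAz (by rw [hA1]; norm_num)
    (by norm_num) ?_⟩
  · show (a u0 ^ 2 + a (u0 * u0)) / 2 = _
    rw [hau0, hau00]
    push_cast
    ring
  · show (a u0 ^ 2 - a (u0 * u0)) / 2 = _
    rw [hau0, hau00]
    push_cast
    ring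

/-- a perfect central extension of `Suz` by a group of order 3 -/
theorem exists_sq {N : Type u} [Group N] [Finite N] {X : Type v} [Group X] (hS : Spor.IsoSuz X) (V : Subgroup N)
    [V.Normal] (hV : Nat.card V = 3) (hc : V ≤ Subgroup.center N) (hp : commutator N = ⊤)
    (hX : Nonempty ((N ⧸ V) ≃* X)) :
    (∃ α : N → ℂ, IsIrrCharacter N α ∧ (∃ v ∈ V, α v ≠ α 1) ∧ α 1 = (78 : ℕ)) ∧
      (∃ α : N → ℂ, IsIrrCharacter N α ∧ (∃ v ∈ V, α v ≠ α 1) ∧ α 1 = (66 : ℕ)) := by
  obtain ⟨eS⟩ := hS
  obtain ⟨f⟩ := hX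
  let E : Shrink.{0} N ≃* N := Shrink.mulEquiv
  have hfin : Finite (Shrink.{0} N) := Finite.of_equiv N E.symm.toEquiv
  let π : Shrink.{0} N →* Spor.Suz :=
    (eS.toMonoidHom.comp f.toMonoidHom).comp ((QuotientGroup.mk' V).comp E.toMonoidHom)
  have hker : ∀ x : Shrink.{0} N, x ∈ π.ker ↔ E x ∈ V := by
    intro x
    rw [MonoidHom.mem_ker]
    show eS (f (QuotientGroup.mk' V (E x))) = 1 ↔ _
    rw [EmbeddingLike.map_eq_one_iff, EmbeddingLike.map_eq_one_iff]
    exact QuotientGroup.eq_one_iff _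
  have hπ : IsCover π := by
    refine ⟨?_, ?_, ?_⟩
    · intro m
      obtain ⟨x, hx⟩ := QuotientGroup.mk'_surjective V (f.symm (eS.symm m))
      refine ⟨E.symm x, ?_⟩
      show eS (f (QuotientGroup.mk' V (E (E.symm x)))) = m
      rw [E.apply_symm_apply, hx, f.apply_symm_apply, eS.apply_symm_apply]
    · intro x hx
      rw [Subgroup.mem_center_iff]
      intro y
      apply E.injective
      rw [map_mul, map_mul]
      exact Subgroup.mem_center_iff.1 (hc ((hker x).1 hx)) (E y)
    · have h2 : (commutator (Shrink.{0} N)).map E.toMonoidHom = commutator N := by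
        rw [commutator_def, commutator_def, Subgroup.map_commutator, ← MonoidHom.range_eq_map]
        have h3 : E.toMonoidHom.range = ⊤ := MonoidHom.range_eq_top.2 E.surjective
        rw [h3]
      rw [hp] at h2
      rw [eq_top_iff]
      intro x _
      have h3 : E x ∈ (commutator (Shrink.{0} N)).map E.toMonoidHom := by rw [h2]; trivial
      obtain ⟨y, hy, hyx⟩ := h3
      have h4 : y = x := E.injective hyx
      rwa [← h4]
  have h3 : Nat.card π.ker = 3 := by
    rw [← hV]
    exact Nat.card_congr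
      { toFun := fun x => ⟨E x, (hker x).1 x.2⟩
        invFun := fun y => ⟨E.symm y, (hker _).2 (by rw [E.apply_symm_apply]; exact y.2)⟩
        left_inv := fun x => Subtype.ext (E.symm_apply_apply x)
        right_inv := fun y => Subtype.ext (E.apply_symm_apply y) }
  have key : ∀ d : ℕ, (∃ α : Shrink.{0} N → ℂ, IsIrrCharacter (Shrink.{0} N) α ∧ (∃ v ∈ π.ker, α v ≠ α 1) ∧
      α 1 = (d : ℕ)) → ∃ α : N → ℂ, IsIrrCharacter N α ∧ (∃ v ∈ V, α v ≠ α 1) ∧ α 1 = (d : ℕ) := by
    rintro d ⟨α, hα, ⟨v, hv, hne⟩, h1⟩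
    refine ⟨α ∘ E.symm, isIrr_comp E.symm.toMonoidHom E.symm.surjective hα, ⟨E v, (hker v).1 hv, ?_⟩, ?_⟩
    · show α (E.symm (E v)) ≠ α (E.symm 1)
      rw [E.symm_apply_apply, map_one]
      exact hne
    · show α (E.symm 1) = d
      rw [map_one]
      exact h1
  obtain ⟨h78, h66⟩ := exists_sq0 hπ h3
  exact ⟨key 78 h78, key 66 h66⟩

end Cfsg.Agent.H759.S8.SuzSq
end

-- part: H859/S8/SuzPerf
section
/-!
# S4908, `Suz`: the centralizer of `e 1` in `Co0` is the sixfold cover of `Suz` (helper859)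

`-1 = e32 ^ 2` is in the derived subgroup of `C = C(e 1)`, so `C` is perfect; `πC : C → Suz` is a cover with a kernel of
order 6; `exists_hom`: it maps onto every cover.
-/

set_option autoImplicit false
set_option maxRecDepth 20000

namespace Cfsg.Agent.H859.S8.SuzPerf

open Cfsg Cfsg.Agent.Characters.Core Cfsg.Agent.H843.IMC
open Cfsg.Agent.LThreeCo1.Ev
open Cfsg.Agent.LThreeCo1.AGrp Cfsg.Agent.LThreeCo1.Rel Cfsg.Agent.LThreeCo1.Class
open Cfsg.Agent.H299.K4.Orb Cfsg.Agent.H299.K4.Wt Cfsg.Agent.H299.K4.SuzC Cfsg.Agent.H299.K4.Suz143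
open Cfsg.Agent.H299.K4.SuzX Cfsg.Agent.H759.S8.SuzSq
open Cfsg.Agent.SporadicStructure.Co0Matrix Cfsg.Agent.CoOneType.CoEval
open Cfsg.Agent.SporadicStructure Cfsg.Agent.SporadicA.Co1Simple
open Cfsg.Agent.H80.Fpf

theorem e1_eq : LThreeCo1.RelQ.e 1 = e 1 := rfl

/-- a word of `RelQ` commuting with `e 1` -/
theorem word_mem {w : List ℕ} (h : eqB LThreeCo1.RelQ.M (w ++ [1]) (1 :: w) = true) :
    (w.map LThreeCo1.RelQ.e).prod ∈ C := by
  rw [mem_C, ← e1_eq]
  have h1 := eq_of_eqB LThreeCo1.RelQ.rep h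
  rw [List.map_append, List.prod_append, List.map_cons, List.prod_cons] at h1
  simpa only [_root_.List.map_nil, _root_.List.prod_nil, _root_.mul_one, _root_.List.map_cons, _root_.List.prod_cons] using h1

theorem k32 : eqB LThreeCo1.RelQ.M ([32] ++ [1]) (1 :: [32]) = true := by delta eqB; rw [Cfsg.Agent.Co0Q.foldZ_eq]; decide +kernel

theorem n32 : negB LThreeCo1.RelQ.M [32, 32] = true := by delta negB; rw [Cfsg.Agent.Co0Q.fold_eq]; decide +kernel

theorem neg_eq : Cfsg.Agent.SporadicA.Co0Basic.negCo0 = Cfsg.Agent.SporadicA.Co0Mono.signCo0 allOne := by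
  apply Cfsg.Agent.SporadicA.Co0Mono.ext
  intro v
  rw [allOne_smul]
  exact Cfsg.Agent.SporadicA.Co0Basic.negCo0_apply v

/-- `e32` -/
noncomputable def t32 : C := ⟨([32].map LThreeCo1.RelQ.e).prod, word_mem k32⟩

theorem t32_sq : t32 * t32 = ng := by
  apply Subtype.ext
  show ([32].map LThreeCo1.RelQ.e).prod * ([32].map LThreeCo1.RelQ.e).prod = Cfsg.Agent.SporadicA.Co0Mono.signCo0 allOne
  rw [← neg_eq, ← eq_neg_of_negB LThreeCo1.RelQ.rep n32, ← List.prod_append, ← List.map_append]
  rfl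

theorem ng_sq : ng * ng = 1 := Subtype.ext (Cfsg.Agent.SporadicA.Co0Mono.signCo0_mul_self _)

theorem ng_mem : ng ∈ commutator C := by
  obtain ⟨l, hl, h | h⟩ := exists_mul t32
  · rw [← t32_sq, h]
    exact mul_mem hl hl
  · rw [← t32_sq, h]
    have h1 : l * ng * (l * ng) = l * l := by
      rw [mul_assoc, ← mul_assoc ng l ng, ng_comm l, mul_assoc l ng ng, ng_sq, mul_one]
    rw [h1]
    exact mul_mem hl hl

theorem perfC : commutator C = ⊤ := by
  rw [eq_top_iff]
  intro g _
  obtain ⟨l, hl, rfl | rfl⟩ := exists_mul g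
  · exact hl
  · exact mul_mem hl ng_mem

/-- `C → Suz` -/
noncomputable def πC : C →* Spor.Suz := eX.toMonoidHom.comp φ

theorem πC_apply (g : C) : πC g = eX (φ g) := rfl

theorem ker_iff (g : C) : g ∈ πC.ker ↔ φ g = 1 := by
  rw [MonoidHom.mem_ker, πC_apply, EmbeddingLike.map_eq_one_iff]

theorem isCover_πC : IsCover πC where
  surj := eX.surjective.comp φ_surj
  central := fun g hg => ker_le ((ker_iff g).1 hg)
  perf := perfC

theorem φ_ng : φ ng = 1 := by
  have h : t32 * t32 = ng := t32_sq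
  have h1 : ng ∈ φ.ker := by
    rw [MonoidHom.mem_ker]
    have h2 : (φ ng) = φ 1 := by
      rw [φ_apply, φ_apply]
      refine (LThreeMB.mk_eq_mk (comm_s ng) (comm_s 1)).2 ⟨0, ?_⟩
      rw [zpow_zero, mul_one]
      show (CoOneType.ClosingFacts.mk (Cfsg.Agent.SporadicA.Co0Mono.signCo0 allOne)) = CoOneType.ClosingFacts.mk 1
      rw [CoOneType.ClosingFacts.mk_eq]
      right
      rw [one_mul]
    rw [h2, map_one]
  exact h1

theorem s1_ne : s1 ≠ 1 := by
  intro h
  have h1 := χ_s1 1
  rw [one_mul, h, χ_one] at h1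
  have h2 : ζ = 1 := by
    have : (12 : ℂ) * ζ = 12 * 1 := by rw [mul_comm, ← h1, mul_one]
    exact mul_left_cancel₀ (by norm_num) this
  have h3 := ζ_sum
  rw [h2] at h3
  norm_num at h3

theorem ng_ne : ng ≠ 1 := by
  intro h
  have h1 := χ_ng1
  rw [h, χ_one] at h1
  norm_num at h1

theorem orderOf_s1 : orderOf s1 = 3 := orderOf_eq_prime s1_cube s1_ne

theorem orderOf_ng : orderOf ng = 2 := orderOf_eq_prime (by rw [pow_two]; exact ng_sq) ng_ne

instance finC : Finite C := inferInstance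

instance finSuz : Finite Spor.Suz := Nat.finite_of_card_ne_zero (by rw [Cfsg.Agent.S1694.result.2]; norm_num)

theorem multDvd : MultDvd Spor.Suz 6 := multDvd_of_cyclic (by norm_num) Cfsg.Agent.S2048.result

theorem card_ker : Nat.card πC.ker = 6 := by
  have h6 : Nat.card πC.ker ∣ 6 := multDvd C πC isCover_πC
  have h2 : 2 ∣ Nat.card πC.ker := by
    have := Subgroup.orderOf_dvd_natCard πC.ker ((ker_iff ng).2 φ_ng)
    rwa [orderOf_ng] at this
  have h3 : 3 ∣ Nat.card πC.ker := by
    have := Subgroup.orderOf_dvd_natCard πC.ker ((ker_iff s1).2 φ_s1)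
    rwa [orderOf_s1] at this
  exact Nat.dvd_antisymm h6 (Nat.Coprime.mul_dvd_of_dvd_of_dvd (m := 2) (n := 3) (by norm_num) h2 h3)

theorem exists_hom {G : Type} [Group G] [Finite G] {π : G →* Spor.Suz} (hπ : IsCover π) :
    ∃ θ : C →* G, Function.Surjective θ ∧ ∀ u, π (θ u) = πC u :=
  exists_of_universal (by norm_num) multDvd isCover_πC card_ker hπ

end Cfsg.Agent.H859.S8.SuzPerf
end

-- part: H859/S8/SuzTri
section
/-!
# S4908, `Suz`: the exterior cube of the character of degree 12 of `6.Suz` (helper859)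

* `K3` : the constituents of the exterior cube (degree 220) have degree 110 or 220;
* `exists_tri` : every perfect central extension of `Suz` by a group of order 2 has a faithful irreducible character of
  degree 110 or 220.
-/

set_option autoImplicit false
set_option maxRecDepth 20000

namespace Cfsg.Agent.H859.S8.SuzTri

open Cfsg Cfsg.Agent.Characters.Core Cfsg.Agent.H843.IMC
open Cfsg.Agent.LThreeCo1.AGrp (V lin)
open Cfsg.Agent.H299.K4.Orb Cfsg.Agent.H299.K4.Wt Cfsg.Agent.H299.K4.SuzC Cfsg.Agent.H299.K4.Suz143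
open Cfsg.Agent.H299.K4.SuzX Cfsg.Agent.H759.S8.SuzSq Cfsg.Agent.H859.S8.SuzPerf
open Cfsg.Agent.H80.Fpf
open scoped ComplexConjugate

universe u v

/-! ### Newton -/

/-- the second elementary symmetric function -/
def E2 : List ℂ → ℂ
  | [] => 0
  | a :: l => a * l.sum + E2 l

/-- the third elementary symmetric function -/
def E3 : List ℂ → ℂ
  | [] => 0
  | a :: l => a * E2 l + E3 l

theorem newton2 (l : List ℂ) : l.sum ^ 2 - (l.map (· ^ 2)).sum = 2 * E2 l := by
  induction l with
  | nil => simp [E2]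
  | cons a l ih =>
    simp only [List.sum_cons, List.map_cons, E2]
    linear_combination ih

theorem newton3 (l : List ℂ) :
    l.sum * l.sum * l.sum - 3 * (l.sum * (l.map (· ^ 2)).sum) + 2 * (l.map (· ^ 3)).sum = 6 * E3 l := by
  induction l with
  | nil => simp [E3]
  | cons a l ih =>
    have h2 := newton2 l
    simp only [List.sum_cons, List.map_cons, E3]
    linear_combination ih + 3 * a * h2

/-- the sums of two weights -/
def P2 : List V → List V
  | [] => []
  | a :: l => l.map (a + ·) ++ P2 l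

/-- the sums of three weights -/
def P3 : List V → List V
  | [] => []
  | a :: l => (P2 l).map (a + ·) ++ P3 l

theorem sum_add_map (a : V) (l : List V) (v : E) :
    ((l.map (a + ·)).map fun w => lam w v).sum = lam a v * (l.map fun w => lam w v).sum := by
  induction l with
  | nil => simp
  | cons b l ih =>
    simp only [List.map_cons, List.sum_cons] at ih ⊢
    rw [ih, lam_add]
    ring

theorem E2_eq (l : List V) (v : E) : E2 (l.map fun w => lam w v) = ((P2 l).map fun w => lam w v).sum := by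
  induction l with
  | nil => simp [E2, P2]
  | cons a l ih =>
    simp only [List.map_cons, E2, P2, List.map_append, List.sum_append]
    rw [ih, ← sum_add_map, List.map_map]

theorem E3_eq (l : List V) (v : E) : E3 (l.map fun w => lam w v) = ((P3 l).map fun w => lam w v).sum := by
  induction l with
  | nil => simp [E3, P3]
  | cons a l ih =>
    simp only [List.map_cons, E3, P3, List.map_append, List.sum_append]
    rw [ih, E2_eq, ← sum_add_map]

/-! ### the exterior cube -/

/-- the exterior cube -/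
noncomputable def A3 : C → ℂ := fun g => (χ g * χ g * χ g - 3 * (χ g * χ (g ^ 2)) + 2 * χ (g ^ 3)) / 6

theorem isCharacter_A3 : IsCharacter C A3 := Cfsg.Agent.H447.CTab.ext_three isChar

theorem A3_one : A3 1 = 220 := by
  unfold A3
  rw [one_pow, one_pow, χ_one]
  norm_num

/-- the list of the weights -/
def Wl : List V := List.ofFn W

theorem χ_fl (v : E) : χ (f v) = (Wl.map fun w => lam w v).sum := by
  have h := congrFun χ_f v
  rw [Finset.sum_apply] at h
  rw [Function.comp_apply] at h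
  rw [h, Wl, List.map_ofFn, List.sum_ofFn]
  rfl

theorem lam_pow (w : V) (v : E) (n : ℕ) : lam w (v ^ n) = lam w v ^ n := (lamH w).map_pow v n

theorem A3_fl (v : E) : A3 (f v) = ((P3 Wl).map fun w => lam w v).sum := by
  have h2 : χ (f v ^ 2) = ((Wl.map fun w => lam w v).map (· ^ 2)).sum := by
    rw [← map_pow, χ_fl, List.map_map]
    (with_reducible congr 1)
    apply List.map_congr_left
    intro w _
    exact lam_pow w v 2
  have h3 : χ (f v ^ 3) = ((Wl.map fun w => lam w v).map (· ^ 3)).sum := by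
    rw [← map_pow, χ_fl, List.map_map]
    (with_reducible congr 1)
    apply List.map_congr_left
    intro w _
    exact lam_pow w v 3
  unfold A3
  rw [h2, h3, χ_fl, newton3, E3_eq]
  ring

/-! ### the triples -/

/-- the triples, with the words which move the weight to the base -/
def tb : List ((Fin 12 × Fin 12 × Fin 12) × ℕ × ℕ × ℕ) := [
  ((0, 1, 2), 0, 9, 7), ((0, 1, 3), 0, 0, 0), ((0, 1, 4), 1, 1, 5), ((0, 1, 5), 4, 6, 2), ((0, 1, 6), 0, 0, 1), ((0, 1, 7), 0, 2, 10),
  ((0, 1, 8), 1, 6, 2), ((0, 1, 9), 0, 2, 7), ((0, 1, 10), 1, 1, 8), ((0, 1, 11), 0, 1, 4), ((0, 2, 3), 0, 3, 9), ((0, 2, 4), 1, 1, 6),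
  ((0, 2, 5), 0, 3, 8), ((0, 2, 6), 0, 1, 2), ((0, 2, 7), 1, 3, 3), ((0, 2, 8), 0, 2, 4), ((0, 2, 9), 0, 4, 4), ((0, 2, 10), 0, 4, 7),
  ((0, 2, 11), 2, 1, 5), ((0, 3, 4), 3, 0, 1), ((0, 3, 5), 1, 0, 4), ((0, 3, 6), 0, 1, 10), ((0, 3, 7), 1, 3, 2), ((0, 3, 8), 0, 0, 3),
  ((0, 3, 9), 0, 9, 10), ((0, 3, 10), 0, 2, 8), ((0, 3, 11), 1, 0, 1), ((0, 4, 5), 1, 6, 3), ((0, 4, 6), 0, 0, 2), ((0, 4, 7), 0, 1, 9),
  ((0, 4, 8), 6, 0, 1), ((0, 4, 9), 0, 4, 3), ((0, 4, 10), 0, 0, 5), ((0, 4, 11), 0, 4, 2), ((0, 5, 6), 1, 1, 10), ((0, 5, 7), 3, 1, 8),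
  ((0, 5, 8), 0, 3, 7), ((0, 5, 9), 0, 0, 10), ((0, 5, 10), 0, 7, 2), ((0, 5, 11), 5, 6, 2), ((0, 6, 7), 0, 5, 7), ((0, 6, 8), 0, 3, 10),
  ((0, 6, 9), 0, 2, 6), ((0, 6, 10), 0, 2, 5), ((0, 6, 11), 2, 6, 2), ((0, 7, 8), 2, 4, 3), ((0, 7, 9), 0, 9, 2), ((0, 7, 10), 7, 0, 1),
  ((0, 7, 11), 2, 1, 8), ((0, 8, 9), 1, 2, 8), ((0, 8, 10), 0, 10, 7), ((0, 8, 11), 0, 1, 1), ((0, 9, 10), 1, 2, 9), ((0, 9, 11), 0, 8, 2),
  ((0, 10, 11), 0, 5, 9), ((1, 2, 3), 0, 1, 8), ((1, 2, 4), 1, 3, 2), ((1, 2, 5), 3, 6, 2), ((1, 2, 6), 0, 4, 9), ((1, 2, 7), 0, 1, 5),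
  ((1, 2, 8), 1, 10, 7), ((1, 2, 9), 0, 6, 2), ((1, 2, 10), 0, 2, 6), ((1, 2, 11), 0, 3, 7), ((1, 3, 4), 0, 8, 10), ((1, 3, 5), 0, 2, 1),
  ((1, 3, 6), 2, 1, 5), ((1, 3, 7), 0, 0, 10), ((1, 3, 8), 2, 0, 4), ((1, 3, 9), 8, 0, 1), ((1, 3, 10), 6, 0, 1), ((1, 3, 11), 0, 2, 9),
  ((1, 4, 5), 0, 1, 7), ((1, 4, 6), 0, 7, 2), ((1, 4, 7), 0, 1, 6), ((1, 4, 8), 0, 8, 2), ((1, 4, 9), 0, 10, 10), ((1, 4, 10), 0, 3, 3),
  ((1, 4, 11), 0, 3, 4), ((1, 5, 6), 0, 0, 4), ((1, 5, 7), 0, 6, 3), ((1, 5, 8), 0, 1, 10), ((1, 5, 9), 1, 1, 6), ((1, 5, 10), 2, 1, 8),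
  ((1, 5, 11), 0, 8, 7), ((1, 6, 7), 2, 0, 1), ((1, 6, 8), 1, 5, 2), ((1, 6, 9), 2, 4, 3), ((1, 6, 10), 0, 3, 2), ((1, 6, 11), 1, 2, 4),
  ((1, 7, 8), 0, 4, 7), ((1, 7, 9), 5, 0, 1), ((1, 7, 10), 0, 10, 2), ((1, 7, 11), 0, 0, 2), ((1, 8, 9), 1, 1, 3), ((1, 8, 10), 0, 0, 9),
  ((1, 8, 11), 1, 4, 4), ((1, 9, 10), 1, 4, 3), ((1, 9, 11), 0, 2, 8), ((1, 10, 11), 1, 3, 9), ((2, 3, 4), 1, 4, 4), ((2, 3, 5), 1, 1, 8),
  ((2, 3, 6), 5, 0, 1), ((2, 3, 7), 0, 3, 10), ((2, 3, 8), 2, 4, 10), ((2, 3, 9), 0, 6, 10), ((2, 3, 10), 0, 5, 3), ((2, 3, 11), 0, 4, 3),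
  ((2, 4, 5), 2, 6, 2), ((2, 4, 6), 1, 0, 7), ((2, 4, 7), 0, 3, 2), ((2, 4, 8), 0, 6, 9), ((2, 4, 9), 0, 10, 7), ((2, 4, 10), 1, 5, 9),
  ((2, 4, 11), 0, 7, 10), ((2, 5, 6), 2, 2, 5), ((2, 5, 7), 0, 2, 2), ((2, 5, 8), 0, 9, 2), ((2, 5, 9), 1, 5, 2), ((2, 5, 10), 0, 2, 3),
  ((2, 5, 11), 0, 1, 6), ((2, 6, 7), 0, 5, 10), ((2, 6, 8), 1, 1, 5), ((2, 6, 9), 1, 0, 4), ((2, 6, 10), 0, 8, 7), ((2, 6, 11), 7, 0, 1),
  ((2, 7, 8), 0, 2, 1), ((2, 7, 9), 0, 1, 4), ((2, 7, 10), 1, 6, 3), ((2, 7, 11), 0, 7, 7), ((2, 8, 9), 0, 5, 2), ((2, 8, 10), 1, 0, 1),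
  ((2, 8, 11), 1, 4, 3), ((2, 9, 10), 0, 8, 10), ((2, 9, 11), 0, 1, 3), ((2, 10, 11), 4, 0, 1), ((3, 4, 5), 2, 0, 6), ((3, 4, 6), 6, 6, 2),
  ((3, 4, 7), 0, 5, 9), ((3, 4, 8), 0, 3, 8), ((3, 4, 9), 0, 0, 1), ((3, 4, 10), 0, 6, 3), ((3, 4, 11), 0, 5, 10), ((3, 5, 6), 0, 1, 9),
  ((3, 5, 7), 1, 2, 4), ((3, 5, 8), 0, 10, 10), ((3, 5, 9), 0, 1, 1), ((3, 5, 10), 0, 7, 10), ((3, 5, 11), 0, 0, 8), ((3, 6, 7), 0, 2, 3),
  ((3, 6, 8), 1, 2, 9), ((3, 6, 9), 0, 6, 9), ((3, 6, 10), 0, 4, 10), ((3, 6, 11), 0, 3, 3), ((3, 7, 8), 0, 1, 3), ((3, 7, 9), 0, 0, 9),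
  ((3, 7, 10), 1, 4, 10), ((3, 7, 11), 1, 2, 5), ((3, 8, 9), 1, 0, 6), ((3, 8, 10), 0, 4, 9), ((3, 8, 11), 0, 2, 10), ((3, 9, 10), 1, 3, 3),
  ((3, 9, 11), 3, 6, 2), ((3, 10, 11), 1, 1, 10), ((4, 5, 6), 0, 1, 8), ((4, 5, 7), 1, 6, 2), ((4, 5, 8), 1, 2, 5), ((4, 5, 9), 1, 3, 9),
  ((4, 5, 10), 0, 9, 10), ((4, 5, 11), 0, 5, 2), ((4, 6, 7), 0, 4, 4), ((4, 6, 8), 4, 0, 1), ((4, 6, 9), 1, 4, 10), ((4, 6, 10), 1, 1, 3),
  ((4, 6, 11), 0, 0, 3), ((4, 7, 8), 0, 0, 7), ((4, 7, 9), 0, 6, 7), ((4, 7, 10), 2, 4, 10), ((4, 7, 11), 8, 0, 1), ((4, 8, 9), 0, 1, 5),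
  ((4, 8, 10), 0, 5, 7), ((4, 8, 11), 0, 0, 4), ((4, 9, 10), 2, 2, 5), ((4, 9, 11), 3, 1, 8), ((4, 10, 11), 0, 9, 7), ((5, 6, 7), 1, 0, 6),
  ((5, 6, 8), 0, 10, 2), ((5, 6, 9), 0, 7, 7), ((5, 6, 10), 0, 2, 4), ((5, 6, 11), 0, 2, 7), ((5, 7, 8), 1, 0, 7), ((5, 7, 9), 0, 2, 5),
  ((5, 7, 10), 0, 6, 2), ((5, 7, 11), 0, 3, 9), ((5, 8, 9), 0, 5, 3), ((5, 8, 10), 0, 0, 6), ((5, 8, 11), 0, 0, 5), ((5, 9, 10), 0, 0, 7),
  ((5, 9, 11), 6, 6, 2), ((5, 10, 11), 2, 0, 4), ((6, 7, 8), 5, 6, 2), ((6, 7, 9), 0, 1, 7), ((6, 7, 10), 0, 0, 0), ((6, 7, 11), 1, 10, 7),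
  ((6, 8, 9), 0, 2, 9), ((6, 8, 10), 2, 0, 6), ((6, 8, 11), 0, 6, 7), ((6, 9, 10), 0, 4, 2), ((6, 9, 11), 0, 0, 6), ((6, 10, 11), 0, 6, 10),
  ((7, 8, 9), 3, 0, 1), ((7, 8, 10), 0, 3, 4), ((7, 8, 11), 0, 4, 10), ((7, 9, 10), 0, 0, 8), ((7, 9, 11), 1, 5, 9), ((7, 10, 11), 1, 2, 8),
  ((8, 9, 10), 4, 6, 2), ((8, 9, 11), 0, 1, 2), ((8, 10, 11), 0, 2, 2), ((9, 10, 11), 2, 0, 1)]

/-- the weight of a triple -/
def sw (t : Fin 12 × Fin 12 × Fin 12) : V := fun i => W t.1 i + W t.2.1 i + W t.2.2 i

/-- the code of a weight -/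
def code (w : V) : ℕ := 3 * (3 * (3 * (3 * (3 * (w 0).val + (w 1).val) + (w 2).val) + (w 3).val) + (w 4).val) + (w 5).val

theorem code_inj {w w' : V} (h : code w = code w') : w = w' := by
  unfold code at h
  have b : ∀ i, (w i).val < 3 := fun i => ZMod.val_lt _
  have b' : ∀ i, (w' i).val < 3 := fun i => ZMod.val_lt _
  have b0 := b 0
  have b1 := b 1
  have b2 := b 2
  have b3 := b 3
  have b4 := b 4
  have b5 := b 5
  have c0 := b' 0
  have c1 := b' 1
  have c2 := b' 2
  have c3 := b' 3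
  have c4 := b' 4
  have c5 := b' 5
  have h0 : (w 0).val = (w' 0).val := by (clear * - h b1 b2 b3 b4 b5 c1 c2 c3 c4 c5; solve | lia | omega)
  have h1 : (w 1).val = (w' 1).val := by (clear * - h b2 b3 b4 b5 c2 c3 c4 c5 h0; solve | lia | omega)
  have h2 : (w 2).val = (w' 2).val := by (clear * - h b3 b4 b5 c3 c4 c5 h0 h1; solve | lia | omega)
  have h3 : (w 3).val = (w' 3).val := by (clear * - h b4 b5 c4 c5 h0 h1 h2; solve | lia | omega)
  have h4 : (w 4).val = (w' 4).val := by (clear * - h b5 c5 h0 h1 h2 h3; solve | lia | omega)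
  have h5 : (w 5).val = (w' 5).val := by (clear * - h h0 h1 h2 h3 h4; solve | lia | omega)
  funext i
  apply ZMod.val_injective 3
  match i with
  | 0 => exact h0
  | 1 => exact h1
  | 2 => exact h2
  | 3 => exact h3
  | 4 => exact h4
  | 5 => exact h5

/-- the base -/
def w0 : V := sw (0, 1, 2)

/-- the step -/
def stp (p : Fin 12 → Fin 12) (t : Fin 12 × Fin 12 × Fin 12) : Fin 12 × Fin 12 × Fin 12 := (p t.1, p t.2.1, p t.2.2)

/-- the word -/
def act (k m l : ℕ) (t : Fin 12 × Fin 12 × Fin 12) : Fin 12 × Fin 12 × Fin 12 :=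
  (stp p11)^[l] (stp p7 ((stp p11)^[m] (stp p7 ((stp p11)^[k] t))))

theorem tb_ok : (tb.all fun r => code (sw (act r.2.1 r.2.2.1 r.2.2.2 r.1)) == code w0) = true := by decide +kernel

theorem tb_P3 : (P3 Wl).map code = tb.map fun r => code (sw r.1) := by decide +kernel

theorem count_base : ((P3 Wl).map code).count (code w0) = 2 := by decide +kernel

theorem sw_step7 (t : Fin 12 × Fin 12 × Fin 12) : Mv f (lam (sw t)) (lam (sw (stp p7 t))) := by
  have h := mv7 (sw t)
  have h1 : trp c7 (sw t) = sw (stp p7 t) := by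
    have h2 : sw t = W t.1 + W t.2.1 + W t.2.2 := rfl
    rw [h2]
    funext j
    show pr (W t.1 + W t.2.1 + W t.2.2) (c7 j) = _
    rw [pr_add_left, pr_add_left]
    show trp c7 (W t.1) j + trp c7 (W t.2.1) j + trp c7 (W t.2.2) j = _
    rw [trp_W7, trp_W7, trp_W7]
    rfl
  rwa [h1] at h

theorem sw_step11 (t : Fin 12 × Fin 12 × Fin 12) : Mv f (lam (sw t)) (lam (sw (stp p11 t))) := by
  have h := mv11 (sw t)
  have h1 : trp c11 (sw t) = sw (stp p11 t) := by
    have h2 : sw t = W t.1 + W t.2.1 + W t.2.2 := rfl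
    rw [h2]
    funext j
    show pr (W t.1 + W t.2.1 + W t.2.2) (c11 j) = _
    rw [pr_add_left, pr_add_left]
    show trp c11 (W t.1) j + trp c11 (W t.2.1) j + trp c11 (W t.2.2) j = _
    rw [trp_W11, trp_W11, trp_W11]
    rfl
  rwa [h1] at h

theorem sw_iter (k : ℕ) (t : Fin 12 × Fin 12 × Fin 12) : Mv f (lam (sw t)) (lam (sw ((stp p11)^[k] t))) := by
  induction k generalizing t with
  | zero => exact Mv.refl _ _
  | succ k ih =>
    rw [Function.iterate_succ_apply]
    exact (sw_step11 t).trans (ih _)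

theorem sw_act (k m l : ℕ) (t : Fin 12 × Fin 12 × Fin 12) : Mv f (lam (sw t)) (lam (sw (act k m l t))) :=
  ((((sw_iter k t).trans (sw_step7 _)).trans (sw_iter m _)).trans (sw_step7 _)).trans (sw_iter l _)

theorem mem_tb {w : V} (h : w ∈ P3 Wl) : ∃ r ∈ tb, w = sw r.1 := by
  have h1 : code w ∈ (P3 Wl).map code := List.mem_map_of_mem h
  rw [tb_P3] at h1
  obtain ⟨r, hr, h2⟩ := List.mem_map.1 h1
  exact ⟨r, hr, (code_inj h2).symm⟩

theorem mv_tb {r : (Fin 12 × Fin 12 × Fin 12) × ℕ × ℕ × ℕ} (hr : r ∈ tb) : Mv f (lam (sw r.1)) (lam w0) := by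
  have h1 := List.all_eq_true.1 tb_ok r hr
  have h2 : sw (act r.2.1 r.2.2.1 r.2.2.2 r.1) = w0 := code_inj (by simpa using h1)
  rw [← h2]
  exact sw_act _ _ _ _

theorem mv_base {w : V} (h : w ∈ P3 Wl) : Mv f (lam w) (lam w0) := by
  obtain ⟨r, hr, rfl⟩ := mem_tb h
  exact mv_tb hr

theorem count_w0 : (P3 Wl).count w0 = 2 := by
  rw [← count_base, List.count_map_of_injective _ _ (fun a b h => code_inj h)]

/-! ### the constituents -/

theorem A3_f : A3 ∘ f = ∑ w, ((P3 Wl).count w : ℂ) • lam w := by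
  funext v
  rw [Function.comp_apply, A3_fl, Finset.sum_apply]
  have h : ∀ l : List V, (l.map fun w => lam w v).sum = ∑ w, ((l.count w : ℕ) : ℂ) * lam w v := by
    intro l
    induction l with
    | nil => simp
    | cons a l ih =>
      rw [List.map_cons, List.sum_cons, ih]
      have h1 : ∀ w : V, (((a :: l).count w : ℕ) : ℂ) * lam w v = (if a = w then lam w v else 0) +
          ((l.count w : ℕ) : ℂ) * lam w v := by
        intro w
        rw [List.count_cons]
        by_cases hw : a = w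
        · subst hw
          simp
          ring
        · rw [if_neg hw, if_neg (by simpa using hw)]
          simp
      rw [Finset.sum_congr rfl fun w _ => h1 w, Finset.sum_add_distrib, Finset.sum_ite_eq Finset.univ a,
        if_pos (Finset.mem_univ _)]
  exact h _

theorem inner_lam [Fintype C] (w : V) : classInner (A3 ∘ f) (lam w) = ((P3 Wl).count w : ℕ) := by
  rw [A3_f, classInner_sum_left, Finset.sum_eq_single w]
  · rw [classInner_smul_left, classInner_irr_self (isIrr_lam w), mul_one]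
  · intro w' _ hw'
    rw [classInner_smul_left, classInner_irr_ne (isIrr_lam w') (isIrr_lam w) (fun h => hw' (lam_injective h)), mul_zero]
  · intro h
    exact absurd (Finset.mem_univ w) h

theorem K3 [Fintype C] {α : C → ℂ} (hα : IsIrrCharacter C α) (h0 : classInner A3 α ≠ 0) : α 1 = 110 ∨ α 1 = 220 := by
  classical
  have : Finite (IrrCharacter C) := finite_irr
  have := Fintype.ofFinite (IrrCharacter C)
  obtain ⟨mm, hmm⟩ := exists_nat_comb isCharacter_A3
  have hmult : ∀ χ : IrrCharacter C, ∃ c : V → ℕ, (∀ w, classInner ((χ : C → ℂ) ∘ f) (lam w) = c w) ∧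
      (χ : C → ℂ) ∘ f = ∑ w, (c w : ℂ) • lam w := fun χ => exists_mult (isCharacter_comp f (isIrr_isCharacter χ.2))
  choose n hn1 hn2 using hmult
  have hval : A3 = ∑ χ : IrrCharacter C, (mm χ : ℂ) • (χ : C → ℂ) := by
    funext g
    rw [hmm]
    simp only [Finset.sum_apply, _root_.nsmul_eq_mul, _root_.Pi.mul_apply, _root_.Pi.natCast_apply, _root_.Pi.smul_apply, _root_.smul_eq_mul]
  have hsum : ∀ w : V, (P3 Wl).count w = ∑ χ : IrrCharacter C, mm χ * n χ w := by
    intro w
    have h1 : A3 ∘ f = ∑ χ : IrrCharacter C, (mm χ : ℂ) • ((χ : C → ℂ) ∘ f) := by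
      funext e
      rw [Function.comp_apply, hval]
      simp only [Finset.sum_apply, _root_.Pi.smul_apply, _root_.smul_eq_mul, _root_.Function.comp_apply]
    have h2 := inner_lam w
    rw [h1, classInner_sum_left] at h2
    have h3 : ((∑ χ : IrrCharacter C, mm χ * n χ w : ℕ) : ℂ) = (((P3 Wl).count w : ℕ) : ℂ) := by
      rw [← h2]
      push_cast
      exact Finset.sum_congr rfl fun χ _ => by rw [classInner_smul_left, hn1]
    exact_mod_cast h3.symm
  let a : IrrCharacter C := ⟨α, hα⟩
  have hma : mm a ≠ 0 := by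
    intro h
    apply h0
    rw [hval, classInner_sum_left]
    refine Finset.sum_eq_zero fun χ _ => ?_
    rw [classInner_smul_left]
    by_cases hχ : χ = a
    · rw [hχ, h, Nat.cast_zero, zero_mul]
    · rw [classInner_irr_ne χ.2 hα (fun h' => hχ (Subtype.ext h')), mul_zero]
  have hle : ∀ w, n a w ≤ (P3 Wl).count w := by
    intro w
    rw [hsum]
    calc n a w ≤ mm a * n a w := Nat.le_mul_of_pos_left _ (Nat.pos_of_ne_zero hma)
      _ ≤ _ := Finset.single_le_sum (f := fun χ : IrrCharacter C => mm χ * n χ w) (fun _ _ => Nat.zero_le _)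
        (Finset.mem_univ a)
  have hcl : ∀ {β : C → ℂ}, IsCharacter C β → ∀ g h : C, β (g * h * g⁻¹) = β h :=
    fun hβ g h => isCharacter_isClassFunction hβ h g
  have hkey : ∀ w, 2 * n a w = n a w0 * (P3 Wl).count w := by
    intro w
    by_cases hw : w ∈ P3 Wl
    · have h1 := mv_base hw
      have h2 := h1.inner (hcl isCharacter_A3)
      rw [inner_lam, inner_lam] at h2
      have h3 : (P3 Wl).count w0 = (P3 Wl).count w := by exact_mod_cast h2
      have h4 := h1.inner (hcl (isIrr_isCharacter hα))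
      have h5 : n a w0 = n a w := by
        have e1 := hn1 a w0
        have e2 := hn1 a w
        have h6 : ((n a w0 : ℕ) : ℂ) = ((n a w : ℕ) : ℂ) := by
          rw [← e1, ← e2]
          exact h4
        exact_mod_cast h6
      rw [← h3, count_w0, h5]
      ring
    · have h1 : (P3 Wl).count w = 0 := List.count_eq_zero.2 hw
      have h2 := hle w
      rw [h1] at h2 ⊢
      omega
  have hA : ∑ w, (P3 Wl).count w = 220 := by
    have h1 := congrFun A3_f 1
    rw [Function.comp_apply, map_one, A3_one, Finset.sum_apply] at h1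
    have h2 : ∀ w : V, (((P3 Wl).count w : ℂ) • lam w) 1 = ((P3 Wl).count w : ℕ) := by
      intro w
      rw [Pi.smul_apply, smul_eq_mul]
      have : lam w 1 = 1 := (lamH w).map_one
      rw [this, mul_one]
    rw [Finset.sum_congr rfl fun w _ => h2 w] at h1
    exact_mod_cast h1.symm
  have hα1 : α 1 = ((∑ w, n a w : ℕ) : ℂ) := by
    have h1 := congrFun (hn2 a) 1
    rw [Function.comp_apply, map_one, Finset.sum_apply] at h1
    have h2 : ∀ w : V, ((n a w : ℂ) • lam w) 1 = (n a w : ℕ) := by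
      intro w
      rw [Pi.smul_apply, smul_eq_mul]
      have : lam w 1 = 1 := (lamH w).map_one
      rw [this, mul_one]
    rw [Finset.sum_congr rfl fun w _ => h2 w] at h1
    push_cast
    exact h1
  have h3 : 2 * ∑ w, n a w = n a w0 * 220 := by
    rw [Finset.mul_sum, Finset.sum_congr rfl fun w _ => hkey w, ← Finset.mul_sum, hA]
  have h4 : n a w0 ≤ 2 := by
    have := hle w0
    rwa [count_w0] at this
  have h5 : ∑ w, n a w ≠ 0 := by
    intro h
    have h6 := isIrr_apply_one_ne_zero hα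
    rw [hα1, h, Nat.cast_zero] at h6
    exact h6 rfl
  rcases (by omega : ∑ w, n a w = 110 ∨ ∑ w, n a w = 220) with h | h
  · left
    rw [hα1, h]
    norm_num
  · right
    rw [hα1, h]
    norm_num

end Cfsg.Agent.H859.S8.SuzTri
end

-- part: H859/S8/SuzDbl
section
/-!
# S4908, `Suz`: faithful characters of degree 110 or 220 of the double cover (helper859)

* `exists_tri` : every perfect central extension of `Suz` by a group of order 2 has a faithful irreducible character of
  degree 110 or 220 (`exists_tri0` : covers in `Type`).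
-/

set_option autoImplicit false
set_option maxRecDepth 20000

namespace Cfsg.Agent.H859.S8.SuzDbl

open Cfsg Cfsg.Agent.Characters.Core Cfsg.Agent.H843.IMC
open Cfsg.Agent.LThreeCo1.AGrp (V lin)
open Cfsg.Agent.H299.K4.Orb Cfsg.Agent.H299.K4.Wt Cfsg.Agent.H299.K4.SuzC Cfsg.Agent.H299.K4.Suz143
open Cfsg.Agent.H299.K4.SuzX Cfsg.Agent.H759.S8.SuzSq Cfsg.Agent.H859.S8.SuzPerf Cfsg.Agent.H859.S8.SuzTri
open Cfsg.Agent.H80.Fpf
open scoped ComplexConjugate

universe u v

theorem A3_s1 (g : C) : A3 (g * s1) = A3 g := by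
  have hc : Commute g s1 := (s1_comm g).symm
  unfold A3
  have h2 : χ ((g * s1) ^ 2) = ζ ^ 2 * χ (g ^ 2) := by
    rw [hc.mul_pow, pow_two s1, ← mul_assoc, χ_s1, χ_s1]
    ring
  have h3 : χ ((g * s1) ^ 3) = χ (g ^ 3) := by
    rw [hc.mul_pow, s1_cube, mul_one]
  rw [h2, h3, χ_s1]
  have hz := ζ_pow
  linear_combination ((χ g * χ g * χ g - 3 * (χ g * χ (g ^ 2))) / 6) * hz

theorem A3_pow (g : C) (n : ℕ) : A3 (g * s1 ^ n) = A3 g := by
  induction n with
  | zero => rw [pow_zero, mul_one]
  | succ n ih => rw [pow_succ, ← mul_assoc, A3_s1, ih]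

theorem A3_ng (g : C) : A3 (g * ng) = -A3 g := by
  have hc : Commute g ng := (ng_comm g).symm
  unfold A3
  have hn2 : ng ^ 2 = 1 := by rw [pow_two]; exact ng_sq
  have h2 : χ ((g * ng) ^ 2) = χ (g ^ 2) := by
    rw [hc.mul_pow, hn2, mul_one]
  have h3 : χ ((g * ng) ^ 3) = -χ (g ^ 3) := by
    rw [hc.mul_pow, pow_succ ng, hn2, one_mul, χ_ng]
  rw [h2, h3, χ_ng]
  ring

/-- translation by an element of the kernel -/
theorem mul_ker {G : Type*} [Group G] [Finite G] {β : G → ℂ} (hβ : IsIrrCharacter G β) {v : G} (h : β v = β 1) (g : G) :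
    β (g * v) = β g := by
  obtain ⟨n, ρ, -, rfl⟩ := hβ
  have h1 : ρ.character 1 = (Module.finrank ℂ (Fin n → ℂ) : ℂ) := Representation.char_one ρ
  rw [h1, Cfsg.Agent.Characters.Values.character_eq_finrank_iff] at h
  show LinearMap.trace ℂ _ (ρ (g * v)) = LinearMap.trace ℂ _ (ρ g)
  rw [map_mul, h]
  rfl

theorem exists_tri0 {G : Type} [Group G] [Finite G] {π : G →* Spor.Suz} (hπ : IsCover π) (h2 : Nat.card π.ker = 2) :
    ∃ β : G → ℂ, IsIrrCharacter G β ∧ (∃ v ∈ π.ker, β v ≠ β 1) ∧ (β 1 = 110 ∨ β 1 = 220) := by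
  classical
  obtain ⟨θ, hθ, hθπ⟩ := exists_hom hπ
  have := Fintype.ofFinite C
  have := Fintype.ofFinite G
  have hcardθ : Nat.card θ.ker = 3 := by
    have c1 := Subgroup.card_eq_card_quotient_mul_card_subgroup πC.ker
    have c2 := Subgroup.card_eq_card_quotient_mul_card_subgroup π.ker
    have c3 := Subgroup.card_eq_card_quotient_mul_card_subgroup θ.ker
    rw [Nat.card_congr (QuotientGroup.quotientKerEquivOfSurjective πC isCover_πC.surj).toEquiv, card_ker] at c1
    rw [Nat.card_congr (QuotientGroup.quotientKerEquivOfSurjective π hπ.surj).toEquiv, h2] at c2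
    rw [Nat.card_congr (QuotientGroup.quotientKerEquivOfSurjective θ hθ).toEquiv, c1, c2] at c3
    rw [Cfsg.Agent.S1694.result.2] at c3
    omega
  have hz3 : ∀ z, θ z = 1 → z ^ 3 = 1 := by
    intro z hz
    have h1 : (⟨z, hz⟩ : θ.ker) ^ Nat.card θ.ker = 1 := pow_card_eq_one'
    rw [hcardθ] at h1
    exact congrArg Subtype.val h1
  have hker : ∀ z, θ z = 1 → φ z = 1 := fun z hz => by
    have h1 : πC z = 1 := by rw [← hθπ, hz, map_one]
    exact (ker_iff z).1 h1
  have hn3 : ng ^ 3 = ng := by rw [pow_succ, pow_two, ng_sq, one_mul]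
  have hinv : ∀ z, θ z = 1 → ∀ u, A3 (u * z) = A3 u := by
    intro z hz u
    obtain ⟨n, h | h⟩ := ker_cases (hker z hz)
    · rw [← A3_pow (u * z) n, mul_assoc, h, mul_one]
    · exfalso
      apply ng_ne
      have hc : Commute z (s1 ^ n) := (Commute.pow_right (s1_comm _).symm n)
      rw [← hn3, ← h, hc.mul_pow, hz3 z hz, one_mul, ← pow_mul, mul_comm, pow_mul, s1_cube, one_pow]
  have hv0 : θ ng ∈ π.ker := by
    rw [MonoidHom.mem_ker, hθπ]
    exact (ker_iff ng).2 φ_ng
  let B : G → ℂ := fun g => A3 (Function.surjInv hθ g)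
  have hB : ∀ u, B (θ u) = A3 u := by
    intro u
    have h1 : θ (u⁻¹ * Function.surjInv hθ (θ u)) = 1 := by
      rw [map_mul, Function.surjInv_eq hθ (θ u), map_inv, inv_mul_cancel]
    have h2 := hinv _ h1 u
    rwa [mul_inv_cancel_left] at h2
  have hcomp : B ∘ θ = A3 := funext hB
  have hBc : IsCharacter G B := isCharacter_of_comp θ hθ (by rw [hcomp]; exact isCharacter_A3)
  have hB0 : B ≠ 0 := by
    intro h
    have h1 := congrFun h 1
    rw [← map_one θ, hB, A3_one] at h1
    norm_num at h1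
  obtain ⟨β, hβ⟩ := exists_constituent hBc hB0
  have hα : IsIrrCharacter C ((β : G → ℂ) ∘ θ) := isIrr_comp θ hθ β.2
  have h1 : classInner A3 ((β : G → ℂ) ∘ θ) ≠ 0 := by
    rw [← hcomp]
    have := Cfsg.Agent.H693.Defl.classInner_comp_surj θ hθ B (β : G → ℂ)
    show classInner (fun x => B (θ x)) (fun x => (β : G → ℂ) (θ x)) ≠ 0
    rw [this]
    exact hβ
  refine ⟨β, β.2, ⟨θ ng, hv0, fun h => hβ ?_⟩, ?_⟩
  · have hBn : ∀ g, B (g * θ ng) = -B g := by
      intro g
      obtain ⟨u, rfl⟩ := hθ g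
      rw [← map_mul, hB, hB, A3_ng]
    have h3 : classInner B (β : G → ℂ) = -classInner B (β : G → ℂ) := by
      have e1 : ∑ g : G, B g * conj ((β : G → ℂ) g) = -∑ g : G, B g * conj ((β : G → ℂ) g) := by
        have e2 := Equiv.sum_comp (Equiv.mulRight (θ ng)) (fun g => B g * conj ((β : G → ℂ) g))
        rw [← Finset.sum_neg_distrib, ← e2]
        refine Finset.sum_congr rfl fun g _ => ?_
        show B (g * θ ng) * conj ((β : G → ℂ) (g * θ ng)) = _
        rw [hBn, mul_ker β.2 h g]
        ring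
      rw [classInner_def, ← mul_neg, ← e1]
    exact self_eq_neg.1 h3
  · have h3 := K3 hα h1
    have h4 : ((β : G → ℂ) ∘ θ) 1 = (β : G → ℂ) 1 := by rw [Function.comp_apply, map_one]
    rwa [h4] at h3

/-- a perfect central extension of `Suz` by a group of order 2 -/
theorem exists_tri {N : Type u} [Group N] [Finite N] {X : Type v} [Group X] (hS : Spor.IsoSuz X) (V : Subgroup N)
    [V.Normal] (hV : Nat.card V = 2) (hc : V ≤ Subgroup.center N) (hp : commutator N = ⊤)
    (hX : Nonempty ((N ⧸ V) ≃* X)) :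
    ∃ α : N → ℂ, IsIrrCharacter N α ∧ (∃ v ∈ V, α v ≠ α 1) ∧ (α 1 = 110 ∨ α 1 = 220) := by
  obtain ⟨eS⟩ := hS
  obtain ⟨f⟩ := hX
  let E : Shrink.{0} N ≃* N := Shrink.mulEquiv
  have hfin : Finite (Shrink.{0} N) := Finite.of_equiv N E.symm.toEquiv
  let π : Shrink.{0} N →* Spor.Suz :=
    (eS.toMonoidHom.comp f.toMonoidHom).comp ((QuotientGroup.mk' V).comp E.toMonoidHom)
  have hker : ∀ x : Shrink.{0} N, x ∈ π.ker ↔ E x ∈ V := by
    intro x
    rw [MonoidHom.mem_ker]
    show eS (f (QuotientGroup.mk' V (E x))) = 1 ↔ _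
    rw [EmbeddingLike.map_eq_one_iff, EmbeddingLike.map_eq_one_iff]
    exact QuotientGroup.eq_one_iff _
  have hπ : IsCover π := by
    refine ⟨?_, ?_, ?_⟩
    · intro m
      obtain ⟨x, hx⟩ := QuotientGroup.mk'_surjective V (f.symm (eS.symm m))
      refine ⟨E.symm x, ?_⟩
      show eS (f (QuotientGroup.mk' V (E (E.symm x)))) = m
      rw [E.apply_symm_apply, hx, f.apply_symm_apply, eS.apply_symm_apply]
    · intro x hx
      rw [Subgroup.mem_center_iff]
      intro y
      apply E.injective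
      rw [map_mul, map_mul]
      exact Subgroup.mem_center_iff.1 (hc ((hker x).1 hx)) (E y)
    · have h2 : (commutator (Shrink.{0} N)).map E.toMonoidHom = commutator N := by
        rw [commutator_def, commutator_def, Subgroup.map_commutator, ← MonoidHom.range_eq_map]
        have h3 : E.toMonoidHom.range = ⊤ := MonoidHom.range_eq_top.2 E.surjective
        rw [h3]
      rw [hp] at h2
      rw [eq_top_iff]
      intro x _
      have h3 : E x ∈ (commutator (Shrink.{0} N)).map E.toMonoidHom := by rw [h2]; trivial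
      obtain ⟨y, hy, hyx⟩ := h3
      have h4 : y = x := E.injective hyx
      rwa [← h4]
  have h3 : Nat.card π.ker = 2 := by
    rw [← hV]
    exact Nat.card_congr
      { toFun := fun x => ⟨E x, (hker x).1 x.2⟩
        invFun := fun y => ⟨E.symm y, (hker _).2 (by rw [E.apply_symm_apply]; exact y.2)⟩
        left_inv := fun x => Subtype.ext (E.symm_apply_apply x)
        right_inv := fun y => Subtype.ext (E.apply_symm_apply y) }
  obtain ⟨α, hα, ⟨v, hv, hne⟩, h1⟩ := exists_tri0 hπ h3
  refine ⟨α ∘ E.symm, isIrr_comp E.symm.toMonoidHom E.symm.surjective hα, ⟨E v, (hker v).1 hv, ?_⟩, ?_⟩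
  · show α (E.symm (E v)) ≠ α (E.symm 1)
    rw [E.symm_apply_apply, map_one]
    exact hne
  · show α (E.symm 1) = 110 ∨ α (E.symm 1) = 220
    rw [map_one]
    exact h1

end Cfsg.Agent.H859.S8.SuzDbl
end

-- part: H859/S8/SuzE
section
/-!
# S4908, `Suz`: a character of degree 110 of `Suz` would have the value -25 at the image of `e 2` (helper859)

* `val_e2` : if `ψ 1 = 110` then `ψ (φ t2) = -25`, `t2 = e 2 ∈ C(e 1)`;
* `exists_seven` : an element of order 7 commuting with `φ t2`; `φ t2` has order 3.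
-/

set_option autoImplicit false
set_option maxRecDepth 20000

namespace Cfsg.Agent.H859.S8.SuzE

open Cfsg Cfsg.Agent.Characters.Core Cfsg.Agent.H843.IMC
open Cfsg.Agent.LThreeCo1.Ev
open Cfsg.Agent.LThreeCo1.AGrp (V lin Ph)
open Cfsg.Agent.LThreeCo1.Rel (a)
open Cfsg.Agent.SporadicStructure.Co0Matrix
open Cfsg.Agent.H299.K4.Orb Cfsg.Agent.H299.K4.Wt Cfsg.Agent.H299.K4.SuzC Cfsg.Agent.H299.K4.Suz143
open Cfsg.Agent.H299.K4.SuzX Cfsg.Agent.H759.S8.SuzSq Cfsg.Agent.H859.S8.SuzPerf Cfsg.Agent.H859.S8.SuzTri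
open scoped ComplexConjugate

/-! ### the weights with first coordinate zero -/

/-- the codes of the differences -/
def dlit : List ℕ := [
  234, 54, 167, 219, 22, 223, 181, 188, 74, 6, 72, 117, 90, 41, 12, 112, 16, 28, 35, 83, 123, 81, 27, 180,
  194, 165, 49, 169, 208, 215, 20, 33, 18, 88, 79, 142, 55, 101, 59, 26, 21, 159, 85, 160, 114, 24, 87,
  29, 127, 4, 52, 50, 107, 111, 105, 17, 224, 71, 172, 227, 228, 168, 166, 61, 14, 62, 113, 23, 86, 34,
  8, 132, 48, 46, 103, 110, 104, 92, 56, 146, 13, 68, 84, 69, 7, 136, 98, 137, 94, 58, 148, 15, 70, 89,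
  65, 5, 138, 91, 139, 37, 163, 10, 201, 175, 32, 179, 191, 195, 43, 1, 3, 237, 57, 170, 222, 25, 217,
  184, 182, 77, 75, 36, 162, 9, 203, 174, 31, 178, 190, 197, 2, 42]

/-- the codes of the triples -/
def tlit : List ℕ := [
  144, 205, 231, 134, 230, 209, 211, 154, 120, 153, 115, 141, 44, 140, 119, 121, 64, 30, 63, 193, 93, 189,
  177, 173, 125, 82, 124, 122, 218, 206, 199, 151, 108, 150, 118, 106, 99, 51, 11, 53, 202, 204, 147, 116,
  149, 183, 126, 95, 128, 131, 97, 130, 40, 73, 39, 232, 177, 161, 176, 236, 238, 100, 147, 99, 67, 210,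
  63, 51, 47, 242, 199, 241, 239, 11, 80, 73, 187, 225, 186, 235, 196, 189, 141, 128, 143, 76, 78, 183,
  233, 185, 30, 216, 212, 218, 221, 214, 220, 157, 82, 156, 220, 120, 216, 204, 200, 152, 109, 151, 149,
  164, 233, 226, 97, 135, 96, 145, 133, 126, 78, 38, 80, 229, 231, 93, 143, 95, 210, 153, 122, 155, 158,
  124, 157, 67, 19, 66, 198, 60, 39, 44, 230, 196, 229, 206, 185, 187, 130, 96, 129, 38, 40, 226, 192,
  225, 19, 214, 171, 213, 207, 176, 209, 119, 161, 118, 232, 211, 213, 156, 125, 158, 64, 66, 171, 221,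
  173, 45, 240, 200, 242, 236, 202, 235, 145, 106, 144, 207, 212, 155, 121, 154, 164, 116, 100, 115, 109,
  102, 108, 45, 60, 47, 53, 239, 205, 238, 241, 198, 240, 150, 102, 152, 193, 186, 192, 129, 135, 131,
  134, 140, 133, 76]

theorem dlit_eq : ((List.finRange 12 ×ˢ List.finRange 12).filter fun p => p.1 ≠ p.2).map (fun p =>
    code (fun i => W p.1 i - W p.2 i)) = dlit := by decide +kernel

theorem tlit_eq : (P3 Wl).map code = tlit := by decide +kernel

theorem all_lit : ((List.range 243).all fun n => (Nat.beq n 0) || dlit.contains n || tlit.contains n) = true := by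
  decide +kernel

theorem cover {w : V} (h : w 0 = 0) : w = 0 ∨ (∃ i j : Fin 12, i ≠ j ∧ w = W i - W j) ∨ w ∈ P3 Wl := by
  have hlt : code w < 243 := by
    have b : ∀ i, (w i).val < 3 := fun i => ZMod.val_lt _
    have b1 := b 1
    have b2 := b 2
    have b3 := b 3
    have b4 := b 4
    have b5 := b 5
    unfold code
    rw [h, ZMod.val_zero]
    omega
  have h1 := List.all_eq_true.1 all_lit (code w) (List.mem_range.2 hlt)
  simp only [Bool.or_eq_true, List.contains_iff_mem] at h1
  rcases h1 with (h1 | h1) | h1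
  · left
    apply code_inj
    rw [Nat.eq_of_beq_eq_true h1]
    rfl
  · right
    left
    rw [← dlit_eq] at h1
    obtain ⟨p, hp, h2⟩ := List.mem_map.1 h1
    have h3 := (List.mem_filter.1 hp).2
    exact ⟨p.1, p.2, by simpa using h3, (code_inj h2).symm⟩
  · right
    right
    rw [← tlit_eq] at h1
    obtain ⟨w', hw', h2⟩ := List.mem_map.1 h1
    rw [← code_inj h2]
    exact hw'

/-- the weights with first coordinate zero -/
noncomputable def V0 : Finset V := Finset.univ.filter fun w => w 0 = 0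

theorem card_V0 : V0.card = 243 := by
  unfold V0
  decide +kernel

open Classical in
/-- the differences -/
noncomputable def Dw : Finset V := Finset.univ.image fun p : PW => W p.1.1 - W p.1.2

open Classical in
/-- the remaining weights -/
noncomputable def Tw : Finset V := (V0 \ Dw).erase 0

theorem mem_V0 {w : V} : w ∈ V0 ↔ w 0 = 0 := by
  unfold V0
  rw [Finset.mem_filter]
  exact ⟨fun h => h.2, fun h => ⟨Finset.mem_univ _, h⟩⟩

theorem sub_zero' (i j : Fin 12) : (W i - W j) 0 = 0 := by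
  show W i 0 - W j 0 = 0
  rw [W_zero, W_zero, sub_self]

theorem Dw_sub : Dw ⊆ V0 := by
  classical
  intro w hw
  unfold Dw at hw
  obtain ⟨p, -, rfl⟩ := Finset.mem_image.1 hw
  exact mem_V0.2 (sub_zero' _ _)

theorem zero_not : (0 : V) ∉ Dw := by
  classical
  intro hw
  unfold Dw at hw
  obtain ⟨p, -, h⟩ := Finset.mem_image.1 hw
  exact p.2 (W_injective (sub_eq_zero.1 h))

theorem mem_Tw {w : V} (h : w ∈ Tw) : w ∈ P3 Wl := by
  classical
  unfold Tw at h
  obtain ⟨h0, h1⟩ := Finset.mem_erase.1 h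
  obtain ⟨h2, h3⟩ := Finset.mem_sdiff.1 h1
  rcases cover (mem_V0.1 h2) with h4 | ⟨i, j, hij, h4⟩ | h4
  · exact absurd h4 h0
  · exfalso
    apply h3
    unfold Dw
    exact Finset.mem_image.2 ⟨⟨(i, j), hij⟩, Finset.mem_univ _, h4.symm⟩
  · exact h4

theorem sum_split (g : V → ℂ) : ∑ w ∈ V0, g w = g 0 + ∑ w ∈ Dw, g w + ∑ w ∈ Tw, g w := by
  classical
  have h1 : ∑ w ∈ V0 \ Dw, g w + ∑ w ∈ Dw, g w = ∑ w ∈ V0, g w := Finset.sum_sdiff Dw_sub
  have h2 : g 0 + ∑ w ∈ Tw, g w = ∑ w ∈ V0 \ Dw, g w := by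
    unfold Tw
    exact Finset.add_sum_erase (V0 \ Dw) g (Finset.mem_sdiff.2 ⟨mem_V0.2 rfl, zero_not⟩)
  rw [← h1, ← h2]
  ring

theorem sum_Dw (g : V → ℂ) : ∑ w ∈ Dw, g w = ∑ p : PW, g (W p.1.1 - W p.1.2) := by
  classical
  unfold Dw
  rw [Finset.sum_image]
  intro p _ q _ h
  exact Subtype.ext (diff_inj p.2 q.2 h)

theorem sum_D_lam (v : E) : ∑ w ∈ Dw, lam w v = Θ (f v) - 12 := by
  rw [sum_Dw]
  have h := congrFun Θ_f v
  rw [Function.comp_apply, Pi.add_apply, Pi.smul_apply, Finset.sum_apply, smul_eq_mul, mul_one] at h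
  rw [h]
  ring

/-! ### the values -/

/-- the vector of `e 2` -/
def v1 : E := Multiplicative.ofAdd (Pi.single 1 1)

theorem χ_v1 : χ (f v1) = -6 := by
  have h2 : χ (f v1) = ∑ i : Fin 12, zp (W i 1) := by
    have := congrFun χ_f v1
    rw [Finset.sum_apply] at this
    rw [Function.comp_apply] at this
    rw [this]
    exact Finset.sum_congr rfl fun i _ => lam_single _ _
  rw [h2]
  have e1 : ∀ i : Fin 12, zp (W i 1) = if W i 1 = 1 then ζ else ζ ^ 2 := by
    intro i
    have h4 : ∀ i : Fin 12, W i 1 = 1 ∨ W i 1 = 2 := by decide +kernel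
    rcases h4 i with h5 | h5
    · rw [if_pos h5, h5, zp_one]
    · rw [if_neg (by rw [h5]; decide), h5]
      unfold zp
      rfl
  rw [Finset.sum_congr rfl fun i _ => e1 i, Finset.sum_ite, Finset.sum_const, Finset.sum_const]
  have e2 : (Finset.univ.filter fun i : Fin 12 => W i 1 = 1).card = 6 := by decide +kernel
  have e3 : (Finset.univ.filter fun i : Fin 12 => ¬ W i 1 = 1).card = 6 := by decide +kernel
  rw [e2, e3]
  have := ζ_sum
  simp only [nsmul_eq_mul]
  push_cast
  linear_combination 6 * this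

theorem Θ_v1 : Θ (f v1) = 36 := by
  unfold Θ
  rw [χ_v1, map_neg, Complex.conj_ofNat]
  norm_num

theorem lam_v1 (w : V) : lam w v1 = zp (w 1) := lam_single _ _

theorem lam_one' (w : V) : lam w 1 = 1 := (lamH w).map_one

theorem sum_V0_v1 : ∑ w ∈ V0, lam w v1 = 0 := by
  have h1 : ∑ w ∈ V0, lam w v1 = ∑ w ∈ V0, ζ * lam w v1 := by
    refine Finset.sum_nbij' (fun w => w - Pi.single 1 1) (fun w => w + Pi.single 1 1) ?_ ?_ ?_ ?_ ?_
    · intro w hw
      rw [mem_V0] at hw ⊢
      show w 0 - (Pi.single 1 1 : V) 0 = 0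
      rw [hw, Pi.single_eq_of_ne (by decide), sub_zero]
    · intro w hw
      rw [mem_V0] at hw ⊢
      show w 0 + (Pi.single 1 1 : V) 0 = 0
      rw [hw, Pi.single_eq_of_ne (by decide), add_zero]
    · intro w _
      exact sub_add_cancel _ _
    · intro w _
      exact add_sub_cancel_right _ _
    · intro w _
      have h2 : w = (w - Pi.single 1 1) + Pi.single 1 1 := (sub_add_cancel _ _).symm
      conv_lhs => rw [h2]
      rw [lam_add, lam_v1 (Pi.single 1 1), Pi.single_eq_same, zp_one, mul_comm]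
  rw [← Finset.mul_sum] at h1
  have h2 : (1 - ζ) * ∑ w ∈ V0, lam w v1 = 0 := by
    rw [sub_mul, one_mul, ← h1, sub_self]
  have hne : (1 : ℂ) - ζ ≠ 0 := sub_ne_zero.2 (ζ_prim.ne_one (by norm_num)).symm
  exact (mul_eq_zero.1 h2).resolve_left hne

theorem simpleX : IsSimpleGroup X := by
  obtain ⟨g⟩ := isoX
  have : IsSimpleGroup Spor.Suz := Cfsg.Agent.S1694.result.1
  have : Nontrivial X := g.toEquiv.nontrivial
  exact IsSimpleGroup.isSimpleGroup_of_surjective (G := Spor.Suz) g.symm.toMonoidHom g.symm.surjective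

theorem finX : Finite X := Finite.of_surjective φ φ_surj

theorem val_e2 {ψ : X → ℂ} (hψ : IsIrrCharacter X ψ) (h110 : ψ 1 = 110) : ψ (φ (f v1)) = -25 := by
  classical
  have := finX
  have := simpleX
  have := Fintype.ofFinite X
  have hc : IsCharacter E (ψ ∘ φ.comp f) := isCharacter_comp _ (isIrr_isCharacter hψ)
  obtain ⟨m, hm1, hm2⟩ := exists_mult hc
  have hcl : ∀ g h : X, ψ (g * h * g⁻¹) = ψ h := fun g h => isIrr_isClassFunction hψ h g
  have h0 : ∀ w, m w ≠ 0 → w 0 = 0 := by
    intro w hw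
    let u : E := Multiplicative.ofAdd (Pi.single 0 1)
    have e1 : (fun v => (ψ ∘ φ.comp f) (v * u)) = ψ ∘ φ.comp f := by
      funext v
      show ψ (φ (f (v * u))) = ψ (φ (f v))
      rw [map_mul, map_mul, f_single, φ_s1, mul_one]
    have e2 : (fun v => (ψ ∘ φ.comp f) (v * u)) = ∑ w, (m w * zp (w 0) : ℂ) • lam w := by
      funext v
      rw [hm2, Finset.sum_apply, Finset.sum_apply]
      refine Finset.sum_congr rfl fun w _ => ?_
      rw [Pi.smul_apply, Pi.smul_apply, smul_eq_mul, smul_eq_mul, lam_mul, lam_single]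
      ring
    have e3 : classInner (∑ w, (m w * zp (w 0) : ℂ) • lam w) (lam w) = m w * zp (w 0) := by
      rw [classInner_sum_left, Finset.sum_eq_single w]
      · rw [classInner_smul_left, classInner_irr_self (isIrr_lam w), mul_one]
      · intro w' _ hw'
        rw [classInner_smul_left, classInner_irr_ne (isIrr_lam w') (isIrr_lam w) (fun h => hw' (lam_injective h)),
          mul_zero]
      · intro h
        exact absurd (Finset.mem_univ w) h
    rw [← e2, e1, hm1] at e3
    apply zp_injective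
    rw [zp_zero]
    have hne : (m w : ℂ) ≠ 0 := Nat.cast_ne_zero.2 hw
    exact (mul_left_cancel₀ hne (by rw [← e3]; ring)).symm
  have hinv : ∀ {w w' : V}, Mv f (lam w) (lam w') → m w' = m w := by
    intro w w' h
    have h1 := (h.comp φ).inner hcl
    rw [hm1, hm1] at h1
    exact_mod_cast h1
  have hD : ∀ w ∈ Dw, m w = m (W 0 - W 1) := by
    intro w hw
    unfold Dw at hw
    obtain ⟨p, -, rfl⟩ := Finset.mem_image.1 hw
    exact hinv (mvD_all (by decide) p.2)
  have hT : ∀ w ∈ Tw, m w = m w0 := fun w hw => (hinv (mv_base (mem_Tw hw))).symm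
  have hval : ∀ v, ψ (φ (f v)) = m 0 + m (W 0 - W 1) * (Θ (f v) - 12) +
      m w0 * (∑ w ∈ V0, lam w v - 1 - (Θ (f v) - 12)) := by
    intro v
    have e1 : ψ (φ (f v)) = ∑ w, (m w : ℂ) * lam w v := by
      have := congrFun hm2 v
      rw [Finset.sum_apply] at this
      exact this
    have e2 : ∑ w, (m w : ℂ) * lam w v = ∑ w ∈ V0, (m w : ℂ) * lam w v := by
      refine (Finset.sum_subset (Finset.subset_univ V0) fun w _ hw => ?_).symm
      by_cases h : m w = 0
      · rw [h, Nat.cast_zero, zero_mul]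
      · exact absurd (mem_V0.2 (h0 w h)) hw
    have e3 : lam 0 v = 1 := by rw [lam_zero]
    have e4 := sum_split (fun w => lam w v)
    rw [sum_D_lam, e3] at e4
    have e5 : ∑ w ∈ Tw, lam w v = ∑ w ∈ V0, lam w v - 1 - (Θ (f v) - 12) := by
      rw [e4]
      ring
    rw [e1, e2, sum_split, e3, Finset.sum_congr rfl fun w hw => by rw [hD w hw],
      Finset.sum_congr (s₁ := Tw) rfl fun w hw => by rw [hT w hw], ← Finset.mul_sum, ← Finset.mul_sum, sum_D_lam, e5,
      mul_one]
  have hone : m 0 + m (W 0 - W 1) * 132 + m w0 * 110 = 110 := by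
    have e1 := hval 1
    have e2 : ∑ w ∈ V0, lam w 1 = 243 := by
      rw [Finset.sum_congr rfl fun w _ => lam_one' w, Finset.sum_const, card_V0]
      norm_num
    rw [map_one, map_one, h110, Θ_one, e2] at e1
    have e3 : ((m 0 + m (W 0 - W 1) * 132 + m w0 * 110 : ℕ) : ℂ) = ((110 : ℕ) : ℂ) := by
      push_cast
      linear_combination -e1
    exact_mod_cast e3
  have hv := hval v1
  rw [Θ_v1, sum_V0_v1] at hv
  have hmD : m (W 0 - W 1) = 0 := by omega
  rcases (by omega : m 0 = 110 ∧ m w0 = 0 ∨ m 0 = 0 ∧ m w0 = 1) with ⟨ha, hb⟩ | ⟨ha, hb⟩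
  · exfalso
    have hconst : ∀ v, ψ (φ (f v)) = ψ 1 := by
      intro v
      rw [hval v, ha, hb, hmD, h110]
      push_cast
      ring
    obtain ⟨v0, hv0⟩ := f_ne
    obtain ⟨K, hK, hKm⟩ := Cfsg.Agent.Blocks.BlockKer.exists_kernel hψ
    have hKt : K = ⊤ := by
      refine (hK.eq_bot_or_eq_top).resolve_left fun h => hv0 ?_
      have h1 : φ (f v0) ∈ K := (hKm _).2 (hconst v0)
      rw [h] at h1
      exact Subgroup.mem_bot.1 h1
    have h2 := Cfsg.Agent.H633.Principal.eq_one_of_ker_top ⟨ψ, hψ⟩ fun g => (hKm g).1 (by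
      rw [hKt]
      exact Subgroup.mem_top g)
    have h3 : ψ 1 = 1 := congrFun h2 1
    rw [h110] at h3
    norm_num at h3
  · rw [hv, ha, hb, hmD]
    push_cast
    ring

/-! ### the element of order 7 -/

/-- a word of order 42 commuting with `e 1`, `e 2` -/
def wd : List ℕ := [4, 31, 34]

/-- its powers -/
def wp (n : ℕ) : List ℕ := (List.replicate n wd).flatten

theorem k_e1 : eqB LThreeCo1.RelQ.M (wd ++ [1]) (1 :: wd) = true := by delta eqB; rw [Cfsg.Agent.Co0Q.foldZ_eq]; decide +kernel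

theorem k_e2 : eqB LThreeCo1.RelQ.M (wd ++ [2]) (2 :: wd) = true := by delta eqB; rw [Cfsg.Agent.Co0Q.foldZ_eq]; decide +kernel

theorem k_42 : eqB LThreeCo1.RelQ.M (wp 42) [] = true := by delta eqB; rw [Cfsg.Agent.Co0Q.foldZ_eq]; decide +kernel

theorem k_6 : neB' LThreeCo1.RelQ.M (wp 6) [] = true := by delta neB'; rw [Cfsg.Agent.Co0Q.foldZ_eq]; decide +kernel

/-- the element of `C` -/
noncomputable def g0 : C := ⟨(wd.map LThreeCo1.RelQ.e).prod, word_mem k_e1⟩

theorem g0_pow (n : ℕ) : ((g0 ^ n : C) : Co0) = ((wp n).map LThreeCo1.RelQ.e).prod := by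
  induction n with
  | zero => simp only [wp, _root_.pow_zero, _root_.OneMemClass.coe_one, _root_.List.replicate_zero, _root_.List.flatten_nil, _root_.List.map_nil, _root_.List.prod_nil]
  | succ n ih =>
    have h : wp (n + 1) = wd ++ wp n := by
      unfold wp
      rw [List.replicate_succ, List.flatten_cons]
    rw [h, List.map_append, List.prod_append, ← ih, pow_succ']
    rfl

theorem g0_42 : g0 ^ 42 = 1 := Subtype.ext (by
  rw [g0_pow, eq_of_eqB LThreeCo1.RelQ.rep k_42]
  rfl)

theorem g0_6 : g0 ^ 6 ≠ 1 := by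
  intro h
  have h1 := ne_of_neB' LThreeCo1.RelQ.rep k_6
  rw [← g0_pow, h] at h1
  exact h1 rfl

theorem f_v1_val : ((f v1 : C) : Co0) = LThreeCo1.RelQ.e 2 := by
  show Ph a (Pi.single 1 1) = _
  unfold Ph
  simp only [Pi.single_eq_same, ZMod.val_one]
  have h : ∀ i : Fin 6, i ≠ 1 → ((Pi.single 1 1 : V) i).val = 0 := by
    intro i hi
    rw [Pi.single_eq_of_ne hi, ZMod.val_zero]
  rw [h 0 (by decide), h 2 (by decide), h 3 (by decide), h 4 (by decide), h 5 (by decide)]
  simp [a]
  rfl

theorem g0_comm : Commute (f v1) g0 := by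
  have h1 := eq_of_eqB LThreeCo1.RelQ.rep k_e2
  rw [List.map_append, List.prod_append, List.map_cons, List.prod_cons] at h1
  refine Subtype.ext ?_
  show (f v1 : Co0) * (wd.map LThreeCo1.RelQ.e).prod =
    (wd.map LThreeCo1.RelQ.e).prod * (f v1 : Co0)
  rw [f_v1_val]
  simpa only [_root_.List.map_cons, _root_.List.prod_cons, _root_.List.map_nil, _root_.List.prod_nil, _root_.mul_one] using h1.symm

theorem ker_six {g : C} (h : φ g = 1) : g ^ 6 = 1 := by
  obtain ⟨n, h1⟩ := ker_cases h
  have hc : Commute g (s1 ^ n) := (Commute.pow_right (s1_comm _).symm n)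
  have h2 : (g * s1 ^ n) ^ 6 = 1 := by
    rcases h1 with h1 | h1
    · rw [h1, one_pow]
    · rw [h1, show (6 : ℕ) = 2 * 3 from rfl, pow_mul, pow_two, ng_sq, one_pow]
  have h3 : (s1 ^ n) ^ 6 = 1 := by
    rw [← pow_mul, mul_comm, show (6 : ℕ) = 3 * 2 from rfl, mul_assoc, pow_mul, s1_cube, one_pow]
  rwa [hc.mul_pow, h3, mul_one] at h2

theorem exists_seven : ∃ y : X, orderOf y = 7 ∧ Commute (φ (f v1)) y := by
  have : Fact (Nat.Prime 7) := ⟨by norm_num⟩
  refine ⟨φ (g0 ^ 6), ?_, ?_⟩
  · have h7 : φ (g0 ^ 6) ^ 7 = 1 := by rw [← map_pow, ← pow_mul, g0_42, map_one]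
    refine orderOf_eq_prime h7 fun h => g0_6 ?_
    have h1 := ker_six h
    have h2 : (g0 ^ 6) ^ 7 = 1 := by rw [← pow_mul, g0_42]
    rw [pow_succ, h1, one_mul] at h2
    exact h2
  · exact (g0_comm.pow_right 6).map φ

theorem orderOf_z : orderOf (φ (f v1)) = 3 := by
  refine orderOf_eq_prime ?_ ?_
  · rw [← map_pow, ← map_pow]
    have h : v1 ^ 3 = 1 := by
      show Multiplicative.ofAdd (3 • (Pi.single 1 1 : V)) = 1
      have h1 : 3 • (Pi.single 1 1 : V) = 0 := by
        funext i
        revert i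
        decide +kernel
      rw [h1]
      rfl
    rw [h, map_one, map_one]
  · intro h
    have h1 : Θ (f v1) = 144 := by rw [← WX_φ, h, ← map_one φ, WX_φ, Θ_one]
    rw [Θ_v1] at h1
    norm_num at h1

end Cfsg.Agent.H859.S8.SuzE
end

-- part: H686/S8/SuzNo220
section
/-!
# The Suzuki group has no irreducible character of degree 220 (helper686)

The block at 7 of the characters of degree `± 3` modulo 7 contains seven characters; 143, 780, 5940, 15795 belong to it,
and there are no two degrees completing `143, 220, 780, 5940, 15795`.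
-/

set_option autoImplicit false

open Cfsg Subgroup

namespace Cfsg.Agent.H686.S8

open Cfsg.Agent.Characters.Core
open Cfsg.Agent.H653.Sieve
open Cfsg.Agent.H212.LD (exists_deg exists_block)

universe u

/-- the residues modulo 11 -/
def r11 (d : ℕ) : Bool := Nat.beq (d % 11) 0 || Nat.beq (d % 11) 1 || Nat.beq (d % 11) 10

theorem r11_of {d : ℕ} (h : d % 11 = 0 ∨ d % 11 = 1 ∨ d % 11 = 10) : r11 d = true := by
  rcases h with h | h | h <;> rw [r11, h] <;> rfl

/-- the check of the pair of degrees -/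
def fd (d : ℕ) : Bool :=
  !(r11 d) || (bif Nat.beq (d % 7) 3 then !(Nat.beq (448345497600 % (10998 + d)) 0) || !(r11 (10998 + d)) else
  bif Nat.beq (d % 7) 4 then !(Nat.beq (448345497600 % ((d - 10998) + (10998 - d))) 0) ||
    !(r11 ((d - 10998) + (10998 - d))) else true)

theorem chk : allDiv (448345497600 * 448345497600 + 1) fd [(13, 1), (11, 1), (7, 1), (5, 2), (3, 7), (2, 13)] 1 =
    true := by decide +kernel

theorem fd_of_dvd {d : ℕ} (hd : d ∣ 448345497600) : fd d = true := by
  have h := allDiv_spec (L := [(13, 1), (11, 1), (7, 1), (5, 2), (3, 7), (2, 13)]) (by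
    intro pa hpa
    simp only [List.mem_cons, List.not_mem_nil, or_false] at hpa
    rcases hpa with rfl | rfl | rfl | rfl | rfl | rfl <;> norm_num) chk d (by
      have : facProd [(13, 1), (11, 1), (7, 1), (5, 2), (3, 7), (2, 13)] = 448345497600 := by decide +kernel
      rw [this]
      exact hd) (by
      rw [one_mul]
      have := Nat.le_of_dvd (by norm_num) hd
      have := Nat.mul_le_mul this this
      omega)
  rwa [one_mul] at h

theorem no_pair {a b : ℕ} {s t k : ℤ} (ha : a ∣ 448345497600) (hb : b ∣ 448345497600) (ra : r11 a = true)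
    (rb : r11 b = true) (hs : s = 1 ∨ s = -1) (ht : t = 1 ∨ t = -1) (hk : (a : ℤ) = 3 * s + 7 * k)
    (h : s * a + t * b = -10998) : False := by
  have h1 := fd_of_dvd ha
  have hb0 : 448345497600 % b = 0 := Nat.mod_eq_zero_of_dvd hb
  unfold fd at h1
  rw [ra] at h1
  rcases hs with rfl | rfl
  · have h2 : a % 7 = 3 := by omega
    have h3 : b = 10998 + a := by rcases ht with rfl | rfl <;> (clear * - h; omega)
    rw [h2, ← h3, hb0, rb] at h1
    exact Bool.false_ne_true h1
  · have h2 : a % 7 = 4 := by omega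
    have h3 : b = (a - 10998) + (10998 - a) := by rcases ht with rfl | rfl <;> (clear * - h; omega)
    rw [h2, ← h3, hb0, rb] at h1
    exact Bool.false_ne_true h1

variable {X : Type u} [Group X] [Finite X]

theorem no220_irr (h : Spor.IsoSuz X) (α' : IrrCharacter X) (hα' : charDegree (α' : X → ℂ) = 220) : False := by
  classical
  obtain ⟨e⟩ := id h
  have hcard : Nat.card X = 448345497600 := by
    rw [Nat.card_congr e.toEquiv, H812.SuzSeven.card_Suz]
  obtain ⟨α, hα⟩ : ∃ α : IrrCharacter X, charDegree (α : X → ℂ) = 143 := by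
    obtain ⟨ψ, hψ, hψ1, -⟩ := H299.K4.SuzX.exists_143
    obtain ⟨e'⟩ := H299.K4.SuzX.isoX
    refine exists_deg e ⟨⟨ψ ∘ e'.symm.toMonoidHom, isIrr_comp e'.symm.toMonoidHom e'.symm.surjective hψ⟩, ?_⟩
    unfold charDegree
    show Nat.floor (ψ (e'.symm 1)).re = _
    rw [map_one, hψ1]
    norm_num
  obtain ⟨B, δ, hBc, hδ, hB, hsum⟩ := exists_block h
  obtain ⟨c3, h3⟩ := exists_deg e H289.Eight.SuzDeg.deg_780
  obtain ⟨c4, h4⟩ := exists_deg e H289.Eight.SuzDeg.deg_5940
  obtain ⟨c5, h5⟩ := exists_deg e H289.Eight.SuzDeg.deg_15795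
  have hd : ∀ {c c' : IrrCharacter X} {a b : ℕ}, charDegree (c : X → ℂ) = a → charDegree (c' : X → ℂ) = b → a ≠ b →
      c ≠ c' := by
    rintro c c' a b rfl rfl hab rfl
    exact hab rfl
  have mα := hB α (by rw [hα]; norm_num)
  have mα' := hB α' (by rw [hα']; norm_num)
  have m3 := hB c3 (by rw [h3]; norm_num)
  have m4 := hB c4 (by rw [h4]; norm_num)
  have m5 := hB c5 (by rw [h5]; norm_num)
  have n12 := hd hα hα' (by norm_num)
  have n13 := hd hα h3 (by norm_num)
  have n14 := hd hα h4 (by norm_num)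
  have n15 := hd hα h5 (by norm_num)
  have n23 := hd hα' h3 (by norm_num)
  have n24 := hd hα' h4 (by norm_num)
  have n25 := hd hα' h5 (by norm_num)
  have n34 := hd h3 h4 (by norm_num)
  have n35 := hd h3 h5 (by norm_num)
  have n45 := hd h4 h5 (by norm_num)
  -- the other two
  let T : Finset (IrrCharacter X) := {α, α', c3, c4, c5}
  have hT : T ⊆ B := by
    intro χ hχ
    simp only [T, Finset.mem_insert, Finset.mem_singleton] at hχ
    rcases hχ with rfl | rfl | rfl | rfl | rfl <;> assumption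
  have hTc : T.card = 5 := by
    simp only [T]
    rw [Finset.card_insert_of_notMem (by simp [n12, n13, n14, n15]), Finset.card_insert_of_notMem
      (by simp [n23, n24, n25]), Finset.card_insert_of_notMem (by simp [n34, n35]), Finset.card_insert_of_notMem
      (by simp [n45]), Finset.card_singleton]
  have hTs : ∑ χ ∈ T, δ χ * (charDegree (χ : X → ℂ) : ℤ) = δ α * 143 + (δ α' * 220 + (δ c3 * 780 + (δ c4 * 5940 +
      δ c5 * 15795))) := by
    simp only [T]
    rw [Finset.sum_insert (by simp [n12, n13, n14, n15]), Finset.sum_insert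
      (by simp [n23, n24, n25]), Finset.sum_insert (by simp [n34, n35]), Finset.sum_insert
      (by simp [n45]), Finset.sum_singleton, hα, hα', h3, h4, h5]
    norm_num
  have hsd : (B \ T).card = 2 := by
    rw [Finset.card_sdiff_of_subset hT, hBc, hTc]
  obtain ⟨a, b, hab, hABs⟩ := Finset.card_eq_two.1 hsd
  have hsplit := Finset.sum_sdiff hT (f := fun χ : IrrCharacter X => δ χ * (charDegree (χ : X → ℂ) : ℤ))
  rw [hsum, hTs, hABs, Finset.sum_pair hab] at hsplit
  have ma : a ∈ B := (Finset.mem_sdiff.1 (by rw [hABs]; simp : a ∈ B \ T)).1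
  have mb : b ∈ B := (Finset.mem_sdiff.1 (by rw [hABs]; simp : b ∈ B \ T)).1
  obtain ⟨sα, kα, eα⟩ := hδ α mα
  obtain ⟨sα', kα', eα'⟩ := hδ α' mα'
  obtain ⟨s3, k3, e3⟩ := hδ c3 m3
  obtain ⟨s4, k4, e4⟩ := hδ c4 m4
  obtain ⟨s5, k5, e5⟩ := hδ c5 m5
  obtain ⟨sa, ka, ea⟩ := hδ a ma
  obtain ⟨sb, kb, eb⟩ := hδ b mb
  rw [hα] at eα
  rw [hα'] at eα'
  rw [h3] at e3
  rw [h4] at e4
  rw [h5] at e5
  have t1 : δ α = 1 := by rcases sα with h | h <;> rw [h] at eα <;> push_cast at eα <;> omega
  have t2 : δ α' = 1 := by rcases sα' with h | h <;> rw [h] at eα' <;> push_cast at eα' <;> omega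
  have t3 : δ c3 = 1 := by rcases s3 with h | h <;> rw [h] at e3 <;> push_cast at e3 <;> omega
  have t4 : δ c4 = -1 := by rcases s4 with h | h <;> rw [h] at e4 <;> push_cast at e4 <;> omega
  have t5 : δ c5 = 1 := by rcases s5 with h | h <;> rw [h] at e5 <;> push_cast at e5 <;> omega
  rw [t1, t2, t3, t4, t5] at hsplit
  have hdvd : ∀ χ : IrrCharacter X, charDegree (χ : X → ℂ) ∣ 448345497600 := fun χ => by
    rw [← hcard]
    exact Blocks.Knorr.charDegree_dvd χ.2
  have hr : ∀ χ : IrrCharacter X, r11 (charDegree (χ : X → ℂ)) = true := fun χ =>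
    r11_of (H952.S8.Suz.degX h (d := charDegree (χ : X → ℂ)) ⟨χ, rfl⟩).2.2.2
  exact no_pair (hdvd a) (hdvd b) (hr a) (hr b) sa sb ea (by linarith only [hsplit])

end Cfsg.Agent.H686.S8
end

-- part: H365/S8/SuzSevenVal
section
/-!
# `Suz` : the values of a character of degree 110 on the elements of order 3 commuting with an element of order 7

`C(P) = P × K`, `K ≅ A₄`, `P` a Sylow 7-subgroup. With `n_θ` the multiplicity of `θ` in the restriction of `ψ` to `K`,
`n_θ ≡ 0` modulo 7 for the characters `θ` of `K` which are not conjugate to the character under `ψ`, and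
`∑ n_θ θ(1) = 110`, `∑ n_θ θ(z) = ψ (z)`. This excludes `ψ (z) = -25`.
-/

set_option autoImplicit false
set_option linter.unusedSectionVars false

open Cfsg Subgroup
open scoped ComplexConjugate

namespace Cfsg.Agent.H365.S8.SuzSevenVal

open Cfsg.Agent.Characters.Core
open Cfsg.Agent.SmallSimple.ThetaSetup Cfsg.Agent.SmallSimple.ThetaOrtho
open Cfsg.Agent.SmallSimple.ThetaCount Cfsg.Agent.SmallSimple.TheoremCCor

universe u

section a4

variable {K : Type u} [Group K] [Finite K]

theorem alt_cent : ∀ a : alternatingGroup (Fin 4), a ^ 3 = 1 → a ≠ 1 →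
    (Finset.univ.filter fun b : alternatingGroup (Fin 4) => b * a = a * b).card = 3 := by decide +kernel

theorem card_cent_a4 (g : K ≃* alternatingGroup (Fin 4)) {z : K} (hz : orderOf z = 3) :
    Nat.card (centralizer ({z} : Set K)) = 3 := by
  classical
  have h1 : (g z) ^ 3 = 1 := by rw [← map_pow, ← hz, pow_orderOf_eq_one, map_one]
  have h2 : g z ≠ 1 := by
    intro h
    have h3 : z = 1 := g.injective (by rw [h, map_one])
    rw [h3, orderOf_one] at hz
    omega
  have h3 := alt_cent (g z) h1 h2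
  rw [← h3, ← Fintype.card_coe, ← Nat.card_eq_fintype_card]
  refine Nat.card_congr ⟨fun b => ⟨g b.1, ?_⟩, fun b => ⟨g.symm b.1, ?_⟩, fun b => ?_, fun b => ?_⟩
  · have hb := b.2
    rw [mem_centralizer_singleton_iff] at hb
    simp only [Finset.mem_filter, Finset.mem_univ, true_and]
    rw [← map_mul, hb, map_mul]
  · have hb := b.2
    simp only [Finset.mem_filter, Finset.mem_univ, true_and] at hb
    rw [mem_centralizer_singleton_iff]
    apply g.injective
    rw [map_mul, map_mul, g.apply_symm_apply, hb]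
  · exact Subtype.ext (g.symm_apply_apply _)
  · exact Subtype.ext (g.apply_symm_apply _)

/-- The column of the elements of order 3. -/
theorem exists_table (g : K ≃* alternatingGroup (Fin 4)) {z : K} (hz : orderOf z = 3) :
    ∃ o a b θ : IrrCharacter K, (o : K → ℂ) = 1 ∧ (a : K → ℂ) 1 = 1 ∧ (b : K → ℂ) 1 = 1 ∧ (θ : K → ℂ) 1 = 3 ∧
      (∀ (M : Type) [AddCommMonoid M] [Fintype (IrrCharacter K)] (f : IrrCharacter K → M),
        ∑ χ, f χ = f o + f a + f b + f θ) ∧ (θ : K → ℂ) z = 0 ∧ (a : K → ℂ) z + (b : K → ℂ) z = -1 ∧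
      ((a : K → ℂ) z).im ≠ 0 ∧ a ≠ o ∧ b ≠ o := by
  classical
  have : Finite (IrrCharacter K) := finite_irr
  have := Fintype.ofFinite (IrrCharacter K)
  have := Fintype.ofFinite K
  have h4 := H212.LD.card_irr_a4 g
  rw [Nat.card_eq_fintype_card] at h4
  obtain ⟨θ, hθ3, hθ⟩ := H212.LD.exists_theta g
  have hcastK : ∀ θ' : IrrCharacter K, (θ' : K → ℂ) 1 = (charDegree (θ' : K → ℂ) : ℂ) := fun θ' =>
    Blocks.Knorr.charDegree_eq θ'.2
  let o : IrrCharacter K := ⟨1, isIrr_one⟩
  have ho1 : charDegree (o : K → ℂ) = 1 := by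
    show charDegree (1 : K → ℂ) = 1
    unfold charDegree
    simp
  have hoθ : o ≠ θ := by
    intro h
    rw [h, hθ3] at ho1
    omega
  have hc3 : (((Finset.univ : Finset (IrrCharacter K)).erase θ).erase o).card = 2 := by
    rw [Finset.card_erase_of_mem (Finset.mem_erase.2 ⟨hoθ, Finset.mem_univ _⟩),
      Finset.card_erase_of_mem (Finset.mem_univ _), Finset.card_univ, h4]
  obtain ⟨a, b, hab, hABs⟩ := Finset.card_eq_two.1 hc3
  have hsum : ∀ (M : Type) [AddCommMonoid M] [Fintype (IrrCharacter K)] (f : IrrCharacter K → M),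
        ∑ χ, f χ = f o + f a + f b + f θ := by
    intro M _ inst f
    have hi : inst = (inferInstanceAs (Fintype (IrrCharacter K))) := Subsingleton.elim _ _
    have h1 : (∑ χ : IrrCharacter K, f χ) = ∑ χ ∈ (Finset.univ : Finset (IrrCharacter K)), f χ := rfl
    rw [← Finset.add_sum_erase _ _ (Finset.mem_univ θ)]
    rw [← Finset.add_sum_erase _ _ (Finset.mem_erase.2 ⟨hoθ, Finset.mem_univ _⟩)]
    have h2 : (((Finset.univ : Finset (IrrCharacter K)).erase θ).erase o) = {a, b} := by
      rw [← hABs]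
      congr!
    rw [h2, Finset.sum_pair hab]
    abel
  have ma : a ∈ ((Finset.univ : Finset (IrrCharacter K)).erase θ).erase o := by rw [hABs]; simp
  have mb : b ∈ ((Finset.univ : Finset (IrrCharacter K)).erase θ).erase o := by rw [hABs]; simp
  rw [Finset.mem_erase, Finset.mem_erase] at ma mb
  have ha1 : (a : K → ℂ) 1 = 1 := by rw [hcastK, hθ a ma.2.1]; norm_num
  have hb1 : (b : K → ℂ) 1 = 1 := by rw [hcastK, hθ b mb.2.1]; norm_num
  have hθ1 : (θ : K → ℂ) 1 = 3 := by rw [hcastK, hθ3]; norm_num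
  -- norms
  have hnorm : ∀ c : IrrCharacter K, (c : K → ℂ) 1 = 1 → (c : K → ℂ) z * conj ((c : K → ℂ) z) = 1 := by
    intro c hc
    obtain ⟨l, hl⟩ := Characters.Linear.exists_hom_of_isIrrCharacter c.2 hc
    have h2 : (c : K → ℂ) z = (l z : ℂ) := by rw [hl]
    rw [h2, Complex.mul_conj, Complex.normSq_eq_norm_sq, Characters.Linear.norm_hom_apply]
    simp
  have hz1 : z ≠ 1 := by
    intro h
    rw [h, orderOf_one] at hz
    omega
  have hc1 := Cfsg.Agent.S0145.sum_irr_mul_conj z z
  rw [if_pos (IsConj.refl z), card_cent_a4 g hz, hsum, hnorm a ha1, hnorm b hb1] at hc1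
  have hoz : ∀ w, (o : K → ℂ) w = 1 := fun w => rfl
  have hθz : (θ : K → ℂ) z = 0 := by
    rw [hoz] at hc1
    have h2 : (θ : K → ℂ) z * conj ((θ : K → ℂ) z) = 0 := by
      rw [map_one] at hc1
      push_cast at hc1
      linear_combination hc1
    rw [Complex.mul_conj] at h2
    have h3 : Complex.normSq ((θ : K → ℂ) z) = 0 := by exact_mod_cast h2
    exact Complex.normSq_eq_zero.1 h3
  have hc2 := Cfsg.Agent.S0145.sum_irr_mul_conj z 1
  rw [if_neg (fun h => hz1 (isConj_one_right.1 h.symm)), hsum, ha1, hb1, hθz, hoz, hoz] at hc2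
  have hab1 : (a : K → ℂ) z + (b : K → ℂ) z = -1 := by
    rw [map_one] at hc2
    linear_combination hc2
  refine ⟨o, a, b, θ, rfl, ha1, hb1, hθ1, hsum, hθz, hab1, ?_, ma.1, mb.1⟩
  intro him
  have na := hnorm a ha1
  have nb := hnorm b hb1
  rw [Complex.mul_conj] at na nb
  have na' : Complex.normSq ((a : K → ℂ) z) = 1 := by exact_mod_cast na
  have nb' : Complex.normSq ((b : K → ℂ) z) = 1 := by exact_mod_cast nb
  rw [Complex.normSq_apply] at na' nb'
  have hre := congrArg Complex.re hab1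
  have him2 := congrArg Complex.im hab1
  rw [Complex.add_re] at hre
  rw [Complex.add_im] at him2
  simp only [_root_.Complex.neg_re, _root_.Complex.one_re, _root_.Complex.neg_im, _root_.Complex.one_im, _root_.neg_zero] at hre him2
  rw [him] at na' him2
  have him3 : ((b : K → ℂ) z).im = 0 := by linarith only [him2]
  rw [him3] at nb'
  have h5 : ((b : K → ℂ) z).re = -1 - ((a : K → ℂ) z).re := by linarith only [hre]
  rw [h5] at nb'
  nlinarith only [na', nb']

end a4

section comp

variable {S : Type u} [Group S] [Finite S]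

theorem isComp_equiv [h7 : Fact (Nat.Prime 7)] {P : Sylow 7 S} {K : Subgroup S} (hK : IsComp 7 (P : Subgroup S) K)
    (hP : Nat.card P = 7)
    (f : ↥(centralizer ((P : Subgroup S) : Set S)) ≃* Multiplicative (ZMod 7) × alternatingGroup (Fin 4)) :
    Nonempty (K ≃* alternatingGroup (Fin 4)) := by
  have hA : Nat.card (alternatingGroup (Fin 4)) = 12 := by
    rw [Nat.card_eq_fintype_card]
    decide +kernel
  have h1 := SmallSimple.ThetaOrtho.card_centralizer hK hP
  rw [Nat.card_congr f.toEquiv, Nat.card_prod, hA, Nat.card_congr Multiplicative.toAdd, Nat.card_zmod] at h1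
  have h2 : Nat.card K = 12 := by omega
  let g : K →* alternatingGroup (Fin 4) :=
    ((MonoidHom.snd _ _).comp f.toMonoidHom).comp (Subgroup.inclusion hK.le)
  have hg : Function.Injective g := by
    rw [injective_iff_map_eq_one]
    intro y hy
    have h3 : (f (Subgroup.inclusion hK.le y)).2 = 1 := hy
    have h4 : (f (Subgroup.inclusion hK.le y)) ^ 7 = 1 := by
      apply Prod.ext
      · have h5 := pow_card_eq_one' (x := (f (Subgroup.inclusion hK.le y)).1)
        rw [Nat.card_congr Multiplicative.toAdd, Nat.card_zmod] at h5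
        exact h5
      · rw [Prod.pow_snd, h3, one_pow]
        rfl
    have h5 : (Subgroup.inclusion hK.le y) ^ 7 = 1 := by
      apply f.injective
      rw [map_pow, h4, map_one]
    have h6 : (y : S) ^ 7 = 1 := by
      have := congrArg Subtype.val h5
      simpa only [_root_.SubmonoidClass.coe_pow, _root_.Subgroup.coe_inclusion, _root_.OneMemClass.coe_one] using this
    have h7' : ¬ 7 ∣ orderOf (y : S) := ((hK y).1 y.2).2
    have h8 : orderOf (y : S) ∣ 7 := orderOf_dvd_of_pow_eq_one h6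
    rcases (Nat.dvd_prime h7.out).1 h8 with h9 | h9
    · exact Subtype.ext (orderOf_eq_one_iff.1 h9)
    · rw [h9] at h7'
      exact absurd (dvd_refl 7) h7'
  have hbij : Function.Bijective g := by
    have hfin : Finite (alternatingGroup (Fin 4)) := inferInstance
    exact (Nat.bijective_iff_injective_and_card g).2 ⟨hg, by rw [h2, hA]⟩
  exact ⟨MulEquiv.ofBijective g hbij⟩

/-- A multiplicity at a character which `ψ` is not over. -/
theorem exists_mult [h7 : Fact (Nat.Prime 7)] {P : Sylow 7 S} {K : Subgroup S} (hK : IsComp 7 (P : Subgroup S) K)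
    (hP : Nat.card P = 7) (ψ : IrrCharacter S) (θ : IrrCharacter K) :
    ∃ n : ℕ, part (θ : K → ℂ) (ψ : S → ℂ) 1 = n ∧ (ψ ∉ Over P (θ : K → ℂ) → n % 7 = 0) := by
  have hch := isCharacter_part hK (isIrr_isCharacter ψ.2) θ.2
  obtain ⟨k, ρ, hρ⟩ := id hch
  obtain ⟨n, hn⟩ : ∃ n : ℕ, part (θ : K → ℂ) (ψ : S → ℂ) 1 = n := by
    have h1 := congrFun hρ (1 : P)
    rw [Representation.char_one ρ, OneMemClass.coe_one] at h1
    exact ⟨_, h1.symm⟩
  refine ⟨n, hn, fun h => ?_⟩
  have hz : ∀ x : P, x ≠ 1 → part (θ : K → ℂ) (ψ : S → ℂ) x = 0 := fun x hx => part_eq_zero h hx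
  obtain ⟨a, ha, m, hm, hma⟩ := H348.PPD.Part.int_of_const h7.out hP hch
    (fun x y hx hy => by rw [hz x hx, hz y hy])
  have hm' : part (θ : K → ℂ) (ψ : S → ℂ) 1 = m := hm
  obtain ⟨x0, hx0, hx01⟩ := exists_ne_one (P := (P : Subgroup S)) hP
  have hne : (⟨x0, hx0⟩ : P) ≠ 1 := fun h => hx01 (congrArg Subtype.val h)
  have ha0 : (a : ℂ) = 0 := by rw [← ha _ hne, hz _ hne]
  have ha0' : a = 0 := by exact_mod_cast ha0
  have hmn : m = n := by
    have : (m : ℂ) = n := by rw [← hm', hn]
    exact_mod_cast this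
  rw [ha0', hmn] at hma
  have h3 := hma
  unfold Int.ModEq at h3
  omega

end comp

/-- **The elements of order 3 commuting with an element of order 7.** -/
theorem val_ne {X : Type u} [Group X] [Finite X] (hX : Spor.IsoSuz X) {ψ : X → ℂ} (hψ : IsIrrCharacter X ψ)
    (h1 : ψ 1 = 110) {z y : X} (hy : orderOf y = 7) (hz : orderOf z = 3) (hc : Commute z y) : ψ z ≠ -25 := by
  classical
  intro hval
  have h7 : Fact (Nat.Prime 7) := ⟨by norm_num⟩
  have hcard : Nat.card X = 448345497600 := by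
    obtain ⟨e⟩ := hX
    rw [Nat.card_congr e.toEquiv, H812.SuzSeven.card_Suz]
  have hpg : IsPGroup 7 (zpowers y) := by
    apply IsPGroup.of_card (n := 1)
    rw [Nat.card_zpowers, hy, pow_one]
  obtain ⟨P, hyP⟩ := hpg.exists_le_sylow
  have hP : Nat.card P = 7 := by
    have := J2Type.SylowSeven.card_sylow P 1 64049356800 (by rw [hcard]; norm_num) (by norm_num)
    rw [this]; norm_num
  have hPy : (P : Subgroup X) = zpowers y := by
    symm
    apply Subgroup.eq_of_le_of_card_ge hyP
    rw [Nat.card_zpowers, hy]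
    exact hP.le
  obtain ⟨⟨f⟩, -⟩ := H812.SuzSeven.main hX P
  obtain ⟨K, hK⟩ := exists_isComp P hP
  obtain ⟨g⟩ := isComp_equiv hK hP f
  have hzK : z ∈ K := by
    rw [hK]
    refine ⟨?_, by rw [hz]; norm_num⟩
    rw [mem_centralizer_iff]
    intro x hx
    have hx' : x ∈ zpowers y := by rw [← hPy]; exact hx
    obtain ⟨k, rfl⟩ := mem_zpowers_iff.1 hx'
    exact (hc.symm.zpow_left k).eq
  have hz' : orderOf (⟨z, hzK⟩ : K) = 3 := by rw [← Subgroup.orderOf_coe, hz]
  obtain ⟨o, a, b, θ, ho, ha1, hb1, hθ1, hsum, hθz, hab, him, hao, hbo⟩ := exists_table g hz'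
  have : Finite (IrrCharacter K) := finite_irr
  have := Fintype.ofFinite (IrrCharacter K)
  let χ : IrrCharacter X := ⟨ψ, hψ⟩
  have hχ : (χ : X → ℂ) = ψ := rfl
  obtain ⟨no, hno, mo⟩ := exists_mult hK hP χ o
  obtain ⟨na, hna, ma⟩ := exists_mult hK hP χ a
  obtain ⟨nb, hnb, mb⟩ := exists_mult hK hP χ b
  obtain ⟨nt, hnt, mt⟩ := exists_mult hK hP χ θ
  rw [hχ] at hno hna hnb hnt
  have hdeg : ¬ 7 ∣ charDegree (χ : X → ℂ) := by
    have h2 : charDegree (χ : X → ℂ) = 110 := by
      unfold charDegree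
      rw [hχ, h1]
      norm_num
    rw [h2]
    norm_num
  obtain ⟨θ', hθ'⟩ := H348.PPD.Part.exists_over hK hP hdeg
  have e1 := sum_part (isIrr_isClassFunction hψ) (x := (1 : X)) (K := K) (by intro y _; rw [one_mul, mul_one]) 1
  rw [hsum, hno, hna, hnb, hnt, ho, ha1, hb1, hθ1, Subgroup.coe_one, one_mul, h1] at e1
  have e2 := sum_part (isIrr_isClassFunction hψ) (x := (1 : X)) (K := K) (by intro y _; rw [one_mul, mul_one])
    ⟨z, hzK⟩
  rw [hsum, hno, hna, hnb, hnt, ho, hθz, one_mul, hval] at e2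
  have E1 : no + na + nb + 3 * nt = 110 := by
    have h2 : ((no + na + nb + 3 * nt : ℕ) : ℂ) = ((110 : ℕ) : ℂ) := by
      push_cast
      rw [Pi.one_apply] at e1
      linear_combination -e1
    exact_mod_cast h2
  have hab2 : (b : K → ℂ) ⟨z, hzK⟩ = -1 - (a : K → ℂ) ⟨z, hzK⟩ := by linear_combination hab
  rw [hab2, Pi.one_apply] at e2
  have e3 : (((na : ℤ) - nb : ℤ) : ℂ) * (a : K → ℂ) ⟨z, hzK⟩ = ((nb - no - 25 : ℤ) : ℂ) := by
    push_cast
    linear_combination -e2
  have E2 : (na : ℤ) - nb = 0 := by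
    have h2 := congrArg Complex.im e3
    rw [Complex.mul_im, Complex.intCast_re, Complex.intCast_im, Complex.intCast_im, zero_mul, add_zero] at h2
    rcases mul_eq_zero.1 h2 with h3 | h3
    · exact_mod_cast h3
    · exact absurd h3 him
  rw [E2] at e3
  have E3 : ((nb : ℤ) - no - 25) = 0 := by
    rw [Int.cast_zero, zero_mul] at e3
    exact_mod_cast e3.symm
  -- the disjointness
  have hdis : ∀ θ₁ : IrrCharacter K, (∀ n ∈ normalizer ((P : Subgroup X) : Set X),
      tw (θ' : K → ℂ) n ≠ θ₁) → χ ∉ Over P (θ₁ : K → ℂ) := by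
    intro θ₁ h3 h4
    exact Set.disjoint_left.1 ((sharp hK hP θ').2 θ₁ h3) hθ' h4
  have hdeg1 : ∀ θ₁ : IrrCharacter K, (θ' : K → ℂ) 1 ≠ (θ₁ : K → ℂ) 1 → χ ∉ Over P (θ₁ : K → ℂ) := by
    intro θ₁ hne
    apply hdis
    intro n hn h3
    apply hne
    rw [← h3, tw_apply hK _ hn]
    have h4 : ∀ w : K, (w : X) = 1 → (θ' : K → ℂ) 1 = (θ' : K → ℂ) w := by
      intro w hw
      rw [show w = 1 from Subtype.ext hw]
    apply h4
    simp
  have hone : ∀ θ₁ : IrrCharacter K, ((θ' : K → ℂ) = 1 ∨ (θ₁ : K → ℂ) = 1) → θ' ≠ θ₁ → χ ∉ Over P (θ₁ : K → ℂ) := by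
    intro θ₁ h3 hne
    apply hdis
    intro n hn h4
    apply hne
    rcases h3 with h3 | h3
    · rw [h3, tw_one_char hK hn] at h4
      exact Subtype.ext (h3.trans h4)
    · apply Subtype.ext
      have h2 : tw (tw (θ' : K → ℂ) n) n⁻¹ = θ' := by
        rw [← tw_mul hK _ hn (inv_mem hn), mul_inv_cancel, tw_one]
      rw [← h2, h4, h3]
      exact tw_one_char hK (inv_mem hn)
  have hall : θ' = o ∨ θ' = a ∨ θ' = b ∨ θ' = θ := by
    by_contra hcon
    push Not at hcon
    have h3 := hsum ℕ (fun c => if c = θ' then 1 else 0)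
    rw [Finset.sum_ite_eq' Finset.univ θ', if_pos (Finset.mem_univ _), if_neg (Ne.symm hcon.1),
      if_neg (Ne.symm hcon.2.1), if_neg (Ne.symm hcon.2.2.1), if_neg (Ne.symm hcon.2.2.2)] at h3
    omega
  rcases hall with rfl | rfl | rfl | rfl
  · have c1 := ma (hone a (Or.inl ho) hao.symm)
    have c2 := mb (hone b (Or.inl ho) hbo.symm)
    have c3 := mt (hdeg1 θ (by rw [ho, hθ1]; norm_num))
    omega
  · have c1 := mo (hone o (Or.inr ho) hao)
    have c3 := mt (hdeg1 θ (by rw [ha1, hθ1]; norm_num))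
    omega
  · have c1 := mo (hone o (Or.inr ho) hbo)
    have c3 := mt (hdeg1 θ (by rw [hb1, hθ1]; norm_num))
    omega
  · have c1 := mo (hdeg1 o (by rw [ho, hθ1]; norm_num))
    have c2 := ma (hdeg1 a (by rw [ha1, hθ1]; norm_num))
    omega

end Cfsg.Agent.H365.S8.SuzSevenVal
end

-- part: H759/S8/SuzThree
section
/-!
# S4908, the row `Suz`, COVER for the prime 3 (helper759)

`cover` : a perfect central extension of `Suz` by a group of order 3 has the faithful degrees 66 and 78; `k(Suz) ≤ 74` gives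
`i ≤ 2`; `i = 0, 1`: degree 78, `i = 2`: degree 66.
-/

set_option autoImplicit false
set_option maxRecDepth 100000

namespace Cfsg.Agent.H759.S8.SuzThree

open Cfsg Cfsg.Agent.H704.S8

universe u v

theorem not_mem {X : Type v} [Group X] (hX : Spor.IsoSuz X) {m : ℕ} (h : (m ≠ 1 ∧ m < 110) ∨
    (m % 13 ≠ 0 ∧ m % 13 ≠ 1 ∧ m % 13 ≠ 6 ∧ m % 13 ≠ 7 ∧ m % 13 ≠ 12) ∨
    (m % 11 ≠ 0 ∧ m % 11 ≠ 1 ∧ m % 11 ≠ 10)) : m ∉ charDegrees X := by
  intro hm
  obtain ⟨-, h1, h2, h3⟩ := H952.S8.Suz.degX hX hm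
  (clear * - h h1 h2 h3; solve | lia | omega)

/-- **COVER, the prime 3** -/
theorem cover {X : Type v} [Group X] [Finite X] (hX : Spor.IsoSuz X) (D : Set ℕ) (hD : Deg 2 X D) :
    H529.S8.CoverAt.{u} 3 2 D X := by
  have hdeg : ∀ e ∈ D, e ∈ charDegrees X ∨ ∃ n ∈ charDegrees X, n ≠ 1 ∧ e = 2 * n := by
    have hs : IsSimpleGroup Spor.Suz := Cfsg.Agent.S1694.result.1
    obtain ⟨eX⟩ := hX
    have hsX : IsSimpleGroup X := by
      have : Nontrivial X := eX.toEquiv.nontrivial
      exact IsSimpleGroup.isSimpleGroup_of_surjective (G := Spor.Suz) eX.symm.toMonoidHom eX.symm.surjective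
    refine (H242.S8.deg_two' hsX ?_ (H952.S8.Suz.index_le ⟨eX⟩) hD).2
    intro hc
    have hc' : ∀ a b : X, a * b = b * a := fun a b => hc.is_comm.comm a b
    let _ : CommGroup X := { (inferInstance : Group X) with mul_comm := hc' }
    have h1 : (Nat.card X).Prime := IsSimpleGroup.prime_card
    rw [Nat.card_congr eX.toEquiv, Cfsg.Agent.S1694.result.2] at h1
    norm_num at h1
  intro N _ _ V _ hV hc hp hN i hi
  have hk := SuzK.k_suz' hX
  have hi2 : i ≤ 2 := by
    by_contra hcon
    have h1 : 3 ^ (2 * 3) ≤ 3 ^ (2 * i) := Nat.pow_le_pow_right (by norm_num) (by omega)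
    norm_num at h1
    omega
  obtain ⟨⟨α, hα, hαV, hα1⟩, ⟨β, hβ, hβV, hβ1⟩⟩ := SuzSq.exists_sq hX V hV hc hp hN
  have key : ∀ m : ℕ, m ∉ charDegrees X → (∀ n, m = 2 * n → n ∉ charDegrees X) → m ∉ D := by
    intro m h1 h2 hm
    rcases hdeg m hm with h | ⟨n, hn, -, h⟩
    · exact h1 h
    · exact h2 n h hn
  interval_cases i
  · refine ⟨α, 78, hα, hαV, hα1, key _ (not_mem hX (by decide)) fun n hn => not_mem hX (by omega), Or.inl ?_⟩
    exact key _ (not_mem hX (by decide)) fun n hn => not_mem hX (by omega)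
  · refine ⟨α, 78, hα, hαV, hα1, key _ (not_mem hX (by decide)) fun n hn => not_mem hX (by omega), Or.inl ?_⟩
    exact key _ (not_mem hX (by decide)) fun n hn => not_mem hX (by omega)
  · refine ⟨β, 66, hβ, hβV, hβ1, key _ (not_mem hX (by decide)) fun n hn => not_mem hX (by omega), Or.inl ?_⟩
    exact key _ (not_mem hX (by decide)) fun n hn => not_mem hX (by omega)

end Cfsg.Agent.H759.S8.SuzThree
end

-- part: H859/S8/SuzTwo
section
/-!
# S4908, the row `Suz`, COVER for the prime 2 (helper859)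

`cover` : a perfect central extension of `Suz` by a group of order 2 has a faithful character of degree 110 or 220
(constituents of the exterior cube of the character of degree 12 of `6.Suz`); `k(Suz) ≤ 74` gives `i ≤ 3`; `55 * 2 ^ j` is
not a degree of `Suz` for `j ≤ 6` (`not_mem`, `no_110`, `no220`).
-/

set_option autoImplicit false
set_option maxRecDepth 100000

namespace Cfsg.Agent.H859.S8.SuzTwo

open Cfsg Cfsg.Agent.Characters.Core Cfsg.Agent.H704.S8

universe u v

/-- 110 is not a degree -/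
theorem no_110 {X : Type v} [Group X] (hX : Spor.IsoSuz X) : 110 ∉ charDegrees X := by
  intro hm
  obtain ⟨e⟩ := hX
  obtain ⟨e0⟩ := Cfsg.Agent.H299.K4.SuzX.isoX
  have h1 := H664.Eight.charDegrees_subset (e.trans e0.symm).symm hm
  have := SuzE.finX
  obtain ⟨ψ, h⟩ := h1
  obtain ⟨y, hy, hc⟩ := SuzE.exists_seven
  have hψ1 : (ψ : Cfsg.Agent.H299.K4.SuzX.X → ℂ) 1 = 110 := by
    rw [Blocks.Knorr.charDegree_eq ψ.2, h]
    norm_num
  exact H365.S8.SuzSevenVal.val_ne Cfsg.Agent.H299.K4.SuzX.isoX ψ.2 hψ1 hy SuzE.orderOf_z hc (SuzE.val_e2 ψ.2 hψ1)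

/-- **COVER, the prime 2** -/
theorem cover {X : Type v} [Group X] [Finite X] (hX : Spor.IsoSuz X) (D : Set ℕ) (hD : Deg 2 X D) :
    H529.S8.CoverAt.{u} 2 2 D X := by
  have hdeg : ∀ e ∈ D, e ∈ charDegrees X ∨ ∃ n ∈ charDegrees X, n ≠ 1 ∧ e = 2 * n := by
    have hs : IsSimpleGroup Spor.Suz := Cfsg.Agent.S1694.result.1
    obtain ⟨eX⟩ := hX
    have hsX : IsSimpleGroup X := by
      have : Nontrivial X := eX.toEquiv.nontrivial
      exact IsSimpleGroup.isSimpleGroup_of_surjective (G := Spor.Suz) eX.symm.toMonoidHom eX.symm.surjective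
    refine (H242.S8.deg_two' hsX ?_ (H952.S8.Suz.index_le ⟨eX⟩) hD).2
    intro hc
    have hc' : ∀ a b : X, a * b = b * a := fun a b => hc.is_comm.comm a b
    let _ : CommGroup X := { (inferInstance : Group X) with mul_comm := hc' }
    have h1 : (Nat.card X).Prime := IsSimpleGroup.prime_card
    rw [Nat.card_congr eX.toEquiv, Cfsg.Agent.S1694.result.2] at h1
    norm_num at h1
  intro N _ _ V _ hV hc hp hN i hi
  have hk := H759.S8.SuzK.k_suz' hX
  have hi3 : i ≤ 3 := by
    by_contra hcon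
    have h1 : 2 ^ (2 * 4) ≤ 2 ^ (2 * i) := Nat.pow_le_pow_right (by norm_num) (by omega)
    norm_num at h1
    omega
  obtain ⟨α, hα, hαV, hα1⟩ := SuzDbl.exists_tri hX V hV hc hp hN
  have key : ∀ m : ℕ, m ∉ charDegrees X → (∀ n, m = 2 * n → n ∉ charDegrees X) → m ∉ D := by
    intro m h1 h2 hm
    rcases hdeg m hm with h | ⟨n, hn, -, h⟩
    · exact h1 h
    · exact h2 n h hn
  have h55 : 55 ∉ charDegrees X := H759.S8.SuzThree.not_mem hX (by decide)
  have h110 : 110 ∉ charDegrees X := no_110 hX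
  have h220 : 220 ∉ charDegrees X := by
    rintro ⟨ψ, h⟩
    exact H686.S8.no220_irr hX ψ h
  have h440 : 440 ∉ charDegrees X := H759.S8.SuzThree.not_mem hX (by decide)
  have h880 : 880 ∉ charDegrees X := H759.S8.SuzThree.not_mem hX (by decide)
  have h1760 : 1760 ∉ charDegrees X := H759.S8.SuzThree.not_mem hX (by decide)
  have h3520 : 3520 ∉ charDegrees X := H759.S8.SuzThree.not_mem hX (by decide)
  have two : ∀ {m k : ℕ}, m = 2 * k → m ∉ charDegrees X → k ∉ charDegrees X → m ∉ D := by
    intro m k hmk hm hk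
    refine key m hm fun n hn => ?_
    have : n = k := by omega
    rwa [this]
  have d110 : 110 ∉ D := two (k := 55) (by norm_num) h110 h55
  have d220 : 220 ∉ D := two (k := 110) (by norm_num) h220 h110
  have d440 : 440 ∉ D := two (k := 220) (by norm_num) h440 h220
  have d880 : 880 ∉ D := two (k := 440) (by norm_num) h880 h440
  have d1760 : 1760 ∉ D := two (k := 880) (by norm_num) h1760 h880
  have d3520 : 3520 ∉ D := two (k := 1760) (by norm_num) h3520 h1760
  rcases hα1 with hα1 | hα1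
  · refine ⟨α, 110, hα, hαV, by rw [hα1]; norm_num, ?_⟩
    interval_cases i
    · exact ⟨d110, Or.inl d220⟩
    · exact ⟨d220, Or.inl d440⟩
    · exact ⟨d440, Or.inl d880⟩
    · exact ⟨d880, Or.inl d1760⟩
  · refine ⟨α, 220, hα, hαV, by rw [hα1]; norm_num, ?_⟩
    interval_cases i
    · exact ⟨d220, Or.inl d440⟩
    · exact ⟨d440, Or.inl d880⟩
    · exact ⟨d880, Or.inl d1760⟩
    · exact ⟨d1760, Or.inl d3520⟩

end Cfsg.Agent.H859.S8.SuzTwo
end

private theorem dce_74cd00523c6e : _root_.True := by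
  try have : _root_.True := by simp only [_root_.Cfsg.Agent.H859.S8.SuzTri.E2.eq_2]
  try have : _root_.True := by simp only [_root_.Cfsg.Agent.H859.S8.SuzE.wp.eq_1]
  try have : _root_.True := by simp only [_root_.Cfsg.Agent.H859.S8.SuzTri.P3.eq_1]
  try have : _root_.True := by simp only [_root_.Cfsg.Agent.H859.S8.SuzTri.E3.eq_def]
  try have : _root_.True := by simp only [_root_.Cfsg.Agent.H859.S8.SuzTri.E3.eq_2]
  try have : _root_.True := by simp only [_root_.Cfsg.Agent.H859.S8.SuzTri.P3.eq_2]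
  try have : _root_.True := by simp only [_root_.Cfsg.Agent.H859.S8.SuzTri.P2.eq_1]
  try have : _root_.True := by simp only [_root_.Cfsg.Agent.H859.S8.SuzTri.P2.eq_2]
  try have : _root_.True := by simp only [_root_.Cfsg.Agent.H859.S8.SuzTri.E2.eq_def]
  try have : _root_.True := by simp only [_root_.Cfsg.Agent.H859.S8.SuzTri.E2.eq_1]
  try have : _root_.True := by simp only [_root_.Cfsg.Agent.H859.S8.SuzTri.P2.eq_def]
  try have : _root_.True := by simp only [_root_.Cfsg.Agent.H859.S8.SuzTri.E3.eq_1]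
  try have : _root_.True := by simp only [_root_.Cfsg.Agent.H859.S8.SuzTri.P3.eq_def]
  try have : _root_.True := by simp only [_root_.Cfsg.Agent.H859.S8.SuzTri.Wl.eq_1]
  try have : _root_.True := by simp only [_root_.Cfsg.Agent.H686.S8.r11.eq_1]
  exact _root_.True.intro
end

-- part: H612/S8/Co2Solv
section
prune_inst 0xe01042607062100000000002600062604200009000030001810008020c89482089002620b280100a1040028410350008111000400208000020000000411d0481006ac00053a5000020000081a887490c00000000000000000000000000000000204010000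
set_option linter.all false
open scoped Cfsg.Agent.FastGrp

/-!
# S4908, SOLV for the second Conway group (helper612)

Minimal degree 23 (`H612.CoT.MinDeg`), known degree 275, residues modulo 7, 11, 23. The degree 264 is excluded by the
restriction to `M23`: it is 23-exceptional, and `M23` has no 23-exceptional character of degree at most 264.
-/

set_option autoImplicit false

namespace Cfsg.Agent.H612.S8.Co2

open Cfsg Subgroup Cfsg.Agent.Characters.Core
open Cfsg.Agent.H653.Sieve Cfsg.Agent.H651.Two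
open Cfsg.Agent.H704.S8

universe u v w

section Csum

variable {A : Type v} [Group A] [Finite A] {B : Type w} [Group B] [Finite B]

theorem csum_map (f : A →* B) (hf : Function.Injective f) (P : Subgroup A) (φ : B → ℂ) :
    csum (P.map f) φ = csum P (fun a => φ (f a)) := by
  have := Fintype.ofFinite P
  have := Fintype.ofFinite (P.map f)
  rw [csum_eq, csum_eq, map_one]
  congr 1
  symm
  refine Fintype.sum_equiv (P.equivMapOfInjective f hf).toEquiv _ _ fun x => ?_
  rfl

theorem csum_sum {ι : Type*} (s : Finset ι) (m : ι → ℕ) (F : ι → A → ℂ) (P : Subgroup A) :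
    csum P (∑ i ∈ s, m i • F i) = ∑ i ∈ s, (m i : ℂ) * csum P (F i) := by
  have := Fintype.ofFinite P
  simp only [csum_eq, Finset.sum_apply, Pi.smul_apply]
  simp only [nsmul_eq_mul, mul_sub, Finset.sum_sub_distrib, Finset.mul_sum]
  rw [Finset.sum_comm]

end Csum

def c23 : CD := ⟨23, 1, 11, 2, [(0, 0), (1, 2), (11, -1), (12, 1), (22, -2)], 2, true⟩

def c11 : CD := ⟨11, 1, 10, 1, [(0, 0), (1, 1), (10, -1)], 0, false⟩

def c7 : CD := ⟨7, 2, 3, 2, [(0, 0), (1, 2), (3, -1), (4, 1), (6, -2)], 0, false⟩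

theorem ok23 : c23.ok 10200960 = true := by decide +kernel

theorem ok7 : c7.ok 10200960 = true := by decide +kernel

theorem ok23' : c23.ok 42305421312000 = true := by decide +kernel

theorem ok11' : c11.ok 42305421312000 = true := by decide +kernel

instance simple_m23 : IsSimpleGroup Spor.M23 := H715.Fpr.MathData.simple23

theorem isM23 : Cfsg.IsM23 Spor.M23 := ⟨simple_m23, Cfsg.Agent.SporadicA.MathieuRecog.card_M23⟩

instance simple_co2 : IsSimpleGroup Spor.Co2 := Cfsg.Agent.Schreier.CoTwoStab.isSimpleGroup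

theorem card_m23 : Nat.card Spor.M23 = 10200960 := Cfsg.Agent.SporadicA.MathieuRecog.card_M23

theorem card_co2 : Nat.card Spor.Co2 = 42305421312000 := H345.RecCo.card_co2

theorem finite_m23 : Finite Spor.M23 := Nat.finite_of_card_ne_zero (by rw [card_m23]; norm_num)

theorem finite_co2 : Finite Spor.Co2 := Nat.finite_of_card_ne_zero (by rw [card_co2]; norm_num)

theorem nonab_m23 : ¬ IsMulCommutative Spor.M23 := fun h =>
  H715.Fpr.MathData.na23 fun a b => h.is_comm.comm a b

theorem nonab_co2 : ¬ IsMulCommutative Spor.Co2 := by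
  have : Finite (IrrCharacter Spor.Co2) := have := finite_co2; finite_irr
  have := Fintype.ofFinite (IrrCharacter Spor.Co2)
  exact H217.EP.Co2.nonab

theorem cent_zpowers {G : Type*} [Group G] (x : G) :
    centralizer ((zpowers x : Subgroup G) : Set G) = centralizer ({x} : Set G) := by
  ext y
  simp only [mem_centralizer_iff, SetLike.mem_coe, Set.mem_singleton_iff, forall_eq]
  refine ⟨fun h => h x (mem_zpowers x), fun h z hz => ?_⟩
  obtain ⟨n, rfl⟩ := mem_zpowers_iff.1 hz
  exact (Commute.zpow_left h n)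

theorem cent23 {x : Spor.M23} (hx : orderOf x = 23) : Nat.card (centralizer ({x} : Set Spor.M23)) = 23 * 1 := by
  rw [← cent_zpowers]
  exact (H715.Fpr.MathData.cn23_23 (R := zpowers x) (by rw [Nat.card_zpowers, hx])).1

theorem cent7 {x : Spor.M23} (hx : orderOf x = 7) : Nat.card (centralizer ({x} : Set Spor.M23)) = 7 * 2 := by
  rw [← cent_zpowers]
  exact (H715.Fpr.MathData.cn23_7 (R := zpowers x) (by rw [Nat.card_zpowers, hx])).1

theorem exists_ord {G : Type*} [Group G] {n p : ℕ} (hn : Nat.card G = n) (hn0 : n ≠ 0) (hp : p.Prime) (hd : p ∣ n) :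
    ∃ x : G, orderOf x = p := by
  have : Finite G := Nat.finite_of_card_ne_zero (by rw [hn]; exact hn0)
  have := Fact.mk hp
  exact exists_prime_orderOf_dvd_card' p (by rw [hn]; exact hd)

/-- **264 is not a degree of `M23`** -/
theorem m23_ne (ψ : IrrCharacter Spor.M23) : charDegree (ψ : Spor.M23 → ℂ) ≠ 264 := by
  intro h
  have := finite_m23
  obtain ⟨x, hx⟩ := exists_ord card_m23 (p := 7) (by norm_num) (by norm_num) (by norm_num)
  have h1 := H511.Ore.res_of_has nonab_m23 card_m23 (c := c7) ⟨by norm_num [c7], x, hx, cent7 hx⟩ ok7 ψ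
  rw [h] at h1
  revert h1
  decide

theorem m23_deg (ψ : IrrCharacter Spor.M23) (h : charDegree (ψ : Spor.M23 → ℂ) ≤ 264) :
    charDegree (ψ : Spor.M23 → ℂ) % 23 ≠ 11 ∧ charDegree (ψ : Spor.M23 → ℂ) % 23 ≠ 12 := by
  have := finite_m23
  have h1 := H42.S8.M23.degs isM23 (n := charDegree (ψ : Spor.M23 → ℂ)) ⟨ψ, rfl⟩
  have h2 := m23_ne ψ
  generalize charDegree (ψ : Spor.M23 → ℂ) = d at h h1 h2
  simp only [H42.S8.M23.L, List.mem_cons, List.not_mem_nil, or_false] at h1
  omega

/-- **264 is not a degree of `Co2`** -/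
theorem ne_264 (χ : IrrCharacter Spor.Co2) : charDegree (χ : Spor.Co2 → ℂ) ≠ 264 := by
  classical
  intro h264
  have := finite_m23
  have := finite_co2
  have : Fact (Nat.Prime 23) := ⟨by norm_num⟩
  have : Finite (IrrCharacter Spor.M23) := finite_irr
  have : Finite (IrrCharacter Spor.Co2) := finite_irr
  have := Fintype.ofFinite (IrrCharacter Spor.M23)
  have := Fintype.ofFinite (IrrCharacter Spor.Co2)
  obtain ⟨x, hx⟩ := exists_ord card_m23 (p := 23) (by norm_num) (by norm_num) (by norm_num)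
  obtain ⟨y, hy⟩ := exists_ord card_co2 (p := 23) (by norm_num) (by norm_num) (by norm_num)
  obtain ⟨P, W, hP, -, hW, hWok⟩ := exists_col nonab_m23 card_m23 hx (cent23 hx) c23.e c23.t c23.wl c23.c c23.b ok23
  obtain ⟨Q, V, hQ, -, hV, hVok⟩ := exists_col nonab_co2 card_co2 hy (k := 1)
    (by rw [mul_one]; exact H217.EP.Co2.cent_23 hy) c23.e c23.t c23.wl c23.c c23.b ok23'
  obtain ⟨f, hf⟩ := H352.NoECo.exists_m23Co2
  -- conjugate the embedding
  have hPf : Nat.card ((P : Subgroup Spor.M23).map f) = 23 := by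
    rw [Nat.card_congr ((P : Subgroup Spor.M23).equivMapOfInjective f hf).toEquiv.symm]
    exact hP
  have hpg : IsPGroup 23 ((P : Subgroup Spor.M23).map f) := IsPGroup.of_card (n := 1) (by rw [hPf, pow_one])
  obtain ⟨Q', hQ'⟩ := hpg.exists_le_sylow
  obtain ⟨g, hg⟩ := MulAction.exists_smul_eq Spor.Co2 Q' Q
  have hQ'c : Nat.card Q' = 23 := (Q'.card_eq_multiplicity.trans Q.card_eq_multiplicity.symm).trans hQ
  have hQ'e : (Q' : Subgroup Spor.Co2) = (P : Subgroup Spor.M23).map f :=
    (Subgroup.eq_of_le_of_card_ge hQ' (by rw [hPf]; exact hQ'c.le)).symm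
  let f' : Spor.M23 →* Spor.Co2 := (MulAut.conj g).toMonoidHom.comp f
  have hf' : Function.Injective f' := (MulAut.conj g).injective.comp hf
  have hQP : (Q : Subgroup Spor.Co2) = (P : Subgroup Spor.M23).map f' := by
    rw [← hg, Sylow.coe_subgroup_smul, hQ'e]
    rw [← Subgroup.map_map]
    rfl
  -- the restriction
  obtain ⟨m, hm1, hm2⟩ := H678.Constit.exists_decomp (isCharacter_comp f' (isIrr_isCharacter χ.2))
  have hdeg : charDegree ((χ : Spor.Co2 → ℂ) ∘ f') = 264 := by
    have h1 : (charDegree ((χ : Spor.Co2 → ℂ) ∘ f') : ℂ) = (charDegree (χ : Spor.Co2 → ℂ) : ℂ) := by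
      rw [H686.CharKit.charDegree_cast (isCharacter_comp f' (isIrr_isCharacter χ.2)), Function.comp_apply, map_one,
        H686.CharKit.charDegree_cast (isIrr_isCharacter χ.2)]
    rw [h264] at h1
    exact_mod_cast h1
  have hcol : V χ = ∑ ψ : IrrCharacter Spor.M23, (m ψ : ℤ) * W ψ := by
    have h1 := hV χ
    rw [hQP, csum_map f' hf'] at h1
    have h2 : (fun a => (χ : Spor.Co2 → ℂ) (f' a)) = ∑ ψ : IrrCharacter Spor.M23, m ψ • (ψ : Spor.M23 → ℂ) := hm1
    rw [h2, csum_sum] at h1
    have h3 : (c23.e : ℂ) * (V χ : ℂ) = (c23.e : ℂ) * ((∑ ψ : IrrCharacter Spor.M23, (m ψ : ℤ) * W ψ : ℤ) : ℂ) := by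
      rw [h1]
      push_cast
      rw [Finset.mul_sum]
      refine Finset.sum_congr rfl fun ψ _ => ?_
      rw [← hW ψ]
      ring
    have h4 : (c23.e : ℂ) ≠ 0 := by
      have : c23.e = 11 := rfl
      rw [this]; norm_num
    exact_mod_cast mul_left_cancel₀ h4 h3
  -- the column of `χ` is odd
  have hodd : V χ = -1 := by
    have h1 := hVok.mem χ
    have h2 : H653.Sieve.deg χ = 264 := h264
    rw [h2] at h1
    have h3 : ((11, V χ) : ℕ × ℤ) ∈ [(0, 0), (1, 2), (11, -1), (12, 1), (22, -2)] := h1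
    simpa using h3
  -- the columns of the constituents are even
  have heven : ∀ ψ : IrrCharacter Spor.M23, m ψ ≠ 0 → (2 : ℤ) ∣ W ψ := by
    intro ψ hψ
    have h1 : charDegree (ψ : Spor.M23 → ℂ) ≤ 264 := by
      rw [← hdeg]
      have h3 : m ψ * charDegree (ψ : Spor.M23 → ℂ) ≤
          ∑ ψ : IrrCharacter Spor.M23, m ψ * charDegree (ψ : Spor.M23 → ℂ) :=
        Finset.single_le_sum (f := fun ψ : IrrCharacter Spor.M23 => m ψ * charDegree (ψ : Spor.M23 → ℂ))
          (fun _ _ => Nat.zero_le _) (Finset.mem_univ ψ)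
      rw [← hm2] at h3
      exact (Nat.le_mul_of_pos_left _ (Nat.pos_of_ne_zero hψ)).trans h3
    obtain ⟨h2, h3⟩ := m23_deg ψ h1
    have h4 := hWok.mem ψ
    have h5 : ((H653.Sieve.deg ψ % 23, W ψ) : ℕ × ℤ) ∈ [(0, 0), (1, 2), (11, -1), (12, 1), (22, -2)] := h4
    have h6 : H653.Sieve.deg ψ = charDegree (ψ : Spor.M23 → ℂ) := rfl
    rw [← h6] at h2 h3
    simp only [List.mem_cons, Prod.mk.injEq, List.not_mem_nil, or_false] at h5
    rcases h5 with ⟨-, h⟩ | ⟨-, h⟩ | ⟨h, -⟩ | ⟨h, -⟩ | ⟨-, h⟩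
    · rw [h]; norm_num
    · rw [h]
    · exact absurd h h2
    · exact absurd h h3
    · rw [h]; norm_num
  have h2 : (2 : ℤ) ∣ V χ := by
    rw [hcol]
    refine Finset.dvd_sum fun ψ _ => ?_
    by_cases hψ : m ψ = 0
    · rw [hψ]; simp
    · exact Dvd.dvd.mul_left (heven ψ hψ) _
  rw [hodd] at h2
  omega

/-! ### The numerical conditions -/

theorem mem_23 : 23 ∈ charDegrees Spor.Co2 := by
  obtain ⟨χ, h⟩ := H843.IMC.Co2A.hasDeg_23
  exact ⟨χ, h⟩

theorem mem_275 : 275 ∈ charDegrees Spor.Co2 := by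
  obtain ⟨χ, h⟩ := H843.IMC.Co2A.hasDeg_2024_275.2
  exact ⟨χ, h⟩

theorem one_or_ge {d : ℕ} (h : d ∈ charDegrees Spor.Co2) : d = 1 ∨ 23 ≤ d := by
  obtain ⟨χ, rfl⟩ := h
  by_cases h1 : (χ : Spor.Co2 → ℂ) = 1
  · left
    rw [h1, H850.Cod.charDegree_one]
  · exact Or.inr (CoT.MinDeg.deg_ge χ h1)

theorem res7 {d : ℕ} (h : d ∈ charDegrees Spor.Co2) : d % 7 ∈ [0, 1, 2, 5, 6] := by
  have := finite_co2
  have : Finite (IrrCharacter Spor.Co2) := finite_irr
  have := Fintype.ofFinite (IrrCharacter Spor.Co2)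
  obtain ⟨χ, rfl⟩ := h
  exact H217.EP.Co2.res7 χ

theorem res23 {d : ℕ} (h : d ∈ charDegrees Spor.Co2) : (c23.wl.any fun rw => Nat.beq (d % 23) rw.1) = true := by
  have := finite_co2
  obtain ⟨χ, rfl⟩ := h
  obtain ⟨x, hx⟩ := exists_ord card_co2 (p := 23) (by norm_num) (by norm_num) (by norm_num)
  exact H511.Ore.res_of_has nonab_co2 card_co2 (c := c23)
    ⟨by norm_num [c23], x, hx, by rw [H217.EP.Co2.cent_23 hx]; rfl⟩ ok23' χ

theorem res11 {d : ℕ} (h : d ∈ charDegrees Spor.Co2) : (c11.wl.any fun rw => Nat.beq (d % 11) rw.1) = true := by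
  have := finite_co2
  obtain ⟨χ, rfl⟩ := h
  obtain ⟨x, hx⟩ := exists_ord card_co2 (p := 11) (by norm_num) (by norm_num) (by norm_num)
  exact H511.Ore.res_of_has nonab_co2 card_co2 (c := c11)
    ⟨by norm_num [c11], x, hx, by rw [H217.EP.Co2.cent_eleven hx]; rfl⟩ ok11' χ

theorem not_6325 : 275 * 23 ∉ charDegrees Spor.Co2 := fun h => by
  have := res7 h
  revert this
  decide

theorem kill : Kill (charDegrees Spor.Co2) 23 := by
  refine ⟨fun p k hp hk => ⟨275, mem_275, ?_, not_6325⟩, fun q a hq ha hqa => ⟨275, mem_275, fun e he hef => ?_⟩⟩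
  · intro h
    have h1 : p ∣ 23 := by
      have hk0 : k ≠ 0 := by rintro rfl; norm_num at hk
      rw [hk]; exact dvd_pow_self p hk0
    have h2 : p ∣ 1 := by
      have := Nat.dvd_gcd h h1
      have e : Nat.gcd 275 23 = 1 := by decide
      rwa [e] at this
    exact hp.one_lt.ne' (Nat.dvd_one.1 h2)
  · have h1 : 275 / e = 1 := by
      have h2 : 275 / e ∣ 275 := Nat.div_dvd_of_dvd he
      have h3 := Nat.dvd_gcd h2 hef
      have e' : Nat.gcd 275 23 = 1 := by decide
      rw [e'] at h3
      exact Nat.dvd_one.1 h3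
    have h2 : e = 275 := by
      obtain ⟨c, hc⟩ := he
      have he0 : 0 < e := Nat.pos_of_ne_zero (by rintro rfl; simp at hc)
      rw [hc, Nat.mul_div_cancel_left _ he0] at h1
      rw [h1, mul_one] at hc
      exact hc.symm
    subst h2
    refine ⟨by rw [mul_comm]; exact not_6325, fun hd => ?_⟩
    -- the prime is 5 or 11
    have h3 : q ∣ 275 ^ 2 := (dvd_pow_self q ha.ne').trans hd
    have h4 : q ∣ 275 := hq.dvd_of_dvd_pow h3
    have h5 : q = 5 ∨ q = 11 := by
      have e' : 275 = 5 * (5 * 11) := by norm_num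
      rw [e'] at h4
      rcases (Nat.Prime.dvd_mul hq).1 h4 with h | h
      · exact Or.inl ((Nat.prime_dvd_prime_iff_eq hq (by norm_num)).1 h)
      · rcases (Nat.Prime.dvd_mul hq).1 h with h | h
        · exact Or.inl ((Nat.prime_dvd_prime_iff_eq hq (by norm_num)).1 h)
        · exact Or.inr ((Nat.prime_dvd_prime_iff_eq hq (by norm_num)).1 h)
    have hle : q ^ a ≤ 75625 := Nat.le_of_dvd (by norm_num) hd
    rcases h5 with rfl | rfl
    · have h6 : a < 7 := by
        by_contra hcon
        push Not at hcon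
        have := Nat.pow_le_pow_right (n := 5) (by norm_num) hcon
        omega
      have h7 : a < 5 := by
        by_contra hcon
        have h8 : 5 ^ 5 ∣ 275 ^ 2 := (pow_dvd_pow 5 (by omega)).trans hd
        revert h8
        decide
      interval_cases a <;> revert hqa <;> decide
    · have h6 : a < 3 := by
        by_contra hcon
        have h8 : 11 ^ 3 ∣ 275 ^ 2 := (pow_dvd_pow 11 (by omega)).trans hd
        revert h8
        decide
      interval_cases a <;> revert hqa <;> decide

/-- the orbit lengths -/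
def tstO (o : ℕ) : Bool :=
  Nat.ble o 1 || (Nat.beq (o % 23) 0 || ((!(Nat.beq (267168 % o) 0) || !(Nat.beq (42305421312000 % o) 0)) || (Nat.ble o 22 ||
    (!(c23.wl.any fun rw => Nat.beq (o % 23) rw.1) || (!(c11.wl.any fun rw => Nat.beq (o % 11) rw.1) ||
      (!([0, 1, 2, 5, 6].any fun r => Nat.beq (o % 7) r) || Nat.beq o 264))))))

theorem tst_ok : (List.range 529).all tstO = true := by decide +kernel

theorem gl_23 : gl 23 1 = 267168 := by
  simp [gl, Finset.prod_range_succ]

theorem sc1 : SC1 (charDegrees Spor.Co2) 23 := by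
  refine SC1.of_coprime (by norm_num) fun s c o t hs hc hsc ho hos hso hog ht hm => ?_
  have h1 : s ∣ 23 := (dvd_pow_self s (by omega)).trans hsc
  have h2 : s = 23 := (Nat.prime_dvd_prime_iff_eq hs (by norm_num)).1 h1
  subst h2
  have h3 : c = 1 := by
    by_contra hcon
    have h4 : 23 ^ 2 ∣ 23 := (pow_dvd_pow 23 (by omega)).trans hsc
    revert h4
    decide
  subst h3
  have h4 : t = 1 := by
    have e : 23 / 23 ^ 1 = 1 := by decide
    rw [e] at ht
    exact Nat.dvd_one.1 ht
  subst h4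
  rw [mul_one] at hm
  rw [gl_23] at hog
  have h5 : o < 529 := hos
  have h6 := List.all_eq_true.1 tst_ok o (List.mem_range.2 h5)
  have a1 : Nat.ble o 1 = false := by
    rw [Bool.eq_false_iff]; intro h; have := Nat.le_of_ble_eq_true h; omega
  have a2 : Nat.beq (o % 23) 0 = false := by
    rw [Bool.eq_false_iff]; intro h; exact hso (Nat.dvd_of_mod_eq_zero (Nat.eq_of_beq_eq_true h))
  have a3 : Nat.beq (267168 % o) 0 = true := by rw [Nat.mod_eq_zero_of_dvd hog]; rfl
  have a3' : Nat.beq (42305421312000 % o) 0 = true := by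
    have h7 : o ∣ 42305421312000 := by
      rw [← card_co2]
      have := finite_co2
      obtain ⟨χ, hχ⟩ := hm
      rw [← hχ]
      exact H511.Ore.charDegree_dvd χ
    rw [Nat.mod_eq_zero_of_dvd h7]; rfl
  have a4 : Nat.ble o 22 = false := by
    rw [Bool.eq_false_iff]; intro h; have := Nat.le_of_ble_eq_true h
    rcases one_or_ge hm with h' | h' <;> omega
  have a5 : ([0, 1, 2, 5, 6].any fun r => Nat.beq (o % 7) r) = true := by
    rw [List.any_eq_true]
    exact ⟨_, res7 hm, Nat.beq_refl _⟩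
  rw [tstO, a1, a2, a3, a3', a4, res23 hm, res11 hm, a5] at h6
  simp only [Bool.not_true, Bool.false_or] at h6
  have h7 : o = 264 := Nat.eq_of_beq_eq_true h6
  obtain ⟨χ, hχ⟩ := hm
  exact ne_264 χ (hχ.trans h7)

/-- **No solvable group has the character degrees of `Co2`.** -/
theorem solv' : Solv.{u} (charDegrees Spor.Co2) :=
  H185.S8.solv_of_numMin ⟨23, mem_23, by norm_num, fun _ hd => one_or_ge hd, kill, sc1⟩

/-- **SOLV for `Co2`.** -/
theorem solv {X : Type v} [Group X] (hX : Spor.IsoCo2 X) {D : Set ℕ} (h : Deg 1 X D) : Solv.{u} D := by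
  rcases h with h | ⟨h, -⟩
  · obtain ⟨e⟩ := hX
    rw [h, H424.DegTools.charDegrees_congr e]
    exact solv'
  · omega

end Cfsg.Agent.H612.S8.Co2

private theorem dce_dc5467254306 : _root_.True := by
  try have : _root_.True := by simp only [_root_.Cfsg.Agent.H612.S8.Co2.c23.eq_1]
  try have : _root_.True := by simp only [_root_.Cfsg.Agent.H704.S8.gl.eq_1]
  try have : _root_.True := by simp only [_root_.Cfsg.Agent.H612.S8.Co2.c7.eq_1]
  try have : _root_.True := by simp only [_root_.Cfsg.Agent.H42.S8.M23.L.eq_1]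
  try have : _root_.True := by simp only [_root_.Cfsg.Agent.H612.S8.Co2.tstO.eq_1]
  try have : _root_.True := by simp only [_root_.Cfsg.Agent.H612.S8.Co2.c11.eq_1]
  exact _root_.True.intro
end
end
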